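import Cfsg.Agent.EqLemmas
import Cfsg.Agent.Lib.Linear.GenTools

/-!
# Transvection classes and the standard automorphisms of PSL
* `T v w` : the class of `x ↦ x + (w ⬝ x) v` (junk 1 unless `w ⬝ v = 0`); `T_eq_one_iff`, `T_inj`, `T_mul`
* `cgrp v`, `agrp w` : the centre group / the axis group
* `semi g σ : MulAut PSL`, `invT : MulAut PSL`, their composition rules and their effect on `T`
-/

set_option autoImplicit false

open Matrix
open scoped MatrixGroups

namespace Cfsg.Agent.AutPSL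

variable {n : Type} [Fintype n] [DecidableEq n] {F : Type*} [Field F]

/-- The class map `SL → PSL`. -/
def proj (n : Type) [Fintype n] [DecidableEq n] (F : Type*) [Field F] :
    Matrix.SpecialLinearGroup n F →* ProjectiveSpecialLinearGroup n F :=
  QuotientGroup.mk' _

theorem proj_surjective : Function.Surjective (proj n F) := QuotientGroup.mk'_surjective _

theorem proj_eq_iff {s t : Matrix.SpecialLinearGroup n F} :
    proj n F s = proj n F t ↔ ∃ c : F, c ^ Fintype.card n = 1 ∧ (t : Matrix n n F) = c • (s : Matrix n n F) := by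
  rw [proj, QuotientGroup.mk'_eq_mk']
  constructor
  · rintro ⟨z, hz, rfl⟩
    obtain ⟨r, hr, hr'⟩ := Matrix.SpecialLinearGroup.mem_center_iff.mp hz
    refine ⟨r, hr, ?_⟩
    rw [Matrix.SpecialLinearGroup.coe_mul, ← hr', Matrix.scalar_apply]
    ext i j; simp [Matrix.mul_diagonal, mul_comm]
  · rintro ⟨c, hc, h⟩
    refine ⟨s⁻¹ * t, Matrix.SpecialLinearGroup.mem_center_iff.mpr ⟨c, hc, ?_⟩, by group⟩
    rw [Matrix.SpecialLinearGroup.coe_mul, h, Matrix.mul_smul, ← Matrix.SpecialLinearGroup.coe_mul, inv_mul_cancel,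
      Matrix.SpecialLinearGroup.coe_one, Matrix.scalar_apply]
    ext i j; by_cases hij : i = j <;> simp [hij]

/-- An element acting by scalars on all vectors is trivial in `PSL`. -/
theorem proj_eq_one_of_forall [Nonempty n] {s : Matrix.SpecialLinearGroup n F} {c : F}
    (h : (s : Matrix n n F) = c • (1 : Matrix n n F)) : proj n F s = 1 := by
  rw [← map_one (proj n F), eq_comm, proj_eq_iff]
  refine ⟨c, ?_, by simpa using h⟩
  have := s.2
  rw [h, Matrix.det_smul, Matrix.det_one, mul_one] at this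
  exact this

/-! ### Transvections -/

theorem vecMulVec_mul_vecMulVec' (v w v' w' : n → F) :
    vecMulVec v w * vecMulVec v' w' = (w ⬝ᵥ v') • vecMulVec v w' := by
  ext i j
  simp only [Matrix.mul_apply, vecMulVec_apply, Matrix.smul_apply, smul_eq_mul, dotProduct, Finset.sum_mul]
  exact Finset.sum_congr rfl fun k _ => by ring

theorem det_one_add_rk1 {v w : n → F} (h : w ⬝ᵥ v = 0) : (1 + vecMulVec v w).det = 1 := by
  rw [Matrix.vecMulVec_eq Unit, Matrix.det_one_add_replicateCol_mul_replicateRow, h, add_zero]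

open Classical in
/-- The transvection `x ↦ x + (w ⬝ x) v` in `SL` (junk 1 unless `w ⬝ v = 0`). -/
noncomputable def tS (v w : n → F) : Matrix.SpecialLinearGroup n F :=
  if h : w ⬝ᵥ v = 0 then ⟨1 + vecMulVec v w, det_one_add_rk1 h⟩ else 1

theorem tS_coe {v w : n → F} (h : w ⬝ᵥ v = 0) : (tS v w : Matrix n n F) = 1 + vecMulVec v w := by
  rw [show tS v w = ⟨_, det_one_add_rk1 h⟩ from dif_pos h]

theorem tS_mulVec {v w : n → F} (h : w ⬝ᵥ v = 0) (x : n → F) :
    (tS v w : Matrix n n F) *ᵥ x = x + (w ⬝ᵥ x) • v := by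
  rw [tS_coe h, Matrix.add_mulVec, Matrix.one_mulVec, Matrix.vecMulVec_mulVec]
  ext i; simp [mul_comm]

theorem tS_vecMul {v w : n → F} (h : w ⬝ᵥ v = 0) (x : n → F) :
    x ᵥ* (tS v w : Matrix n n F) = x + (x ⬝ᵥ v) • w := by
  rw [tS_coe h, Matrix.vecMul_add, Matrix.vecMul_one, Matrix.vecMul_vecMulVec]

theorem tS_add {v w w' : n → F} (h : w ⬝ᵥ v = 0) (h' : w' ⬝ᵥ v = 0) :
    tS v (w + w') = tS v w * tS v w' := by
  apply Subtype.ext
  rw [Matrix.SpecialLinearGroup.coe_mul, tS_coe (by rw [add_dotProduct, h, h', add_zero]), tS_coe h, tS_coe h',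
    add_mul, one_mul, mul_add, mul_one, vecMulVec_mul_vecMulVec', h, zero_smul, add_zero, Matrix.vecMulVec_add,
    add_assoc, add_comm (vecMulVec v w)]

theorem tS_zero (v : n → F) : tS v (0 : n → F) = 1 := by
  apply Subtype.ext
  rw [tS_coe (zero_dotProduct v), Matrix.SpecialLinearGroup.coe_one]
  simp

theorem tS_smul {v w : n → F} (h : w ⬝ᵥ v = 0) (k : F) : tS (k • v) w = tS v (k • w) := by
  apply Subtype.ext
  rw [tS_coe (by rw [dotProduct_smul, h, smul_zero]), tS_coe (by rw [smul_dotProduct, h, smul_zero])]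
  ext i j; simp [vecMulVec_apply, mul_comm, mul_assoc, mul_left_comm]

/-- The class of the transvection `x ↦ x + (w ⬝ x) v`. -/
noncomputable def T (v w : n → F) : ProjectiveSpecialLinearGroup n F := proj n F (tS v w)

theorem T_add {v w w' : n → F} (h : w ⬝ᵥ v = 0) (h' : w' ⬝ᵥ v = 0) : T v (w + w') = T v w * T v w' := by
  rw [T, T, T, tS_add h h', map_mul]

theorem T_zero_right (v : n → F) : T v (0 : n → F) = 1 := by rw [T, tS_zero, map_one]

theorem T_smul {v w : n → F} (h : w ⬝ᵥ v = 0) (k : F) : T (k • v) w = T v (k • w) := by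
  rw [T, T, tS_smul h]

theorem T_zero_left (w : n → F) : T (0 : n → F) w = 1 := by
  rw [show (0 : n → F) = (0 : F) • (0 : n → F) by simp, T_smul (by simp), zero_smul, T_zero_right]

theorem T_inv {v w : n → F} (h : w ⬝ᵥ v = 0) : (T v w)⁻¹ = T v (-w) :=
  inv_eq_of_mul_eq_one_right (by
    rw [← T_add h (by rw [neg_dotProduct, h, neg_zero]), add_neg_cancel, T_zero_right])

theorem T_add_left {v v' w : n → F} (h : w ⬝ᵥ v = 0) (h' : w ⬝ᵥ v' = 0) : T (v + v') w = T v w * T v' w := by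
  rw [T, T, T, ← map_mul]
  congr 1
  apply Subtype.ext
  rw [Matrix.SpecialLinearGroup.coe_mul, tS_coe (by rw [dotProduct_add, h, h', add_zero]), tS_coe h, tS_coe h',
    add_mul, one_mul, mul_add, mul_one, vecMulVec_mul_vecMulVec', h', zero_smul, add_zero, Matrix.add_vecMulVec,
    add_assoc, add_comm (vecMulVec v w)]

theorem T_inv_left {v w : n → F} (h : w ⬝ᵥ v = 0) : (T v w)⁻¹ = T (-v) w :=
  inv_eq_of_mul_eq_one_right (by
    rw [← T_add_left h (by rw [dotProduct_neg, h, neg_zero]), add_neg_cancel, T_zero_left])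

/-- Nonzero proportional vectors. -/
def Par (a b : n → F) : Prop := ∃ k : F, k ≠ 0 ∧ b = k • a

omit [Fintype n] [DecidableEq n] in
theorem Par.refl (a : n → F) : Par a a := ⟨1, one_ne_zero, (one_smul F a).symm⟩

omit [Fintype n] [DecidableEq n] in
theorem Par.symm {a b : n → F} : Par a b → Par b a
  | ⟨k, hk, h⟩ => ⟨k⁻¹, inv_ne_zero hk, by rw [h, smul_smul, inv_mul_cancel₀ hk, one_smul]⟩

omit [Fintype n] [DecidableEq n] in
theorem Par.trans {a b c : n → F} : Par a b → Par b c → Par a c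
  | ⟨k, hk, h⟩, ⟨l, hl, h'⟩ => ⟨l * k, mul_ne_zero hl hk, by rw [h', h, smul_smul]⟩

omit [Fintype n] [DecidableEq n] in
theorem vecMulVec_eq_iff {v w v' w' : n → F} (hv : v ≠ 0) (hw : w ≠ 0)
    (h : vecMulVec v w = vecMulVec v' w') : ∃ k : F, k ≠ 0 ∧ v' = k • v ∧ w = k • w' := by
  obtain ⟨i, hi⟩ := Function.ne_iff.mp hv
  obtain ⟨j, hj⟩ := Function.ne_iff.mp hw
  have he : ∀ a b, v a * w b = v' a * w' b := fun a b => congrFun (congrFun h a) b
  simp only [Pi.zero_apply] at hi hj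
  have hv' : v' i ≠ 0 := left_ne_zero_of_mul (he i j ▸ mul_ne_zero hi hj)
  have hw' : w' j ≠ 0 := right_ne_zero_of_mul (he i j ▸ mul_ne_zero hi hj)
  refine ⟨w j / w' j, div_ne_zero hj hw', funext fun a => ?_, funext fun b => ?_⟩
  · rw [Pi.smul_apply, smul_eq_mul, div_mul_eq_mul_div, eq_div_iff hw', mul_comm (w j), he]
  · rw [Pi.smul_apply, smul_eq_mul, div_mul_eq_mul_div, eq_div_iff hw']
    apply mul_left_cancel₀ hi
    linear_combination (w' j) * he i b - (w' b) * he i j

/-- A scalar multiple of a transvection is a transvection only for the scalar one. -/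
theorem scalar_eq_one {v w v' w' : n → F} (hv : v ≠ 0) (hwv : w ⬝ᵥ v = 0) (hwv' : w' ⬝ᵥ v' = 0) {c : F}
    (h : (1 : Matrix n n F) + vecMulVec v' w' = c • (1 + vecMulVec v w)) : c = 1 := by
  have e := congrArg (fun M : Matrix n n F => M *ᵥ v) h
  simp only [Matrix.add_mulVec, Matrix.one_mulVec, Matrix.vecMulVec_mulVec, Matrix.smul_mulVec, hwv] at e
  have e' : v + (w' ⬝ᵥ v) • v' = c • v := by
    ext i
    have := congrFun e i
    simp at this ⊢
    linear_combination this
  by_contra hc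
  have hv' : (w' ⬝ᵥ v) • v' = (c - 1) • v := by
    rw [sub_smul, one_smul, ← e']; abel
  have := congrArg (fun x => w' ⬝ᵥ x) hv'
  simp only [dotProduct_smul, hwv', smul_eq_mul, mul_zero] at this
  have hz : w' ⬝ᵥ v = 0 := (mul_eq_zero.mp this.symm).resolve_left (sub_ne_zero.mpr hc)
  rw [hz, zero_smul] at hv'
  exact hv ((smul_eq_zero.mp hv'.symm).resolve_left (sub_ne_zero.mpr hc))

/-- Equality of nontrivial transvection classes. -/
theorem T_inj {v w v' w' : n → F} (hv : v ≠ 0) (hw : w ≠ 0) (h : w ⬝ᵥ v = 0) (h' : w' ⬝ᵥ v' = 0)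
    (he : T v w = T v' w') : ∃ k : F, k ≠ 0 ∧ v' = k • v ∧ w = k • w' := by
  obtain ⟨c, -, hc⟩ := proj_eq_iff.mp he
  rw [tS_coe h', tS_coe h] at hc
  have hc1 := scalar_eq_one hv h h' hc
  rw [hc1, one_smul, add_right_inj] at hc
  exact vecMulVec_eq_iff hv hw hc.symm

theorem T_ne_one [Nontrivial n] {v w : n → F} (hv : v ≠ 0) (hw : w ≠ 0) (h : w ⬝ᵥ v = 0) : T v w ≠ 1 := by
  intro he
  obtain ⟨k, hk, hk', -⟩ := T_inj hv hw h (v' := (0 : n → F)) (w' := (0 : n → F)) (by simp) (by rw [he, T_zero_right])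
  exact hv ((smul_eq_zero.mp hk'.symm).resolve_left hk)

/-- The centre group of the point `v`. -/
noncomputable def cgrp (v : n → F) : Subgroup (ProjectiveSpecialLinearGroup n F) where
  carrier := {x | ∃ w, w ⬝ᵥ v = 0 ∧ x = T v w}
  one_mem' := ⟨0, zero_dotProduct v, (T_zero_right v).symm⟩
  mul_mem' := by
    rintro _ _ ⟨w, hw, rfl⟩ ⟨w', hw', rfl⟩
    exact ⟨w + w', by rw [add_dotProduct, hw, hw', add_zero], (T_add hw hw').symm⟩
  inv_mem' := by
    rintro _ ⟨w, hw, rfl⟩
    exact ⟨-w, by rw [neg_dotProduct, hw, neg_zero], T_inv hw⟩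

/-- The axis group of the hyperplane with normal `w`. -/
noncomputable def agrp (w : n → F) : Subgroup (ProjectiveSpecialLinearGroup n F) where
  carrier := {x | ∃ v, w ⬝ᵥ v = 0 ∧ x = T v w}
  one_mem' := ⟨0, dotProduct_zero w, (T_zero_left w).symm⟩
  mul_mem' := by
    rintro _ _ ⟨v, hv, rfl⟩ ⟨v', hv', rfl⟩
    exact ⟨v + v', by rw [dotProduct_add, hv, hv', add_zero], (T_add_left hv hv').symm⟩
  inv_mem' := by
    rintro _ ⟨v, hv, rfl⟩
    exact ⟨-v, by rw [dotProduct_neg, hv, neg_zero], T_inv_left hv⟩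

theorem mem_cgrp {v : n → F} {x : ProjectiveSpecialLinearGroup n F} :
    x ∈ cgrp v ↔ ∃ w, w ⬝ᵥ v = 0 ∧ x = T v w := Iff.rfl

theorem mem_agrp {w : n → F} {x : ProjectiveSpecialLinearGroup n F} :
    x ∈ agrp w ↔ ∃ v, w ⬝ᵥ v = 0 ∧ x = T v w := Iff.rfl

theorem cgrp_congr {v v' : n → F} (h : Par v v') : cgrp v' = cgrp v := by
  have key : ∀ {a b : n → F}, Par a b → cgrp b ≤ cgrp a := by
    rintro a b ⟨k, hk, rfl⟩ x ⟨w, hw, rfl⟩
    rw [dotProduct_smul, smul_eq_zero] at hw
    exact ⟨k • w, by rw [smul_dotProduct, hw.resolve_left hk, smul_zero], T_smul (hw.resolve_left hk) k⟩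
  exact le_antisymm (key h) (key h.symm)

theorem agrp_congr {w w' : n → F} (h : Par w w') : agrp w' = agrp w := by
  have key : ∀ {a b : n → F}, Par a b → agrp b ≤ agrp a := by
    rintro a b ⟨k, hk, rfl⟩ x ⟨v, hv, rfl⟩
    rw [smul_dotProduct, smul_eq_zero] at hv
    exact ⟨k • v, by rw [dotProduct_smul, hv.resolve_left hk, smul_zero], (T_smul (hv.resolve_left hk) k).symm⟩
  exact le_antisymm (key h) (key h.symm)

theorem T_mem_cgrp_iff [Nontrivial n] {v w u : n → F} (hv : v ≠ 0) (hw : w ≠ 0) (h : w ⬝ᵥ v = 0) :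
    T v w ∈ cgrp u ↔ Par v u := by
  constructor
  · rintro ⟨z, hz, he⟩
    obtain ⟨k, hk, hk', -⟩ := T_inj hv hw h hz he
    exact ⟨k, hk, hk'⟩
  · intro hp
    rw [cgrp_congr hp]
    exact ⟨w, h, rfl⟩

theorem T_mem_agrp_iff [Nontrivial n] {v w u : n → F} (hv : v ≠ 0) (hw : w ≠ 0) (h : w ⬝ᵥ v = 0) :
    T v w ∈ agrp u ↔ Par w u := by
  constructor
  · rintro ⟨z, hz, he⟩
    obtain ⟨k, hk, -, hk'⟩ := T_inj hv hw h hz he
    exact Par.symm ⟨k, hk, hk'⟩
  · intro hp
    rw [agrp_congr hp]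
    exact ⟨v, h, rfl⟩

/-! ### Semilinear and inverse-transpose automorphisms -/

/-- Apply a field automorphism to a vector. -/
def smap (σ : F ≃+* F) (v : n → F) : n → F := σ ∘ v

omit [DecidableEq n] in
theorem smap_dotProduct (σ : F ≃+* F) (v w : n → F) : smap σ v ⬝ᵥ smap σ w = σ (v ⬝ᵥ w) := by
  simp [dotProduct, smap, map_sum, map_mul]

omit [DecidableEq n] in
theorem smap_mulVec (σ : F ≃+* F) (M : Matrix n n F) (v : n → F) :
    smap σ (M *ᵥ v) = M.map σ *ᵥ smap σ v := by
  funext i; simp [smap, Matrix.mulVec, dotProduct, map_sum, map_mul]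

/-- The automorphism `s ↦ g σ(s) g⁻¹` of `SL`. -/
def semiSL (g : GL n F) (σ : F ≃+* F) : Matrix.SpecialLinearGroup n F ≃* Matrix.SpecialLinearGroup n F :=
  (Linear.slMapEquiv (ι := n) σ).trans
    { toFun := fun s => ⟨(g : Matrix n n F) * (s : Matrix n n F) * ((g⁻¹ : GL n F) : Matrix n n F), by
        rw [Matrix.det_units_conj, s.2]⟩
      invFun := fun s => ⟨((g⁻¹ : GL n F) : Matrix n n F) * (s : Matrix n n F) * (g : Matrix n n F), by
        rw [Matrix.det_units_conj', s.2]⟩
      left_inv := fun s => Subtype.ext (by simp [mul_assoc])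
      right_inv := fun s => Subtype.ext (by simp [mul_assoc])
      map_mul' := fun s t => Subtype.ext (by
        show (g : Matrix n n F) * ((s : Matrix n n F) * (t : Matrix n n F)) * ((g⁻¹ : GL n F) : Matrix n n F) =
          ((g : Matrix n n F) * (s : Matrix n n F) * ((g⁻¹ : GL n F) : Matrix n n F)) *
            ((g : Matrix n n F) * (t : Matrix n n F) * ((g⁻¹ : GL n F) : Matrix n n F))
        simp [mul_assoc]) }

theorem semiSL_coe (g : GL n F) (σ : F ≃+* F) (s : Matrix.SpecialLinearGroup n F) :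
    (semiSL g σ s : Matrix n n F) =
      (g : Matrix n n F) * (s : Matrix n n F).map σ * ((g⁻¹ : GL n F) : Matrix n n F) := rfl

/-- The automorphism of `PSL` induced by the semilinear map `v ↦ g σ(v)`. -/
noncomputable def semi (g : GL n F) (σ : F ≃+* F) : MulAut (ProjectiveSpecialLinearGroup n F) :=
  QuotientGroup.congr _ _ (semiSL g σ) (Linear.map_center_mulEquiv _)

theorem semi_proj (g : GL n F) (σ : F ≃+* F) (s : Matrix.SpecialLinearGroup n F) :
    semi g σ (proj n F s) = proj n F (semiSL g σ s) := rfl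

theorem semi_proj_eq (g : GL n F) (σ : F ≃+* F) {s s' : Matrix.SpecialLinearGroup n F}
    (h : (s' : Matrix n n F) = (g : Matrix n n F) * (s : Matrix n n F).map σ * ((g⁻¹ : GL n F) : Matrix n n F)) :
    semi g σ (proj n F s) = proj n F s' := by
  rw [semi_proj]
  exact congrArg _ (Subtype.ext h.symm)

theorem semi_T (g : GL n F) (σ : F ≃+* F) {v w : n → F} (h : w ⬝ᵥ v = 0) :
    semi g σ (T v w) = T ((g : Matrix n n F) *ᵥ smap σ v) (smap σ w ᵥ* ((g⁻¹ : GL n F) : Matrix n n F)) ∧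
      (smap σ w ᵥ* ((g⁻¹ : GL n F) : Matrix n n F)) ⬝ᵥ ((g : Matrix n n F) *ᵥ smap σ v) = 0 := by
  have h' : (smap σ w ᵥ* ((g⁻¹ : GL n F) : Matrix n n F)) ⬝ᵥ ((g : Matrix n n F) *ᵥ smap σ v) = 0 := by
    rw [← Matrix.dotProduct_mulVec, Matrix.mulVec_mulVec, Units.inv_mul, Matrix.one_mulVec, smap_dotProduct, h,
      map_zero]
  refine ⟨semi_proj_eq g σ ?_, h'⟩
  rw [tS_coe h', tS_coe h]
  have : ((1 : Matrix n n F) + vecMulVec v w).map σ = 1 + vecMulVec (smap σ v) (smap σ w) := by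
    ext i j; by_cases hij : i = j <;> simp [hij, vecMulVec_apply, smap]
  rw [this, mul_add, mul_one, add_mul, Units.mul_inv, Matrix.mul_vecMulVec, Matrix.vecMulVec_mul]

theorem semiSL_mul (g h : GL n F) (σ τ : F ≃+* F) (s : Matrix.SpecialLinearGroup n F) :
    semiSL g σ (semiSL h τ s) =
      semiSL (g * Matrix.GeneralLinearGroup.map (σ : F →+* F) h) (τ.trans σ) s := by
  apply Subtype.ext
  simp only [semiSL_coe, Matrix.map_mul, Units.val_mul, _root_.mul_inv_rev, mul_assoc]
  rw [show (((Matrix.GeneralLinearGroup.map (σ : F →+* F) h) : GL n F) : Matrix n n F) = (h : Matrix n n F).map σ from rfl,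
    ← map_inv,
    show (((Matrix.GeneralLinearGroup.map (σ : F →+* F) h⁻¹) : GL n F) : Matrix n n F) =
      ((h⁻¹ : GL n F) : Matrix n n F).map σ from rfl, Matrix.map_map]
  rfl

theorem semi_mul (g h : GL n F) (σ τ : F ≃+* F) :
    semi g σ * semi h τ = semi (g * Matrix.GeneralLinearGroup.map (σ : F →+* F) h) (τ.trans σ) := by
  refine MulEquiv.ext fun x => ?_
  obtain ⟨s, rfl⟩ := proj_surjective x
  rw [MulAut.mul_apply, semi_proj, semi_proj, semi_proj, semiSL_mul]

theorem semi_one : semi (1 : GL n F) (RingEquiv.refl F) = 1 := by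
  refine MulEquiv.ext fun x => ?_
  obtain ⟨s, rfl⟩ := proj_surjective x
  exact semi_proj_eq _ _ (by simp)

theorem semi_inv (g : GL n F) (σ : F ≃+* F) :
    (semi g σ)⁻¹ = semi (Matrix.GeneralLinearGroup.map (σ.symm : F →+* F) g⁻¹) σ.symm := by
  refine inv_eq_of_mul_eq_one_left ?_
  rw [semi_mul, ← map_mul, inv_mul_cancel, map_one, RingEquiv.self_trans_symm, semi_one]

theorem isInduced_iff {k : ℕ} (g : GL (Fin k) F) (σ : F ≃+* F)
    (β : MulAut (ProjectiveSpecialLinearGroup (Fin k) F)) :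
    IsInducedBySemilinearPSL g σ β ↔ β = semi g σ := by
  refine ⟨fun h => MulEquiv.ext fun x => ?_, ?_⟩
  · obtain ⟨s, rfl⟩ := proj_surjective x
    exact (h s (semiSL g σ s) (semiSL_coe g σ s)).trans (semi_proj g σ s).symm
  · rintro rfl s s' h
    exact semi_proj_eq g σ h

/-- Inverse transpose on `SL`. -/
def invTSL : Matrix.SpecialLinearGroup n F ≃* Matrix.SpecialLinearGroup n F where
  toFun s := Matrix.SpecialLinearGroup.transpose s⁻¹
  invFun s := (Matrix.SpecialLinearGroup.transpose s)⁻¹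
  left_inv s := by
    show (Matrix.SpecialLinearGroup.transpose (Matrix.SpecialLinearGroup.transpose s⁻¹))⁻¹ = s
    rw [inv_eq_iff_eq_inv]
    exact Subtype.ext (Matrix.transpose_transpose _)
  right_inv s := by
    show Matrix.SpecialLinearGroup.transpose ((Matrix.SpecialLinearGroup.transpose s)⁻¹)⁻¹ = s
    rw [inv_inv]
    exact Subtype.ext (Matrix.transpose_transpose _)
  map_mul' s t := Subtype.ext (by simp [_root_.mul_inv_rev, Matrix.transpose_mul, Matrix.SpecialLinearGroup.coe_transpose])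

/-- The inverse-transpose automorphism of `PSL`. -/
noncomputable def invT : MulAut (ProjectiveSpecialLinearGroup n F) :=
  QuotientGroup.congr _ _ invTSL (Linear.map_center_mulEquiv _)

theorem invT_proj (s : Matrix.SpecialLinearGroup n F) :
    invT (proj n F s) = proj n F (Matrix.SpecialLinearGroup.transpose s⁻¹) := rfl

theorem isInvT_iff {k : ℕ} (β : MulAut (ProjectiveSpecialLinearGroup (Fin k) F)) :
    IsInverseTransposeAutPSL β ↔ β = invT := by
  refine ⟨fun h => MulEquiv.ext fun x => ?_, ?_⟩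
  · obtain ⟨s, rfl⟩ := proj_surjective x
    exact (h s _ rfl).trans (invT_proj s).symm
  · rintro rfl s s' h
    exact (invT_proj s).trans (congrArg _ (Subtype.ext h.symm))

theorem invT_T {v w : n → F} (h : w ⬝ᵥ v = 0) : invT (T v w) = T w (-v) := by
  have h' : (-v) ⬝ᵥ w = 0 := by rw [neg_dotProduct, dotProduct_comm, h, neg_zero]
  rw [T, invT_proj, T]
  have hinv : (tS v w)⁻¹ = tS v (-w) :=
    inv_eq_of_mul_eq_one_right (by
      rw [← tS_add h (by rw [neg_dotProduct, h, neg_zero]), add_neg_cancel, tS_zero])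
  rw [hinv]
  congr 1
  apply Subtype.ext
  rw [Matrix.SpecialLinearGroup.coe_transpose, tS_coe (by rw [neg_dotProduct, h, neg_zero]), tS_coe h',
    Matrix.transpose_add, Matrix.transpose_one, Matrix.transpose_vecMulVec]
  ext i j; simp [vecMulVec_apply]

theorem invT_sq : (invT : MulAut (ProjectiveSpecialLinearGroup n F)) * invT = 1 := by
  refine MulEquiv.ext fun x => ?_
  obtain ⟨s, rfl⟩ := proj_surjective x
  rw [MulAut.mul_apply, invT_proj, invT_proj, MulAut.one_apply]
  congr 1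
  have h : (Matrix.SpecialLinearGroup.transpose s⁻¹)⁻¹ = Matrix.SpecialLinearGroup.transpose (s⁻¹)⁻¹ :=
    (map_inv invTSL s).symm
  rw [h, inv_inv]
  exact Subtype.ext (Matrix.transpose_transpose _)

/-- The inverse transpose of an invertible matrix. -/
def ctr (g : GL n F) : GL n F where
  val := ((g⁻¹ : GL n F) : Matrix n n F).transpose
  inv := (g : Matrix n n F).transpose
  val_inv := by rw [← Matrix.transpose_mul, Units.mul_inv, Matrix.transpose_one]
  inv_val := by rw [← Matrix.transpose_mul, Units.inv_mul, Matrix.transpose_one]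

theorem invT_semi (g : GL n F) (σ : F ≃+* F) :
    invT * semi g σ = semi (ctr g) σ * invT := by
  refine MulEquiv.ext fun x => ?_
  obtain ⟨s, rfl⟩ := proj_surjective x
  rw [MulAut.mul_apply, MulAut.mul_apply, semi_proj, invT_proj, invT_proj]
  symm
  apply semi_proj_eq
  rw [← map_inv, Matrix.SpecialLinearGroup.coe_transpose, Matrix.SpecialLinearGroup.coe_transpose, semiSL_coe,
    Matrix.transpose_mul, Matrix.transpose_mul, ← Matrix.transpose_map, ← mul_assoc]
  rfl

end Cfsg.Agent.AutPSL
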