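import Cfsg.Agent.Lib.AutPSL.Main

/-!
# Uniqueness of the semilinear description and the order of Aut PSL_n
* `semi_eq_one_iff`, `semi_eq_semi` : the kernel is the scalars
* `invT_mul_semi_ne`, `exists_semi_of_two`, `card_gamma`, `card_mulAut`
* `card_fieldAut`, `isCyclic_fieldAut`
-/

set_option autoImplicit false

open Matrix
open scoped MatrixGroups

namespace Cfsg.Agent.AutPSL

section FieldAut

variable {F : Type*} [Field F] [Fintype F] (p f : ℕ) [hp : Fact p.Prime]

theorem fieldAut_facts (hf : 1 ≤ f) (hF : Fintype.card F = p ^ f) :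
    IsCyclic (F ≃+* F) ∧ Nat.card (F ≃+* F) = f := by
  haveI : CharP F p := by
    obtain ⟨c, hc⟩ := CharP.exists F
    haveI := hc
    obtain ⟨k, hc', hk⟩ := FiniteField.card F c
    rw [hF] at hk
    have hd : p ∣ c ^ (k : ℕ) := hk ▸ dvd_pow_self p (by omega)
    rwa [(Nat.prime_dvd_prime_iff_eq hp.out hc').mp (hp.out.dvd_of_dvd_pow hd)]
  letI : Algebra (ZMod p) F := ZMod.algebra F p
  let e : (F ≃+* F) ≃* (F ≃ₐ[ZMod p] F) :=
    { toFun := fun σ => AlgEquiv.ofRingEquiv (f := σ) (fun x => RingHom.congr_fun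
        (Subsingleton.elim ((σ : F →+* F).comp (algebraMap (ZMod p) F)) (algebraMap (ZMod p) F)) x)
      invFun := fun σ => σ.toRingEquiv
      left_inv := fun σ => RingEquiv.ext fun _ => rfl
      right_inv := fun σ => AlgEquiv.ext fun _ => rfl
      map_mul' := fun σ τ => AlgEquiv.ext fun _ => rfl }
  haveI : Finite F := Finite.of_fintype F
  refine ⟨isCyclic_of_surjective e.symm e.symm.surjective, ?_⟩
  rw [Nat.card_congr e.toEquiv, IsGalois.card_aut_eq_finrank (ZMod p) F]
  have h := Module.natCard_eq_pow_finrank (K := ZMod p) (V := F)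
  rw [Nat.card_zmod, Nat.card_eq_fintype_card, hF] at h
  exact (Nat.pow_right_injective hp.out.two_le h).symm

end FieldAut

variable {F : Type*} [Field F] {m : ℕ}

local notation "PG" => ProjectiveSpecialLinearGroup (Fin (m + 2)) F

theorem semi_scalar (u : Fˣ) :
    semi (Matrix.GeneralLinearGroup.scalar (Fin (m + 2)) u) (RingEquiv.refl F) = 1 := by
  refine MulEquiv.ext fun x => ?_
  obtain ⟨s, rfl⟩ := proj_surjective x
  refine semi_proj_eq _ _ ?_
  have hc : Matrix.GeneralLinearGroup.scalar (Fin (m + 2)) u ∈ Subgroup.center (GL (Fin (m + 2)) F) := by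
    rw [Matrix.GeneralLinearGroup.center_eq_range_scalar]; exact ⟨u, rfl⟩
  have h := congrArg (fun z : GL (Fin (m + 2)) F => (z : Matrix (Fin (m + 2)) (Fin (m + 2)) F))
    (Subgroup.mem_center_iff.mp hc (Matrix.SpecialLinearGroup.toGL s))
  simp only [Units.val_mul] at h
  simp only [RingEquiv.coe_refl, Matrix.map_id]
  rw [← show (s : Matrix (Fin (m + 2)) (Fin (m + 2)) F) * _ = _ * (s : Matrix (Fin (m + 2)) (Fin (m + 2)) F) from h,
    mul_assoc, Units.mul_inv, mul_one]

/-- Only the scalars act trivially. -/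
theorem semi_eq_one_iff {g : GL (Fin (m + 2)) F} {σ : F ≃+* F} :
    semi g σ = 1 ↔ σ = RingEquiv.refl F ∧ g ∈ Subgroup.center (GL (Fin (m + 2)) F) := by
  constructor
  · intro h
    have hpar : ∀ v : Fin (m + 2) → F, v ≠ 0 → ∃ k : F, k ≠ 0 ∧ (g : Matrix (Fin (m + 2)) (Fin (m + 2)) F) *ᵥ smap σ v = k • v := by
      intro v hv
      have e := map_semi_cgrp g σ v
      rw [h] at e
      obtain ⟨k, hk, hk'⟩ := (cgrp_le_iff hv).mp (le_of_eq (((map_one_aut (cgrp v)).symm.trans e)))
      exact ⟨k, hk, hk'⟩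
    choose k hk0 hk using hpar
    have hs : ∀ (i : Fin (m + 2)) (c : F), smap σ (Pi.single i c : Fin (m + 2) → F) = Pi.single i (σ c) := by
      intro i c; ext j; simp [smap, Pi.single_apply, apply_ite σ]
    have hcol : ∀ i a, (g : Matrix (Fin (m + 2)) (Fin (m + 2)) F) a i =
        if a = i then k (Pi.single i 1) (by simp) else 0 := by
      intro i a
      have := congrFun (hk (Pi.single i 1) (by simp)) a
      rw [hs, map_one, Matrix.mulVec_single_one] at this
      simpa [Pi.single_apply] using this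
    set d : Fin (m + 2) → F := fun i => k (Pi.single i 1) (by simp)
    have hd : ∀ i, d i ≠ 0 := fun i => hk0 _ _
    have hg : (g : Matrix (Fin (m + 2)) (Fin (m + 2)) F) = Matrix.diagonal d := by
      ext a i
      rw [hcol i a]
      by_cases hai : a = i
      · subst hai; simp [d]
      · simp [hai]
    have hrel : ∀ (i j : Fin (m + 2)), i ≠ j → ∀ c : F, d j * σ c = d i * c := by
      intro i j hij c
      have hne : (Pi.single i 1 + Pi.single j c : Fin (m + 2) → F) ≠ 0 := fun h0 => by
        have := congrFun h0 i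
        simp [hij] at this
      have e := hk _ hne
      rw [hg] at e
      have hsm : smap σ (Pi.single i 1 + Pi.single j c : Fin (m + 2) → F) = Pi.single i 1 + Pi.single j (σ c) := by
        ext a
        simp [smap, Pi.single_apply, apply_ite σ]
      rw [hsm] at e
      have e1 := congrFun e i
      have e2 := congrFun e j
      simp [Matrix.mulVec_diagonal, hij, hij.symm] at e1 e2
      rw [e2, ← e1]
    have hd01 : ∀ i, d i = d 0 := by
      intro i
      by_cases hi : i = 0
      · rw [hi]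
      · simpa using hrel 0 i (Ne.symm hi) 1
    have hσ : σ = RingEquiv.refl F := by
      refine RingEquiv.ext fun c => ?_
      have := hrel 0 1 Fin.zero_ne_one c
      rw [hd01 1] at this
      exact mul_left_cancel₀ (hd 0) this
    refine ⟨hσ, ?_⟩
    rw [Matrix.GeneralLinearGroup.center_eq_range_scalar]
    refine ⟨Units.mk0 (d 0) (hd 0), Units.ext ?_⟩
    rw [Matrix.GeneralLinearGroup.coe_scalar, hg, Matrix.scalar_apply]
    ext a b
    by_cases hab : a = b
    · subst hab; simp [hd01 a]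
    · simp [hab]
  · rintro ⟨rfl, hg⟩
    rw [Matrix.GeneralLinearGroup.center_eq_range_scalar] at hg
    obtain ⟨u, rfl⟩ := hg
    exact semi_scalar u

theorem semi_refl_mul (g h : GL (Fin (m + 2)) F) :
    semi g (RingEquiv.refl F) * semi h (RingEquiv.refl F) = semi (g * h) (RingEquiv.refl F) := by
  rw [semi_mul]
  congr 2

theorem semi_eq_semi {g h : GL (Fin (m + 2)) F} {σ τ : F ≃+* F} :
    semi g σ = semi h τ ↔ σ = τ ∧ g⁻¹ * h ∈ Subgroup.center (GL (Fin (m + 2)) F) := by
  rw [← inv_mul_eq_one, semi_inv, semi_mul, ← map_mul, semi_eq_one_iff]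
  constructor
  · rintro ⟨h1, h2⟩
    have hστ : σ = τ := by
      refine RingEquiv.ext fun x => ?_
      have := RingEquiv.congr_fun h1 x
      simp only [RingEquiv.trans_apply, RingEquiv.refl_apply] at this
      conv_lhs => rw [← this]
      rw [RingEquiv.apply_symm_apply]
    refine ⟨hστ, Subgroup.mem_center_iff.mpr fun y => ?_⟩
    have h3 := Subgroup.mem_center_iff.mp h2 (Matrix.GeneralLinearGroup.map (σ.symm : F →+* F) y)
    rw [← map_mul, ← map_mul] at h3
    have hinj : Function.Injective (Matrix.GeneralLinearGroup.map (n := Fin (m + 2)) (σ.symm : F →+* F)) := by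
      intro a b hab
      refine Units.ext (Matrix.ext fun i j => σ.symm.injective ?_)
      exact congrArg (fun z : GL (Fin (m + 2)) F => (z : Matrix (Fin (m + 2)) (Fin (m + 2)) F) i j) hab
    exact hinj h3
  · rintro ⟨rfl, h2⟩
    refine ⟨RingEquiv.self_trans_symm σ, ?_⟩
    rw [Matrix.GeneralLinearGroup.center_eq_range_scalar] at h2 ⊢
    obtain ⟨u, hu⟩ := h2
    refine ⟨Units.map σ.symm.toRingHom.toMonoidHom u, ?_⟩
    rw [← hu]
    refine Units.ext ?_
    show Matrix.scalar (Fin (m + 2)) (σ.symm (u : F)) = (Matrix.scalar (Fin (m + 2)) (u : F)).map σ.symm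
    ext i j
    by_cases hij : i = j <;> simp [hij]

theorem centrePres_invT_false (hm : 1 ≤ m) : ¬ CentrePres (invT : MulAut PG) := by
  intro h
  obtain ⟨v, hv, he⟩ := h _ eFirst_ne
  rw [map_invT_cgrp] at he
  let i1 : Fin (m + 2) := ⟨1, by omega⟩
  let i2 : Fin (m + 2) := ⟨2, by omega⟩
  have h10 : i1 ≠ 0 := Fin.ne_of_val_ne (show (1 : ℕ) ≠ 0 by omega)
  have h20 : i2 ≠ 0 := Fin.ne_of_val_ne (show (2 : ℕ) ≠ 0 by omega)
  have h12 : i1 ≠ i2 := Fin.ne_of_val_ne (show (1 : ℕ) ≠ 2 by omega)
  have key : ∀ i : Fin (m + 2), i ≠ 0 → Par (Pi.single i (1 : F) : Fin (m + 2) → F) v := by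
    intro i hi
    have h0 : eFirst F m ⬝ᵥ Pi.single i 1 = 0 := by simp [eFirst, hi.symm, hi]
    have hmem : T (Pi.single i 1) (eFirst F m) ∈ cgrp v := he ▸ ⟨_, h0, rfl⟩
    exact (T_mem_cgrp_iff (by simp) eFirst_ne h0).mp hmem
  obtain ⟨k, hk, hk'⟩ := (key i1 h10).trans (key i2 h20).symm
  have := congrFun hk' i2
  simp [h12.symm] at this

theorem semi_mul_invT_ne (hm : 1 ≤ m) (g h : GL (Fin (m + 2)) F) (σ τ : F ≃+* F) :
    semi g σ ≠ semi h τ * invT := by
  intro he
  apply centrePres_invT_false (F := F) hm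
  rw [show (invT : MulAut PG) = (semi h τ)⁻¹ * semi g σ by rw [he, inv_mul_cancel_left], semi_inv]
  exact centrePres_mul (centrePres_semi _ _) (centrePres_semi _ _)

theorem cgrp_eq_agrp_two {v : Fin 2 → F} : cgrp (n := Fin 2) v = agrp ![-v 1, v 0] := by
  ext x
  constructor
  · rintro ⟨w, hw, rfl⟩
    simp [dotProduct, Fin.sum_univ_two] at hw
    by_cases hv : v = 0
    · subst hv
      rw [T_zero_left]; exact one_mem _
    · obtain ⟨c, hc⟩ : ∃ c : F, w = c • ![-v 1, v 0] := by
        by_cases h0 : v 0 = 0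
        · have h1 : v 1 ≠ 0 := fun h1 => hv (by ext i; fin_cases i <;> simp [h0, h1])
          refine ⟨-(w 0) / v 1, ?_⟩
          have hw1 : w 1 = 0 := by simpa [h0, h1] using hw
          ext i; fin_cases i <;> simp [h0, hw1]
          field_simp
        · refine ⟨w 1 / v 0, ?_⟩
          ext i; fin_cases i <;> simp
          · field_simp; linear_combination hw
          · field_simp
      have hd : ![-v 1, v 0] ⬝ᵥ v = 0 := by simp [dotProduct, Fin.sum_univ_two]; ring
      refine ⟨c • v, by rw [dotProduct_smul, hd, smul_zero], ?_⟩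
      rw [T_smul hd, ← hc]
  · rintro ⟨u, hu, rfl⟩
    simp [dotProduct, Fin.sum_univ_two] at hu
    by_cases hv : v = 0
    · subst hv
      have : (![-(0 : Fin 2 → F) 1, (0 : Fin 2 → F) 0] : Fin 2 → F) = 0 := by ext i; fin_cases i <;> simp
      rw [this, T_zero_right]; exact one_mem _
    · obtain ⟨c, hc⟩ : ∃ c : F, u = c • v := by
        by_cases h0 : v 0 = 0
        · have h1 : v 1 ≠ 0 := fun h1 => hv (by ext i; fin_cases i <;> simp [h0, h1])
          refine ⟨u 1 / v 1, ?_⟩
          have hu0 : u 0 = 0 := by simpa [h0, h1] using hu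
          ext i; fin_cases i <;> simp [h0, hu0]
          field_simp
        · refine ⟨u 0 / v 0, ?_⟩
          ext i; fin_cases i <;> simp
          · field_simp
          · field_simp; linear_combination hu
      have hd : ![-v 1, v 0] ⬝ᵥ v = 0 := by simp [dotProduct, Fin.sum_univ_two]; ring
      refine ⟨c • ![-v 1, v 0], by rw [smul_dotProduct, hd, smul_zero], ?_⟩
      rw [← T_smul hd, ← hc]

theorem centrePres_two [Finite F] (α : MulAut (ProjectiveSpecialLinearGroup (Fin (0 + 2)) F)) : CentrePres α := by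
  intro v hv
  rcases map_cgrp_or α hv with h | ⟨w, hw, he⟩
  · exact h
  · refine ⟨![w 1, -w 0], ?_, ?_⟩
    · intro h0
      apply hw
      ext i
      have a := congrFun h0 0
      have b := congrFun h0 1
      fin_cases i <;> simp_all
    · rw [he, cgrp_eq_agrp_two]
      congr 1
      ext i; fin_cases i <;> simp

theorem exists_semi_of_two [Finite F] (α : MulAut (ProjectiveSpecialLinearGroup (Fin (0 + 2)) F)) :
    ∃ g σ, α = semi g σ :=
  exists_semi_of_centrePres (centrePres_two α)

theorem mk_out (g : GL (Fin (m + 2)) F) (σ : F ≃+* F) :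
    ∃ h, ProjGenLinGroup.mk h = ProjGenLinGroup.mk g ∧ h = Function.surjInv ProjGenLinGroup.mk_surjective (ProjGenLinGroup.mk g) ∧
      semi g σ = semi h σ := by
  refine ⟨_, Function.surjInv_eq ProjGenLinGroup.mk_surjective _, rfl, ?_⟩
  rw [semi_eq_semi]
  refine ⟨rfl, ?_⟩
  rw [← ProjGenLinGroup.mk_eq_one, map_mul, map_inv, Function.surjInv_eq ProjGenLinGroup.mk_surjective, inv_mul_cancel]

/-- The order of the semilinear part. -/
theorem card_gamma :
    Nat.card {α : MulAut PG // ∃ g σ, α = semi g σ} =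
      Nat.card (F ≃+* F) * Nat.card (ProjGenLinGroup (Fin (m + 2)) F) := by
  rw [← Nat.card_prod]
  symm
  refine Nat.card_congr (Equiv.ofBijective (fun x => ⟨semi (Function.surjInv ProjGenLinGroup.mk_surjective x.2) x.1,
    _, _, rfl⟩) ⟨fun x y h => ?_, fun ⟨α, g, σ, hα⟩ => ?_⟩)
  · obtain ⟨h1, h2⟩ := semi_eq_semi.mp (congrArg Subtype.val h)
    refine Prod.ext h1 ?_
    rw [← ProjGenLinGroup.mk_eq_one, map_mul, map_inv, Function.surjInv_eq ProjGenLinGroup.mk_surjective,
      Function.surjInv_eq ProjGenLinGroup.mk_surjective, inv_mul_eq_one] at h2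
    exact h2
  · obtain ⟨h, -, hh, he⟩ := mk_out g σ
    refine ⟨(σ, ProjGenLinGroup.mk g), Subtype.ext ?_⟩
    show semi (Function.surjInv ProjGenLinGroup.mk_surjective (ProjGenLinGroup.mk g)) σ = α
    rw [← hh, ← he, hα]

theorem card_mulAut [Finite F] (p f : ℕ) [Fact p.Prime] (hf : 1 ≤ f) (hF : Nat.card F = p ^ f) :
    Nat.card (MulAut PG) = (if m = 0 then 1 else 2) * f * Nat.card (ProjGenLinGroup (Fin (m + 2)) F) := by
  haveI : Fintype F := Fintype.ofFinite F
  have hcardA := (fieldAut_facts (F := F) p f hf (by rw [← Nat.card_eq_fintype_card, hF])).2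
  split_ifs with hm
  · subst hm
    rw [one_mul, ← hcardA, ← card_gamma]
    exact (Nat.card_congr (Equiv.subtypeUnivEquiv exists_semi_of_two)).symm
  · rw [mul_assoc, ← hcardA, ← card_gamma]
    haveI : Finite (MulAut PG) := Finite.of_injective (fun α : MulAut PG => (α : PG → PG)) DFunLike.coe_injective
    have e : {α : MulAut PG // ∃ g σ, α = semi g σ} ⊕ {α : MulAut PG // ∃ g σ, α = semi g σ} ≃ MulAut PG :=
      Equiv.ofBijective (Sum.elim Subtype.val (fun α => α.1 * invT))
        ⟨by
          rintro (⟨a, g, σ, rfl⟩ | ⟨a, g, σ, rfl⟩) (⟨b, h, τ, rfl⟩ | ⟨b, h, τ, rfl⟩) he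
          · exact congrArg Sum.inl (Subtype.ext he)
          · exact absurd he (semi_mul_invT_ne (by omega) _ _ _ _)
          · exact absurd he.symm (semi_mul_invT_ne (by omega) _ _ _ _)
          · exact congrArg Sum.inr (Subtype.ext (mul_right_cancel he)),
        fun α => (exists_semi_or α).elim (fun h => ⟨Sum.inl ⟨α, h⟩, rfl⟩)
          (fun ⟨g, σ, h⟩ => ⟨Sum.inr ⟨semi g σ, g, σ, rfl⟩, h.symm⟩)⟩
    rw [← Nat.card_congr e, Nat.card_sum]
    ring

end Cfsg.Agent.AutPSL
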