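import Cfsg.Agent.Lib.AutPSL.Basic

/-!
# The geometry of transvection subgroups of PSL
* `Par` facts, `exists_dot`, `exists_perp`, `exists_gl_pair`
* `subgroup_le_cgrp_or_agrp` : an abelian group of transvections has a common centre or a common axis
* `card_cgrp`, `cgrp_inj`, `incidence`, `map_semi_cgrp`, `map_invT_cgrp`
-/

set_option autoImplicit false

open Matrix
open scoped MatrixGroups

namespace Cfsg.Agent.AutPSL

variable {n : Type} [Fintype n] [DecidableEq n] {F : Type*} [Field F]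

theorem exists_dot {w w' : n → F} (h : ¬ ∃ k : F, w = k • w') : ∃ x, w' ⬝ᵥ x = 0 ∧ w ⬝ᵥ x = 1 := by
  by_cases hw' : w' = 0
  · have hw : w ≠ 0 := fun h0 => h ⟨0, by simp [h0]⟩
    obtain ⟨i, hi⟩ := Function.ne_iff.mp hw
    simp only [Pi.zero_apply] at hi
    refine ⟨Pi.single i (w i)⁻¹, by simp [hw'], ?_⟩
    rw [dotProduct_single, mul_inv_cancel₀ hi]
  obtain ⟨i, hi⟩ := Function.ne_iff.mp hw'
  simp only [Pi.zero_apply] at hi
  obtain ⟨j, hj⟩ : ∃ j, w j * w' i - w i * w' j ≠ 0 := by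
    by_contra hall
    refine h ⟨w i / w' i, funext fun j => ?_⟩
    have := not_exists.mp hall j
    rw [not_ne_iff, sub_eq_zero] at this
    rw [Pi.smul_apply, smul_eq_mul, div_mul_eq_mul_div, eq_div_iff hi]
    exact this
  refine ⟨(w j * w' i - w i * w' j)⁻¹ • (Pi.single j (w' i) - Pi.single i (w' j)), ?_, ?_⟩
  · simp [dotProduct_sub, mul_comm (w' j)]
  · simp only [dotProduct_smul, dotProduct_sub, dotProduct_single, smul_eq_mul]
    exact inv_mul_cancel₀ hj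

theorem exists_perp [Nontrivial n] (v : n → F) : ∃ w, w ≠ 0 ∧ w ⬝ᵥ v = 0 := by
  obtain ⟨i, j, hij⟩ := exists_pair_ne n
  by_cases hi : v i = 0
  · exact ⟨Pi.single i 1, by simp, by simp [hi]⟩
  · refine ⟨Pi.single i (v j) - Pi.single j (v i), fun h => hi ?_, by simp [sub_dotProduct, mul_comm]⟩
    have := congrFun h j
    simpa [hij.symm] using this

/-- Nontrivial transvection classes. -/
def IsT (x : ProjectiveSpecialLinearGroup n F) : Prop :=
  ∃ v w, v ≠ 0 ∧ w ≠ 0 ∧ w ⬝ᵥ v = 0 ∧ x = T v w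

theorem isT_of_ne {v w : n → F} (h : w ⬝ᵥ v = 0) (hx : T v w ≠ 1) : IsT (T v w) :=
  ⟨v, w, fun hv => hx (by rw [hv, T_zero_left]), fun hw => hx (by rw [hw, T_zero_right]), h, rfl⟩

theorem mulVec_comm_par {v w v' w' : n → F} (h : w ⬝ᵥ v = 0) (h' : w' ⬝ᵥ v' = 0) (hv' : v' ≠ 0) (hw' : w' ≠ 0)
    (hc : T v w * T v' w' = T v' w' * T v w) : ∃ k : F, v' + (w ⬝ᵥ v') • v = k • v' := by
  let s := tS v w
  have e2 : T v w * T v' w' * (T v w)⁻¹ = T v' w' := by rw [hc, mul_inv_cancel_right]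
  have h3 := (semi_T (Matrix.SpecialLinearGroup.toGL s) (RingEquiv.refl F) h')
  have e3 : semi (Matrix.SpecialLinearGroup.toGL s) (RingEquiv.refl F) (T v' w') =
      T v w * T v' w' * (T v w)⁻¹ := by
    rw [T, T, ← map_inv, ← map_mul, ← map_mul]
    apply semi_proj_eq
    simp only [Matrix.SpecialLinearGroup.coe_mul, RingEquiv.coe_refl, Matrix.map_id]
    rw [← map_inv]
    rfl
  rw [e3, e2] at h3
  obtain ⟨k, -, hk, -⟩ := T_inj hv' hw' h' h3.2 h3.1
  refine ⟨k, ?_⟩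
  have hs : (s : Matrix n n F) *ᵥ v' = v' + (w ⬝ᵥ v') • v := tS_mulVec h v'
  rw [← hs]
  exact hk

/-- Two commuting transvections whose product is a transvection share centre or axis. -/
theorem par_or_par [Nontrivial n] {v w v' w' : n → F} (hv : v ≠ 0) (hw : w ≠ 0) (h : w ⬝ᵥ v = 0)
    (hv' : v' ≠ 0) (hw' : w' ≠ 0) (h' : w' ⬝ᵥ v' = 0)
    (hc : T v w * T v' w' = T v' w' * T v w)
    (hp : T v w * T v' w' = 1 ∨ IsT (T v w * T v' w')) : Par v v' ∨ Par w w' := by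
  by_cases hpar : ∃ k : F, v' = k • v
  · obtain ⟨k, hk⟩ := hpar
    exact Or.inl ⟨k, fun h0 => hv' (by rw [hk, h0, zero_smul]), hk⟩
  by_cases hparw : ∃ k : F, w = k • w'
  · obtain ⟨k, hk⟩ := hparw
    exact Or.inr (Par.symm ⟨k, fun h0 => hw (by rw [hk, h0, zero_smul]), hk⟩)
  exfalso
  obtain ⟨k, hk⟩ := mulVec_comm_par h h' hv' hw' hc
  have ha : w ⬝ᵥ v' = 0 := by
    by_contra ha
    have hk1 : k ≠ 1 := by
      intro hk1
      rw [hk1, one_smul, add_eq_left, smul_eq_zero] at hk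
      exact hk.elim ha hv
    apply hpar
    refine ⟨(k - 1)⁻¹ * (w ⬝ᵥ v'), ?_⟩
    have : (w ⬝ᵥ v') • v = (k - 1) • v' := by rw [sub_smul, one_smul, ← hk]; abel
    rw [← smul_smul, this, smul_smul, inv_mul_cancel₀ (sub_ne_zero.mpr hk1), one_smul]
  obtain ⟨u, z, hz, he⟩ : ∃ u z : n → F, z ⬝ᵥ u = 0 ∧ T v w * T v' w' = T u z := by
    rcases hp with hp | ⟨u, z, -, -, hz, he⟩
    · exact ⟨0, 0, by simp, by rw [hp, T_zero_left]⟩
    · exact ⟨u, z, hz, he⟩
  rw [T, T, ← map_mul, T, proj_eq_iff] at he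
  obtain ⟨c, -, hc'⟩ := he
  rw [Matrix.SpecialLinearGroup.coe_mul, tS_coe h, tS_coe h', tS_coe hz] at hc'
  have key : ∀ x : n → F, x + (z ⬝ᵥ x) • u = c • (x + (w' ⬝ᵥ x) • v' + (w ⬝ᵥ x) • v) := by
    intro x
    have e := congrArg (fun M : Matrix n n F => M *ᵥ x) hc'
    simp only [Matrix.smul_mulVec, ← Matrix.mulVec_mulVec, Matrix.add_mulVec, Matrix.one_mulVec,
      Matrix.vecMulVec_mulVec, Matrix.mulVec_add, Matrix.mulVec_smul] at e
    have hops : ∀ (a : F) (y : n → F), MulOpposite.op a • y = a • y := fun a y =>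
      funext fun i => by simp [mul_comm]
    simp only [hops, ha, zero_smul, smul_zero, add_zero] at e
    rw [e]; module
  have hc1 : c = 1 := by
    have hv1 := key v
    by_cases hw'v : w' ⬝ᵥ v = 0
    · rw [h, hw'v, zero_smul, zero_smul, add_zero, add_zero] at hv1
      by_contra hc0
      have hu : (z ⬝ᵥ v) • u = (c - 1) • v := by rw [sub_smul, one_smul, ← hv1]; abel
      have := congrArg (fun y => z ⬝ᵥ y) hu
      simp only [dotProduct_smul, hz, smul_eq_mul, mul_zero] at this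
      have hzv : z ⬝ᵥ v = 0 := (mul_eq_zero.mp this.symm).resolve_left (sub_ne_zero.mpr hc0)
      rw [hzv, zero_smul] at hu
      exact hv ((smul_eq_zero.mp hu.symm).resolve_left (sub_ne_zero.mpr hc0))
    · have hv2 := key v'
      rw [ha, h', zero_smul, zero_smul, add_zero, add_zero] at hv2
      by_contra hc0
      have hu : (z ⬝ᵥ v') • u = (c - 1) • v' := by rw [sub_smul, one_smul, ← hv2]; abel
      have := congrArg (fun y => z ⬝ᵥ y) hu
      simp only [dotProduct_smul, hz, smul_eq_mul, mul_zero] at this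
      have hzv : z ⬝ᵥ v' = 0 := (mul_eq_zero.mp this.symm).resolve_left (sub_ne_zero.mpr hc0)
      rw [hzv, zero_smul] at hu
      exact hv' ((smul_eq_zero.mp hu.symm).resolve_left (sub_ne_zero.mpr hc0))
  subst hc1
  simp only [one_smul] at key
  obtain ⟨x, hx1, hx2⟩ := exists_dot hparw
  obtain ⟨y, hy1, hy2⟩ := exists_dot (w := w') (w' := w) (fun ⟨a, hl⟩ => hparw ⟨a⁻¹, by
    rw [hl, smul_smul, inv_mul_cancel₀ (fun h0 => hw' (by rw [hl, h0, zero_smul])), one_smul]⟩)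
  have e1 := key x
  rw [hx1, hx2, zero_smul, one_smul, add_zero, add_right_inj] at e1
  have e2 := key y
  rw [hy1, hy2, zero_smul, one_smul, add_zero, add_right_inj] at e2
  have hzx : z ⬝ᵥ x ≠ 0 := fun h0 => hv (by rw [← e1, h0, zero_smul])
  exact hpar ⟨(z ⬝ᵥ y) * (z ⬝ᵥ x)⁻¹, by
    rw [← e1, smul_smul, mul_assoc, inv_mul_cancel₀ hzx, mul_one, e2]⟩

/-- An abelian group consisting of transvections has a common centre or a common axis. -/
theorem subgroup_le_cgrp_or_agrp [Nontrivial n] (M : Subgroup (ProjectiveSpecialLinearGroup n F)) (hM : M ≠ ⊥)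
    (hc : ∀ x ∈ M, ∀ y ∈ M, x * y = y * x) (hT : ∀ x ∈ M, x ≠ 1 → IsT x) :
    (∃ v : n → F, v ≠ 0 ∧ M ≤ cgrp v) ∨ (∃ w : n → F, w ≠ 0 ∧ M ≤ agrp w) := by
  obtain ⟨x, hx, hx1⟩ := (M.bot_or_exists_ne_one).resolve_left hM
  obtain ⟨v, w, hv, hw, h, rfl⟩ := hT x hx hx1
  have hrel : ∀ a b a' b' : n → F, a ≠ 0 → b ≠ 0 → b ⬝ᵥ a = 0 → T a b ∈ M → a' ≠ 0 → b' ≠ 0 → b' ⬝ᵥ a' = 0 →
      T a' b' ∈ M → Par a a' ∨ Par b b' := by
    intro a b a' b' ha hb h1 hm ha' hb' h2 hm'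
    refine par_or_par ha hb h1 ha' hb' h2 (hc _ hm _ hm') ?_
    by_cases he : T a b * T a' b' = 1
    · exact Or.inl he
    · exact Or.inr (hT _ (mul_mem hm hm') he)
  by_cases hall : ∀ y ∈ M, y ∈ cgrp v
  · exact Or.inl ⟨v, hv, hall⟩
  right
  refine ⟨w, hw, fun y hy => ?_⟩
  simp only [not_forall] at hall
  obtain ⟨y₀, hy₀, hy₀c⟩ := hall
  obtain ⟨v₀, w₀, hv₀, hw₀, h₀, rfl⟩ := hT y₀ hy₀ fun h1 => hy₀c (h1 ▸ one_mem _)
  rw [T_mem_cgrp_iff hv₀ hw₀ h₀] at hy₀c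
  have hw₀w : Par w w₀ := (hrel v w v₀ w₀ hv hw h hx hv₀ hw₀ h₀ hy₀).resolve_left fun hp => hy₀c hp.symm
  by_cases hy1 : y = 1
  · rw [hy1]; exact one_mem _
  obtain ⟨a, b, ha, hb, hab, rfl⟩ := hT y hy hy1
  rw [T_mem_agrp_iff ha hb hab]
  rcases hrel v w a b hv hw h hx ha hb hab hy with hp | hp
  · rcases hrel v₀ w₀ a b hv₀ hw₀ h₀ hy₀ ha hb hab hy with hp' | hp'
    · exact absurd (hp'.trans hp.symm) hy₀c
    · exact (hw₀w.trans hp').symm
  · exact hp.symm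

theorem cgrp_comm (v : n → F) : ∀ x ∈ cgrp v, ∀ y ∈ cgrp v, x * y = y * x := by
  rintro _ ⟨w, hw, rfl⟩ _ ⟨w', hw', rfl⟩
  rw [← T_add hw hw', ← T_add hw' hw, add_comm]

theorem agrp_comm (w : n → F) : ∀ x ∈ agrp w, ∀ y ∈ agrp w, x * y = y * x := by
  rintro _ ⟨v, hv, rfl⟩ _ ⟨v', hv', rfl⟩
  rw [← T_add_left hv hv', ← T_add_left hv' hv, add_comm]

theorem cgrp_isT {v : n → F} : ∀ x ∈ cgrp v, x ≠ 1 → IsT x := by
  rintro _ ⟨w, hw, rfl⟩ hx; exact isT_of_ne hw hx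

theorem agrp_isT {w : n → F} : ∀ x ∈ agrp w, x ≠ 1 → IsT x := by
  rintro _ ⟨v, hv, rfl⟩ hx; exact isT_of_ne hv hx

theorem card_kernel [Finite F] {v : n → F} (hv : v ≠ 0) :
    Nat.card {w : n → F // w ⬝ᵥ v = 0} * Nat.card F = Nat.card (n → F) := by
  obtain ⟨i, hi⟩ := Function.ne_iff.mp hv
  simp only [Pi.zero_apply] at hi
  let f : (n → F) →+ F :=
    { toFun := fun w => w ⬝ᵥ v, map_zero' := zero_dotProduct v, map_add' := fun a b => add_dotProduct a b v }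
  have hs : Function.Surjective f := fun c => ⟨Pi.single i (c / v i), by
    show Pi.single i (c / v i) ⬝ᵥ v = c
    rw [single_dotProduct, div_mul_cancel₀ c hi]⟩
  have h := f.ker.card_mul_index
  rw [AddSubgroup.index_ker, AddMonoidHom.range_eq_top.mpr hs, AddSubgroup.card_top] at h
  exact h

theorem card_cgrp [Nontrivial n] [Finite F] {v : n → F} (hv : v ≠ 0) :
    Nat.card (cgrp v) * Nat.card F = Nat.card (n → F) := by
  rw [← card_kernel hv]
  congr 1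
  symm
  refine Nat.card_congr (Equiv.ofBijective
    (fun w : {w : n → F // w ⬝ᵥ v = 0} => (⟨T v w, w.1, w.2, rfl⟩ : cgrp v)) ⟨fun a b hab => ?_, ?_⟩)
  · have he : T v a.1 = T v b.1 := congrArg Subtype.val hab
    apply Subtype.ext
    by_contra hne
    have hd : (a.1 - b.1) ⬝ᵥ v = 0 := by rw [sub_dotProduct, a.2, b.2, sub_zero]
    refine T_ne_one hv (sub_ne_zero.mpr hne) hd ?_
    rw [sub_eq_add_neg, T_add a.2 (by rw [neg_dotProduct, b.2, neg_zero]), he, ← T_inv b.2, mul_inv_cancel]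
  · rintro ⟨_, w, hw, rfl⟩; exact ⟨⟨w, hw⟩, rfl⟩

theorem T_neg {v w : n → F} (h : w ⬝ᵥ v = 0) : T (-v) w = T v (-w) := by
  rw [← neg_one_smul F v, T_smul h, neg_one_smul]

theorem map_invT_cgrp (v : n → F) : (cgrp v).map (invT (n := n) (F := F)).toMonoidHom = agrp v := by
  ext x
  constructor
  · rintro ⟨_, ⟨w, hw, rfl⟩, rfl⟩
    refine ⟨-w, by rw [dotProduct_neg, dotProduct_comm, hw, neg_zero], ?_⟩
    show invT (T v w) = T (-w) v
    rw [invT_T hw, T_neg (by rw [dotProduct_comm, hw])]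
  · rintro ⟨w, hw, rfl⟩
    have h1 : (-w) ⬝ᵥ v = 0 := by rw [neg_dotProduct, dotProduct_comm, hw, neg_zero]
    refine ⟨T v (-w), ⟨-w, h1, rfl⟩, ?_⟩
    show invT (T v (-w)) = T w v
    rw [invT_T h1, T_neg (by rw [neg_dotProduct, hw, neg_zero]), neg_neg]

theorem invT_invT (x : ProjectiveSpecialLinearGroup n F) : invT (invT x) = x := by
  have h := invT_sq (n := n) (F := F)
  rw [← MulAut.mul_apply, h, MulAut.one_apply]

theorem map_invT_agrp (v : n → F) : (agrp v).map (invT (n := n) (F := F)).toMonoidHom = cgrp v := by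
  ext x
  constructor
  · rintro ⟨y, hy, rfl⟩
    rw [← map_invT_cgrp] at hy
    obtain ⟨z, hz, rfl⟩ := hy
    show invT (invT z) ∈ cgrp v
    rw [invT_invT]; exact hz
  · intro hx
    refine ⟨invT x, ?_, invT_invT x⟩
    rw [← map_invT_cgrp]
    exact ⟨x, hx, rfl⟩

theorem card_agrp [Nontrivial n] [Finite F] {w : n → F} (hw : w ≠ 0) :
    Nat.card (agrp w) * Nat.card F = Nat.card (n → F) := by
  rw [← map_invT_cgrp]
  have : Nat.card ↥((cgrp w).map (invT (n := n) (F := F)).toMonoidHom) = Nat.card (cgrp w) :=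
    Subgroup.card_map_of_injective (MulEquiv.injective _)
  rw [this]
  exact card_cgrp hw

theorem cgrp_ne_bot [Nontrivial n] {v : n → F} (hv : v ≠ 0) : cgrp v ≠ ⊥ := by
  obtain ⟨w, hw, h⟩ := exists_perp v
  intro hb
  have hm : T v w ∈ cgrp v := ⟨w, h, rfl⟩
  rw [hb, Subgroup.mem_bot] at hm
  exact T_ne_one hv hw h hm

theorem cgrp_le_iff [Nontrivial n] {v v' : n → F} (hv : v ≠ 0) : cgrp v ≤ cgrp v' ↔ Par v v' := by
  refine ⟨fun h => ?_, fun h => (cgrp_congr h).ge⟩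
  obtain ⟨w, hw, hwv⟩ := exists_perp v
  exact (T_mem_cgrp_iff hv hw hwv).mp (h ⟨w, hwv, rfl⟩)

theorem agrp_le_iff [Nontrivial n] {w w' : n → F} (hw : w ≠ 0) : agrp w ≤ agrp w' ↔ Par w w' := by
  refine ⟨fun h => ?_, fun h => (agrp_congr h).ge⟩
  obtain ⟨v, hv, hvw⟩ := exists_perp w
  rw [dotProduct_comm] at hvw
  exact (T_mem_agrp_iff hv hw hvw).mp (h ⟨v, hvw, rfl⟩)

/-- Incidence of a point and a hyperplane. -/
theorem incidence [Nontrivial n] {v w : n → F} (hv : v ≠ 0) (hw : w ≠ 0) :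
    w ⬝ᵥ v = 0 ↔ cgrp v ⊓ agrp w ≠ ⊥ := by
  constructor
  · intro h hb
    have hm : T v w ∈ cgrp v ⊓ agrp w := ⟨⟨w, h, rfl⟩, ⟨v, h, rfl⟩⟩
    rw [hb, Subgroup.mem_bot] at hm
    exact T_ne_one hv hw h hm
  · intro hne
    obtain ⟨x, ⟨hx1, hx2⟩, hxne⟩ := ((cgrp v ⊓ agrp w).bot_or_exists_ne_one).resolve_left hne
    obtain ⟨a, b, ha, hb, hab, rfl⟩ := cgrp_isT x hx1 hxne
    obtain ⟨k, -, rfl⟩ := (T_mem_cgrp_iff ha hb hab).mp hx1
    obtain ⟨l, -, rfl⟩ := (T_mem_agrp_iff ha hb hab).mp hx2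
    rw [smul_dotProduct, dotProduct_smul, hab, smul_zero, smul_zero]

/-! ### Transitivity -/

/-- A matrix sending `eᵢ` to `v` and fixing the other basis rows where `v` vanishes. -/
theorem exists_gl_mulVec {v : n → F} {i : n} (hi : v i ≠ 0) :
    ∃ g : GL n F, (g : Matrix n n F) *ᵥ Pi.single i 1 = v ∧
      ∀ k, k ≠ i → v k = 0 → (Pi.single k 1 : n → F) ᵥ* (g : Matrix n n F) = Pi.single k 1 := by
  let e : n → F := Pi.single i 1
  have he : e ⬝ᵥ v = v i := by simp [e]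
  have hee : e ⬝ᵥ e = 1 := by simp [e]
  refine ⟨⟨1 + vecMulVec (v - e) e, 1 + vecMulVec ((v i)⁻¹ • (e - v)) e, ?_, ?_⟩, ?_, fun k hk hk0 => ?_⟩
  · rw [add_mul, one_mul, mul_add, mul_one, vecMulVec_mul_vecMulVec']
    ext a b
    simp [vecMulVec_apply, dotProduct_smul, dotProduct_sub, he, hee]
    field_simp
    ring
  · rw [add_mul, one_mul, mul_add, mul_one, vecMulVec_mul_vecMulVec']
    ext a b
    simp [vecMulVec_apply, dotProduct_sub, he, hee]
    field_simp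
    ring
  · show (1 + vecMulVec (v - e) e) *ᵥ e = v
    rw [Matrix.add_mulVec, Matrix.one_mulVec, Matrix.vecMulVec_mulVec, hee]
    ext a; simp
  · show (Pi.single k 1 : n → F) ᵥ* (1 + vecMulVec (v - e) e) = Pi.single k 1
    rw [Matrix.vecMul_add, Matrix.vecMul_one, Matrix.vecMul_vecMulVec]
    simp [e, hk, hk0]

theorem exists_gl_perm (σ : Equiv.Perm n) :
    ∃ g : GL n F, ∀ x : n → F, (g : Matrix n n F) *ᵥ x = x ∘ σ ∧ x ᵥ* (g : Matrix n n F) = x ∘ σ.symm := by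
  refine ⟨⟨Equiv.Perm.permMatrix F σ, Equiv.Perm.permMatrix F σ.symm, ?_, ?_⟩, fun x => ⟨Matrix.permMatrix_mulVec .., Matrix.vecMul_permMatrix ..⟩⟩
  · rw [← Matrix.permMatrix_mul]; simp [Equiv.Perm.mul_def]
  · rw [← Matrix.permMatrix_mul]; simp [Equiv.Perm.mul_def]

theorem exists_gl_point {v : n → F} (hv : v ≠ 0) (a : n) :
    ∃ g : GL n F, (g : Matrix n n F) *ᵥ Pi.single a 1 = v := by
  obtain ⟨i, hi⟩ := Function.ne_iff.mp hv
  obtain ⟨g, hg, -⟩ := exists_gl_mulVec (v := v) (i := i) hi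
  obtain ⟨p, hp⟩ := exists_gl_perm (F := F) (Equiv.swap a i)
  refine ⟨g * p, ?_⟩
  have : (Pi.single a 1 : n → F) ∘ Equiv.swap a i = Pi.single i 1 := by
    ext k
    by_cases hk : k = i
    · subst hk; simp
    · rw [Function.comp_apply, Pi.single_eq_of_ne hk, Pi.single_eq_of_ne]
      intro h
      exact hk ((Equiv.swap a i).injective (h.trans (Equiv.swap_apply_right a i).symm))
  rw [Units.val_mul, ← Matrix.mulVec_mulVec, (hp _).1, this, hg]

/-- GL is transitive on incident point-hyperplane pairs, written on the transvections. -/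
theorem exists_gl_pair [Nontrivial n] {v w : n → F} (hv : v ≠ 0) (hw : w ≠ 0) (h : w ⬝ᵥ v = 0) {a b : n} (hab : a ≠ b) :
    ∃ g : GL n F, (g : Matrix n n F) *ᵥ Pi.single a 1 = v ∧ w ᵥ* (g : Matrix n n F) = Pi.single b 1 := by
  obtain ⟨g₁, hg₁⟩ := exists_gl_point hw b
  -- pass to the row action
  set h₁ : GL n F := ctr g₁ with hh₁
  have hrow : w ᵥ* (h₁ : Matrix n n F) = Pi.single b 1 := by
    rw [hh₁, ← hg₁]
    show ((g₁ : Matrix n n F) *ᵥ Pi.single b 1) ᵥ* ((g₁⁻¹ : GL n F) : Matrix n n F).transpose = _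
    rw [Matrix.vecMul_transpose, Matrix.mulVec_mulVec, Units.inv_mul, Matrix.one_mulVec]
  set v₁ := ((h₁⁻¹ : GL n F) : Matrix n n F) *ᵥ v with hv₁
  have hb : v₁ b = 0 := by
    have : w ⬝ᵥ v = (w ᵥ* (h₁ : Matrix n n F)) ⬝ᵥ v₁ := by
      rw [hv₁, ← Matrix.dotProduct_mulVec, Matrix.mulVec_mulVec, Units.mul_inv, Matrix.one_mulVec]
    rw [hrow, h] at this
    simpa using this.symm
  have hv₁ne : v₁ ≠ 0 := by
    intro h0
    apply hv
    have := congrArg (fun y => (h₁ : Matrix n n F) *ᵥ y) h0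
    simpa [hv₁, Matrix.mulVec_mulVec] using this
  obtain ⟨i, hi⟩ := Function.ne_iff.mp hv₁ne
  simp only [Pi.zero_apply] at hi
  have hib : i ≠ b := fun hib => hi (hib ▸ hb)
  obtain ⟨g₂, hg₂, hg₂'⟩ := exists_gl_mulVec hi
  obtain ⟨p, hp⟩ := exists_gl_perm (F := F) (Equiv.swap a i)
  refine ⟨h₁ * g₂ * p, ?_, ?_⟩
  · have : (Pi.single a 1 : n → F) ∘ Equiv.swap a i = Pi.single i 1 := by
      ext k
      by_cases hk : k = i
      · subst hk; simp
      · rw [Function.comp_apply, Pi.single_eq_of_ne hk, Pi.single_eq_of_ne]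
        intro h'
        exact hk ((Equiv.swap a i).injective (h'.trans (Equiv.swap_apply_right a i).symm))
    rw [Units.val_mul, Units.val_mul, ← Matrix.mulVec_mulVec, (hp _).1, this, ← Matrix.mulVec_mulVec, hg₂, hv₁,
      Matrix.mulVec_mulVec, Units.mul_inv, Matrix.one_mulVec]
  · have : (Pi.single b 1 : n → F) ∘ (Equiv.swap a i).symm = Pi.single b 1 := by
      ext k
      rw [Equiv.symm_swap, Function.comp_apply]
      by_cases hk : k = b
      · subst hk; rw [Equiv.swap_apply_of_ne_of_ne hab.symm hib.symm]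
      · rw [Pi.single_eq_of_ne hk, Pi.single_eq_of_ne]
        intro h'
        exact hk ((Equiv.swap a i).injective (h'.trans (Equiv.swap_apply_of_ne_of_ne hab.symm hib.symm).symm))
    rw [Units.val_mul, Units.val_mul, ← Matrix.vecMul_vecMul, ← Matrix.vecMul_vecMul, hrow,
      hg₂' b hib.symm hb, (hp _).2, this]

theorem map_semi_cgrp (g : GL n F) (σ : F ≃+* F) (v : n → F) :
    (cgrp v).map (semi g σ).toMonoidHom = cgrp ((g : Matrix n n F) *ᵥ smap σ v) := by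
  ext x
  constructor
  · rintro ⟨_, ⟨w, hw, rfl⟩, rfl⟩
    exact ⟨_, (semi_T g σ hw).2, (semi_T g σ hw).1⟩
  · rintro ⟨w, hw, rfl⟩
    set w₀ := smap σ.symm (w ᵥ* (g : Matrix n n F)) with hw₀
    have e : smap σ w₀ = w ᵥ* (g : Matrix n n F) := by ext i; simp [hw₀, smap]
    have h₀ : w₀ ⬝ᵥ v = 0 := by
      apply σ.injective
      rw [← smap_dotProduct, e, ← Matrix.dotProduct_mulVec, hw, map_zero]
    refine ⟨T v w₀, ⟨w₀, h₀, rfl⟩, ?_⟩
    show semi g σ (T v w₀) = _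
    rw [(semi_T g σ h₀).1, e, Matrix.vecMul_vecMul, Units.mul_inv, Matrix.vecMul_one]

theorem map_semi_agrp (g : GL n F) (σ : F ≃+* F) (w : n → F) :
    (agrp w).map (semi g σ).toMonoidHom = agrp (smap σ w ᵥ* ((g⁻¹ : GL n F) : Matrix n n F)) := by
  ext x
  constructor
  · rintro ⟨_, ⟨v, hv, rfl⟩, rfl⟩
    exact ⟨_, (semi_T g σ hv).2, (semi_T g σ hv).1⟩
  · rintro ⟨v, hv, rfl⟩
    set v₀ := smap σ.symm (((g⁻¹ : GL n F) : Matrix n n F) *ᵥ v) with hv₀
    have e : smap σ v₀ = ((g⁻¹ : GL n F) : Matrix n n F) *ᵥ v := by ext i; simp [hv₀, smap]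
    have h₀ : w ⬝ᵥ v₀ = 0 := by
      apply σ.injective
      rw [← smap_dotProduct, e, Matrix.dotProduct_mulVec, hv, map_zero]
    refine ⟨T v₀ w, ⟨v₀, h₀, rfl⟩, ?_⟩
    show semi g σ (T v₀ w) = _
    rw [(semi_T g σ h₀).1, e, Matrix.mulVec_mulVec, Units.mul_inv, Matrix.one_mulVec]

/-- Inner automorphisms are semilinear. -/
theorem conj_eq_semi (s : Matrix.SpecialLinearGroup n F) :
    MulAut.conj (proj n F s) = semi (Matrix.SpecialLinearGroup.toGL s) (RingEquiv.refl F) := by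
  refine MulEquiv.ext fun x => ?_
  obtain ⟨t, rfl⟩ := proj_surjective x
  rw [MulAut.conj_apply, ← map_inv, ← map_mul, ← map_mul]
  refine (semi_proj_eq _ _ ?_).symm
  simp only [Matrix.SpecialLinearGroup.coe_mul, RingEquiv.coe_refl, Matrix.map_id]
  rw [← map_inv]
  rfl

theorem conj_T (s : Matrix.SpecialLinearGroup n F) {v w : n → F} (h : w ⬝ᵥ v = 0) :
    proj n F s * T v w * (proj n F s)⁻¹ =
      T ((s : Matrix n n F) *ᵥ v) (w ᵥ* ((s⁻¹ : Matrix.SpecialLinearGroup n F) : Matrix n n F)) := by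
  have := (semi_T (Matrix.SpecialLinearGroup.toGL s) (RingEquiv.refl F) h).1
  rw [← conj_eq_semi, MulAut.conj_apply] at this
  rw [this, ← map_inv]
  rfl

end Cfsg.Agent.AutPSL
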