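import Cfsg.Agent.Lib.AutPSL.Twisted
import Cfsg.Prelude.Def_LieTypeDatum

/-!
# Involutory graph automorphisms of `PSL`

* `simGrp B` : `{h | hᵀ B h = c B}`; `simGrp_transport` : invariance under congruence, scaling, reindexing
* `gam B = cj B⁻¹ * invT`; `isConjUnder_gam_iff`, `orderOf_gam_iff`, `graph_inv_exists`
* `gam_centralizer_equiv` : `C(gam B) ≅ projQuot (simGrp B)`
-/

set_option autoImplicit false
set_option linter.unusedSectionVars false
set_option linter.style.haveILetI false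

open scoped MatrixGroups Matrix

namespace Cfsg.Agent.AutPSL

open Cfsg.Agent.FieldAut (scal)

section Sim

variable {F : Type*} [Field F] {ι κ : Type} [Fintype ι] [DecidableEq ι] [Fintype κ] [DecidableEq κ]

/-- The matrices multiplying the bilinear form of `B` by a non-zero scalar. -/
def simGrp (B : Matrix ι ι F) : Subgroup (GL ι F) where
  carrier := {h | ∃ c : Fˣ, (h : Matrix ι ι F)ᵀ * B * (h : Matrix ι ι F) = (c : F) • B}
  one_mem' := ⟨1, by simp⟩
  mul_mem' := by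
    rintro a b ⟨c, hc⟩ ⟨d, hd⟩
    refine ⟨c * d, ?_⟩
    rw [Units.val_mul, Matrix.transpose_mul, show (b : Matrix ι ι F)ᵀ * (a : Matrix ι ι F)ᵀ * B *
      ((a : Matrix ι ι F) * (b : Matrix ι ι F)) =
      (b : Matrix ι ι F)ᵀ * ((a : Matrix ι ι F)ᵀ * B * (a : Matrix ι ι F)) * (b : Matrix ι ι F) by noncomm_ring,
      hc, Matrix.mul_smul, Matrix.smul_mul, hd, smul_smul, Units.val_mul]
  inv_mem' := by
    rintro a ⟨c, hc⟩
    refine ⟨c⁻¹, ?_⟩
    set u : Matrix ι ι F := ((a⁻¹ : GL ι F) : Matrix ι ι F)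
    have h1 : uᵀ * ((a : Matrix ι ι F)ᵀ * B * (a : Matrix ι ι F)) * u =
        uᵀ * (a : Matrix ι ι F)ᵀ * B * ((a : Matrix ι ι F) * u) := by noncomm_ring
    rw [hc, ← Matrix.transpose_mul, show (a : Matrix ι ι F) * u = 1 from a.mul_inv, Matrix.transpose_one,
      one_mul, mul_one, Matrix.mul_smul, Matrix.smul_mul] at h1
    show uᵀ * B * u = _
    conv_rhs => rw [← h1, smul_smul, Units.inv_mul, one_smul]

theorem mem_simGrp {B : Matrix ι ι F} {h : GL ι F} :
    h ∈ simGrp B ↔ ∃ c : Fˣ, (h : Matrix ι ι F)ᵀ * B * (h : Matrix ι ι F) = (c : F) • B := Iff.rfl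

/-- Isomorphic matrix groups with corresponding scalars have isomorphic projective quotients. -/
theorem projQuot_congr (φ : GL κ F ≃* GL ι F) {H : Subgroup (GL κ F)} {H' : Subgroup (GL ι F)}
    (hH : ∀ g, g ∈ H ↔ φ g ∈ H') (hs : ∀ g, g ∈ Geo.scalars κ F ↔ φ g ∈ Geo.scalars ι F) :
    Nonempty (Cfsg.projQuot H ≃* Cfsg.projQuot H') := by
  let e : H ≃* H' :=
    { toFun := fun g => ⟨φ g, (hH _).1 g.2⟩
      invFun := fun g => ⟨φ.symm g, (hH _).2 (by rw [MulEquiv.apply_symm_apply]; exact g.2)⟩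
      left_inv := fun g => Subtype.ext (φ.symm_apply_apply _)
      right_inv := fun g => Subtype.ext (φ.apply_symm_apply _)
      map_mul' := fun g h => Subtype.ext (map_mul φ _ _) }
  refine ⟨QuotientGroup.congr _ _ e ?_⟩
  ext g
  simp only [Subgroup.mem_map, Subgroup.mem_subgroupOf]
  constructor
  · rintro ⟨x, hx, rfl⟩
    exact (hs _).1 hx
  · intro hg
    exact ⟨e.symm g, (hs _).2 (by show φ (φ.symm g) ∈ _; rw [MulEquiv.apply_symm_apply]; exact hg),
      e.apply_symm_apply g⟩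

/-- Reindexing invertible matrices. -/
def glReindex (e : κ ≃ ι) : GL κ F ≃* GL ι F :=
  Units.mapEquiv (Matrix.reindexAlgEquiv F F e).toMulEquiv

theorem glReindex_coe (e : κ ≃ ι) (g : GL κ F) :
    (glReindex e g : Matrix ι ι F) = (g : Matrix κ κ F).submatrix e.symm e.symm := rfl

/-- Congruence, scaling and reindexing do not change the projective similarity group. -/
theorem simGrp_transport (e : κ ≃ ι) {B : Matrix ι ι F} {B' : Matrix κ κ F} (P : GL κ F) (c : Fˣ)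
    (h : B' = (c : F) • ((P : Matrix κ κ F)ᵀ * B.submatrix e e * (P : Matrix κ κ F))) :
    Nonempty (Cfsg.projQuot (simGrp B') ≃* Cfsg.projQuot (simGrp B)) := by
  set W := B.submatrix e e with hW
  refine projQuot_congr ((MulAut.conj P).trans (glReindex e)) (fun g => ?_) (fun g => ?_)
  · set x : Matrix κ κ F := ((MulAut.conj P g : GL κ F) : Matrix κ κ F) with hx
    have hxP : x * (P : Matrix κ κ F) = (P : Matrix κ κ F) * (g : Matrix κ κ F) := by
      rw [hx, MulAut.conj_apply, Units.val_mul, Units.val_mul, mul_assoc, Units.inv_mul, mul_one]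
    have key : (g : Matrix κ κ F)ᵀ * B' * (g : Matrix κ κ F) =
        (c : F) • ((P : Matrix κ κ F)ᵀ * (xᵀ * W * x) * (P : Matrix κ κ F)) := by
      rw [h, Matrix.mul_smul, Matrix.smul_mul]
      congr 1
      calc (g : Matrix κ κ F)ᵀ * ((P : Matrix κ κ F)ᵀ * W * (P : Matrix κ κ F)) * (g : Matrix κ κ F)
          = ((P : Matrix κ κ F) * (g : Matrix κ κ F))ᵀ * W * ((P : Matrix κ κ F) * (g : Matrix κ κ F)) := by
            rw [Matrix.transpose_mul]; noncomm_ring
        _ = _ := by rw [← hxP, Matrix.transpose_mul]; noncomm_ring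
    have e1 : ∀ d : F, (g : Matrix κ κ F)ᵀ * B' * (g : Matrix κ κ F) = d • B' ↔ xᵀ * W * x = d • W := by
      intro d
      rw [key, h, smul_comm d, (smul_right_injective _ c.ne_zero).eq_iff]
      constructor
      · intro hd
        have := congrArg (fun M => ((P⁻¹ : GL κ F) : Matrix κ κ F)ᵀ * M * ((P⁻¹ : GL κ F) : Matrix κ κ F)) hd
        simp only [Matrix.mul_smul, Matrix.smul_mul, ← mul_assoc] at this
        simpa only [← Matrix.transpose_mul, Units.mul_inv, Matrix.transpose_one, one_mul, mul_assoc,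
          Units.inv_mul, mul_one, Matrix.mul_smul, Matrix.smul_mul] using this
      · intro hd
        rw [hd, Matrix.mul_smul, Matrix.smul_mul]
    have e2 : ∀ d : F, xᵀ * W * x = d • W ↔
        (x.submatrix e.symm e.symm)ᵀ * B * (x.submatrix e.symm e.symm) = d • B := by
      intro d
      have hB : B = W.submatrix e.symm e.symm := by
        rw [hW, Matrix.submatrix_submatrix, Equiv.self_comp_symm, Matrix.submatrix_id_id]
      rw [Matrix.transpose_submatrix, hB, Matrix.submatrix_mul_equiv, Matrix.submatrix_mul_equiv]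
      show _ ↔ _ = (d • W).submatrix e.symm e.symm
      constructor
      · intro hd; rw [hd]
      · intro hd
        have := congrArg (fun M => M.submatrix e e) hd
        simpa only [Matrix.submatrix_submatrix, Equiv.symm_comp_self, Matrix.submatrix_id_id,
          Pi.smul_apply] using this
    rw [mem_simGrp, mem_simGrp]
    exact exists_congr fun d => (e1 d).trans (e2 d)
  · rw [Geo.mem_scalars_iff, Geo.mem_scalars_iff]
    refine exists_congr fun d => ?_
    show _ ↔ ((MulAut.conj P g : GL κ F) : Matrix κ κ F).submatrix e.symm e.symm = _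
    rw [MulAut.conj_apply, Units.val_mul, Units.val_mul]
    constructor
    · intro hg
      rw [hg, Matrix.mul_smul, mul_one, Matrix.smul_mul, Units.mul_inv]
      ext i j
      simp [Matrix.one_apply]
    · intro hg
      have h1 : (P : Matrix κ κ F) * (g : Matrix κ κ F) * ((P⁻¹ : GL κ F) : Matrix κ κ F) =
          (d : F) • (1 : Matrix κ κ F) := by
        have := congrArg (fun M => M.submatrix e e) hg
        simp only [Matrix.submatrix_submatrix, Equiv.symm_comp_self, Matrix.submatrix_id_id] at this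
        rw [this]
        ext i j
        simp [Matrix.one_apply]
      calc (g : Matrix κ κ F) = ((P⁻¹ : GL κ F) : Matrix κ κ F) *
            ((P : Matrix κ κ F) * (g : Matrix κ κ F) * ((P⁻¹ : GL κ F) : Matrix κ κ F)) *
              (P : Matrix κ κ F) := by
            simp only [mul_assoc, Units.inv_mul, mul_one]
            rw [← mul_assoc, Units.inv_mul, one_mul]
        _ = _ := by
            rw [h1, Matrix.mul_smul, mul_one, Matrix.smul_mul, Units.inv_mul]

theorem eq_of_dot {A B : Matrix ι ι F} (h : ∀ x y : ι → F, x ⬝ᵥ (A *ᵥ y) = x ⬝ᵥ (B *ᵥ y)) :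
    A = B := by
  ext i j
  simpa using h (Pi.single i 1) (Pi.single j 1)

theorem dot_congr (B g : Matrix ι ι F) (u v : ι → F) :
    (g *ᵥ u) ⬝ᵥ (B *ᵥ (g *ᵥ v)) = u ⬝ᵥ ((gᵀ * B * g) *ᵥ v) := by
  rw [← Matrix.mulVec_mulVec, ← Matrix.mulVec_mulVec, Matrix.dotProduct_mulVec u,
    Matrix.vecMul_transpose]

theorem similarityGroup_eq_simGrp (B : Matrix ι ι F) :
    Geo.similarityGroup (fun u v : ι → F => u ⬝ᵥ (B *ᵥ v)) = simGrp B := by
  ext g
  refine exists_congr fun c => ⟨fun h => eq_of_dot fun u v => ?_, fun h u v => ?_⟩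
  · rw [← dot_congr, Matrix.smul_mulVec, dotProduct_smul, smul_eq_mul]
    exact h u v
  · show _ ⬝ᵥ _ = _
    rw [dot_congr, h, Matrix.smul_mulVec, dotProduct_smul, smul_eq_mul]

end Sim

variable {F : Type*} [Field F] {m : ℕ}

local notation "PG" => Matrix.ProjectiveSpecialLinearGroup (Fin (m + 2)) F
local notation "G2" => GL (Fin (m + 2)) F

/-- The graph automorphism attached to the invertible matrix `B`. -/
noncomputable def gam (B : G2) : MulAut PG := cj B⁻¹ * invT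

theorem gam_eq_iff (B B' : G2) : gam B = gam B' ↔
    ∃ a : Fˣ, (B' : Matrix (Fin (m + 2)) (Fin (m + 2)) F) = (a : F) • (B : Matrix _ _ F) := by
  rw [gam, gam, mul_left_inj, cj_eq_iff]
  constructor
  · rintro ⟨a, ha⟩
    refine ⟨a, ?_⟩
    have h : B' = scal a * B := by
      have h1 : scal a * B'⁻¹ * B' = B⁻¹ * B' := by rw [ha]
      rw [mul_assoc, inv_mul_cancel, mul_one] at h1
      rw [FieldAut.scal_comm, h1, mul_inv_cancel_left]
    rw [h, Units.val_mul, FieldAut.scal_coe, Matrix.smul_mul, one_mul]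
  · rintro ⟨a, ha⟩
    refine ⟨a, ?_⟩
    have h : B' = scal a * B := Units.ext (by
      rw [ha, Units.val_mul, FieldAut.scal_coe, Matrix.smul_mul, one_mul])
    rw [h, _root_.mul_inv_rev, ← mul_assoc, FieldAut.scal_comm, mul_assoc, mul_inv_cancel, mul_one]

theorem conj_gam (k B : G2) : cj k * gam B * (cj k)⁻¹ = gam (ctr k * B * k⁻¹) := by
  have hc : ctr (k⁻¹ : G2) = (ctr k)⁻¹ := Units.ext rfl
  rw [gam, gam, ← mul_assoc (cj k), mul_assoc _ invT, ← map_inv, invT_cj, ← mul_assoc, ← map_mul,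
    ← map_mul, hc, _root_.mul_inv_rev, _root_.mul_inv_rev, inv_inv, mul_assoc k]

theorem isConjUnder_gam_iff (B B' : G2) :
    Cfsg.IsConjUnder (Cfsg.inndiagPSL (m + 2) F) (gam B) (gam B') ↔
      ∃ (k : G2) (c : Fˣ), (B' : Matrix (Fin (m + 2)) (Fin (m + 2)) F) =
        (c : F) • ((k : Matrix _ _ F)ᵀ * (B : Matrix _ _ F) * (k : Matrix _ _ F)) := by
  rw [Cfsg.IsConjUnder, inndiag_eq]
  constructor
  · rintro ⟨_, ⟨k, rfl⟩, h⟩
    rw [conj_gam, eq_comm, gam_eq_iff] at h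
    obtain ⟨a, ha⟩ := h
    exact ⟨k⁻¹, a, by rw [ha]; rfl⟩
  · rintro ⟨k, c, h⟩
    refine ⟨cj k⁻¹, ⟨_, rfl⟩, ?_⟩
    rw [conj_gam, eq_comm, gam_eq_iff]
    refine ⟨c, h.trans (congrArg _ ?_)⟩
    rw [inv_inv]
    show _ = (((k⁻¹)⁻¹ : G2) : Matrix (Fin (m + 2)) (Fin (m + 2)) F)ᵀ *
      (B : Matrix (Fin (m + 2)) (Fin (m + 2)) F) * (k : Matrix (Fin (m + 2)) (Fin (m + 2)) F)
    rw [inv_inv]

theorem invT_eq_gam : (invT : MulAut PG) = gam 1 := by rw [gam, inv_one, map_one, one_mul]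

theorem isGraph_iff (γ : MulAut PG) :
    Cfsg.IsGraphAutClassPSL γ ↔ 1 ≤ m ∧ ∃ B : G2, γ = gam B := by
  unfold Cfsg.IsGraphAutClassPSL
  constructor
  · rintro ⟨hn, δ, ι, hδ, hι, rfl⟩
    obtain ⟨g, rfl⟩ := (isInnerDiag_iff δ).1 hδ
    rw [(isInvT_iff _).1 hι]
    exact ⟨by omega, g⁻¹, by rw [gam, inv_inv]⟩
  · rintro ⟨hm, B, rfl⟩
    exact ⟨by omega, cj B⁻¹, invT, (isInnerDiag_iff _).2 ⟨_, rfl⟩, (isInvT_iff _).2 rfl, rfl⟩

theorem orderOf_gam_iff (hm : 1 ≤ m) (B : G2) : orderOf (gam B) = 2 ↔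
    (B : Matrix (Fin (m + 2)) (Fin (m + 2)) F)ᵀ = (B : Matrix _ _ F) ∨
      (B : Matrix (Fin (m + 2)) (Fin (m + 2)) F)ᵀ = -(B : Matrix _ _ F) := by
  have hne : gam B ≠ 1 := fun h => semi_mul_invT_ne hm 1 B⁻¹ (RingEquiv.refl F) (RingEquiv.refl F) (by
    rw [semi_one, ← h]; rfl)
  rw [orderOf_eq_iff two_pos]
  have hsq : gam B ^ 2 = cj (B⁻¹ * ctr B⁻¹) := by
    rw [gam, pow_two, mul_assoc, ← mul_assoc invT (cj B⁻¹), invT_cj, mul_assoc (cj (ctr B⁻¹)), invT_sq, mul_one,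
      map_mul]
  have hctr : ((ctr B⁻¹ : G2) : Matrix (Fin (m + 2)) (Fin (m + 2)) F) =
      (B : Matrix (Fin (m + 2)) (Fin (m + 2)) F)ᵀ := by
    show (((B⁻¹)⁻¹ : G2) : Matrix (Fin (m + 2)) (Fin (m + 2)) F)ᵀ = _
    rw [inv_inv]
  have h1 : gam B ^ 2 = 1 ↔ ∃ a : Fˣ, (B : Matrix (Fin (m + 2)) (Fin (m + 2)) F)ᵀ = (a : F) • (B : Matrix _ _ F) := by
    rw [hsq, cj_eq_one_iff]
    refine exists_congr fun a => ?_
    rw [inv_mul_eq_iff_eq_mul, Units.ext_iff, hctr, Units.val_mul, FieldAut.scal_coe, Matrix.mul_smul, mul_one]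
  constructor
  · rintro ⟨h, -⟩
    obtain ⟨a, ha⟩ := h1.1 h
    have h2 := congrArg Matrix.transpose ha
    rw [Matrix.transpose_transpose, Matrix.transpose_smul, ha, smul_smul] at h2
    obtain ⟨i, j, hij⟩ : ∃ i j, (B : Matrix (Fin (m + 2)) (Fin (m + 2)) F) i j ≠ 0 := by
      by_contra! h0
      exact B.det_ne_zero (by
        rw [show (B : Matrix (Fin (m + 2)) (Fin (m + 2)) F) = 0 from Matrix.ext h0]; simp)
    have h3 := congrFun (congrFun h2 i) j
    rw [Matrix.smul_apply, smul_eq_mul] at h3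
    rcases mul_self_eq_one_iff.1 ((mul_eq_right₀ hij).1 h3.symm) with h4 | h4 <;> rw [h4] at ha
    · exact Or.inl (ha.trans (one_smul _ _))
    · exact Or.inr (ha.trans (neg_one_smul _ _))
  · intro h
    refine ⟨h1.2 ?_, fun k hk hk0 => ?_⟩
    · rcases h with h | h
      · exact ⟨1, by rw [h, Units.val_one, one_smul]⟩
      · exact ⟨-1, by rw [h, Units.val_neg, Units.val_one, neg_one_smul]⟩
    · obtain rfl : k = 1 := by omega
      rwa [pow_one]

theorem graph_inv_exists {γ : MulAut PG} (hγ : Cfsg.IsGraphAutClassPSL γ) (h2 : orderOf γ = 2) :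
    1 ≤ m ∧ ∃ B : G2, γ = gam B ∧
      ((B : Matrix (Fin (m + 2)) (Fin (m + 2)) F)ᵀ = (B : Matrix _ _ F) ∨
        (B : Matrix (Fin (m + 2)) (Fin (m + 2)) F)ᵀ = -(B : Matrix _ _ F)) := by
  obtain ⟨hm, B, rfl⟩ := (isGraph_iff γ).1 hγ
  exact ⟨hm, B, rfl, (orderOf_gam_iff hm B).1 h2⟩

theorem commute_gam_iff (h B : G2) :
    Commute (cj h) (gam B) ↔ h ∈ simGrp (B : Matrix (Fin (m + 2)) (Fin (m + 2)) F) := by
  have e : Commute (cj h) (gam B) ↔ cj h⁻¹ * gam B * (cj h⁻¹)⁻¹ = gam B := by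
    rw [map_inv, inv_inv, mul_assoc, inv_mul_eq_iff_eq_mul, eq_comm]
    exact Iff.rfl
  rw [e, conj_gam, eq_comm, gam_eq_iff, mem_simGrp]
  refine exists_congr fun a => ?_
  rw [inv_inv, Units.val_mul, Units.val_mul]
  show (((h⁻¹)⁻¹ : G2) : Matrix (Fin (m + 2)) (Fin (m + 2)) F)ᵀ * (B : Matrix (Fin (m + 2)) (Fin (m + 2)) F) *
    (h : Matrix (Fin (m + 2)) (Fin (m + 2)) F) = _ ↔ _
  rw [inv_inv]

theorem gam_centralizer_equiv (B : G2) :
    Nonempty (↥(Cfsg.inndiagPSL (m + 2) F ⊓ Subgroup.centralizer {gam B}) ≃*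
      Cfsg.projQuot (simGrp (B : Matrix (Fin (m + 2)) (Fin (m + 2)) F))) := by
  rw [inndiag_eq]
  set H := simGrp (B : Matrix (Fin (m + 2)) (Fin (m + 2)) F)
  obtain ⟨E⟩ := centralizer_equiv (cj : G2 →* MulAut PG) (gam B) (cj.comp H.subtype)
    (fun b => ⟨⟨_, rfl⟩, (commute_gam_iff _ _).2 b.2⟩)
    fun a ha => ⟨⟨a, (commute_gam_iff _ _).1 ha⟩, rfl⟩
  refine ⟨E.trans (QuotientGroup.quotientMulEquivOfEq ?_)⟩
  ext g
  rw [MonoidHom.mem_ker, MonoidHom.comp_apply, cj_eq_one_iff, Subgroup.mem_subgroupOf, Geo.mem_scalars_iff]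
  refine exists_congr fun a => ?_
  rw [Units.ext_iff, FieldAut.scal_coe]
  rfl

theorem gam_centralizer_model {κ : Type} [Fintype κ] [DecidableEq κ] (B : G2) (e : κ ≃ Fin (m + 2))
    {B' : Matrix κ κ F} (P : GL κ F) (c : Fˣ)
    (h : B' = (c : F) • ((P : Matrix κ κ F)ᵀ *
      (B : Matrix (Fin (m + 2)) (Fin (m + 2)) F).submatrix e e * (P : Matrix κ κ F))) :
    Nonempty (↥(Cfsg.inndiagPSL (m + 2) F ⊓ Subgroup.centralizer {gam B}) ≃*
      Cfsg.projQuot (simGrp B')) := by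
  obtain ⟨E⟩ := gam_centralizer_equiv B
  obtain ⟨E'⟩ := simGrp_transport e P c h
  exact ⟨E.trans E'.symm⟩

/-- A congruent model gives the centraliser. -/
theorem gam_centralizer_of_conj {κ : Type} [Fintype κ] [DecidableEq κ] {B B₀ : G2}
    (hB : Cfsg.IsConjUnder (Cfsg.inndiagPSL (m + 2) F) (gam B) (gam B₀)) (e : κ ≃ Fin (m + 2))
    {M : Matrix κ κ F} (hM : (B₀ : Matrix (Fin (m + 2)) (Fin (m + 2)) F).submatrix e e = M) :
    Nonempty (↥(Cfsg.inndiagPSL (m + 2) F ⊓ Subgroup.centralizer {gam B}) ≃*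
      Cfsg.projQuot (simGrp M)) := by
  obtain ⟨k, c, hk⟩ := (isConjUnder_gam_iff _ _).1 hB
  refine gam_centralizer_model B e ((glReindex e).symm k) c ?_
  rw [← hM, hk, Matrix.submatrix_smul]
  refine congrArg (fun M : Matrix κ κ F => (c : F) • M) ?_
  show _ = ((k : Matrix (Fin (m + 2)) (Fin (m + 2)) F).submatrix e e)ᵀ *
    (B : Matrix (Fin (m + 2)) (Fin (m + 2)) F).submatrix e e *
    (k : Matrix (Fin (m + 2)) (Fin (m + 2)) F).submatrix e e
  rw [Matrix.transpose_submatrix, Matrix.submatrix_mul_equiv, Matrix.submatrix_mul_equiv]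

end Cfsg.Agent.AutPSL
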