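import Cfsg.Agent.Lib.AutPSL.GraphOdd

/-!
# Centralisers of involutory graph automorphisms of `PSL`, odd characteristic

* `skew_model`, `plus_model`, `minus_model`, `odd_model` : `PGSp`, `PGO⁺`, `PGO⁻`, `PGO` in odd dimension
-/

set_option autoImplicit false
set_option linter.unusedSectionVars false
set_option linter.style.haveILetI false

open scoped MatrixGroups Matrix

namespace Cfsg.Agent.AutPSL

variable {F : Type*} [Field F] {m : ℕ}

local notation "PG" => Matrix.ProjectiveSpecialLinearGroup (Fin (m + 2)) F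
local notation "G2" => GL (Fin (m + 2)) F
local notation "M2" => Matrix (Fin (m + 2)) (Fin (m + 2)) F

theorem projQuot_of_eq {ι : Type} [Fintype ι] [DecidableEq ι] {H H' : Subgroup (GL ι F)} (h : H = H') :
    Nonempty (Cfsg.projQuot H ≃* Cfsg.projQuot H') := by subst h; exact ⟨MulEquiv.refl _⟩

theorem GSp_eq_simGrp (k : ℕ) : Cfsg.GSp k F = simGrp (Matrix.J (Fin k) F) :=
  similarityGroup_eq_simGrp _

theorem det_J_ne_zero (k : ℕ) : (Matrix.J (Fin k) F).det ≠ 0 := by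
  intro h
  have := OrthOuter.det_J_eq_one (F := F) k
  rw [Matrix.det_neg, h, mul_zero] at this
  exact zero_ne_one this

variable [Fintype F]

theorem isSquare_mul_of_nonsq {a b : F} (ha : ¬ IsSquare a) (hb : ¬ IsSquare b) : IsSquare (a * b) := by
  classical
  have ha0 : a ≠ 0 := fun h => ha (h ▸ IsSquare.zero)
  have hb0 : b ≠ 0 := fun h => hb (h ▸ IsSquare.zero)
  refine (quadraticChar_one_iff_isSquare (mul_ne_zero ha0 hb0)).1 ?_
  rw [map_mul, quadraticChar_neg_one_iff_not_isSquare.2 ha, quadraticChar_neg_one_iff_not_isSquare.2 hb]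
  rfl

theorem skew_model (h2 : (2 : F) ≠ 0) {k : ℕ} (hk : m + 2 = 2 * k) {B : G2} (hB : (B : M2)ᵀ = -(B : M2)) :
    Nonempty (↥(Cfsg.inndiagPSL (m + 2) F ⊓ Subgroup.centralizer {gam B}) ≃* Cfsg.PGSp k F) := by
  let e : Fin k ⊕ Fin k ≃ Fin (m + 2) := Fintype.equivOfCardEq (by simp [hk, two_mul])
  have hc : Cfsg.IsConjUnder (Cfsg.inndiagPSL (m + 2) F) (gam B) (gam (ofModel e _ (det_J_ne_zero k))) :=
    conj_skew h2 hk hB (by
      rw [ofModel_coe, Matrix.transpose_submatrix, Matrix.J_transpose]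
      rfl)
  obtain ⟨E⟩ := gam_centralizer_of_conj hc e (ofModel_sub e _ _)
  obtain ⟨E'⟩ := projQuot_of_eq (GSp_eq_simGrp (F := F) k)
  exact ⟨E.trans E'.symm⟩

/-- A symmetric model of the right square class gives the centraliser. -/
theorem orth_model (h2 : (2 : F) ≠ 0) {κ : Type} [Fintype κ] [DecidableEq κ] (e : κ ≃ Fin (m + 2))
    (Q : QuadraticForm F (κ → F)) (hd : (Orth.gram ⇑Q).det ≠ 0) {B : G2} (hB : (B : M2)ᵀ = (B : M2))
    (hsq : Odd (m + 2) ∨ IsSquare ((B : M2).det * (Orth.gram ⇑Q).det)) :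
    Nonempty (↥(Cfsg.inndiagPSL (m + 2) F ⊓ Subgroup.centralizer {gam B}) ≃* Cfsg.PGO F ⇑Q) := by
  have hs : ((ofModel e _ hd : G2) : M2)ᵀ = ((ofModel e _ hd : G2) : M2) := by
    rw [ofModel_coe, Matrix.transpose_submatrix, gram_symm]
  have hc : Cfsg.IsConjUnder (Cfsg.inndiagPSL (m + 2) F) (gam B) (gam (ofModel e _ hd)) := by
    rcases hsq with h | h
    · exact conj_symm_odd h2 h hB hs
    · exact conj_symm_even h2 hB hs (by rwa [ofModel_det])
  obtain ⟨E⟩ := gam_centralizer_of_conj hc e (ofModel_sub e _ _)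
  obtain ⟨E'⟩ := projQuot_of_eq (quadSim_eq_simGrp h2 Q)
  exact ⟨E.trans E'.symm⟩

theorem plus_model (h2 : (2 : F) ≠ 0) {k : ℕ} (hk : m + 2 = 2 * k) {B : G2} (hB : (B : M2)ᵀ = (B : M2))
    (hsq : IsSquare ((B : M2).det * (-1) ^ k)) :
    Nonempty (↥(Cfsg.inndiagPSL (m + 2) F ⊓ Subgroup.centralizer {gam B}) ≃*
      Cfsg.PGO F (Cfsg.quadFormPlus k F)) := by
  let e : Fin k ⊕ Fin k ≃ Fin (m + 2) := Fintype.equivOfCardEq (by simp [hk, two_mul])
  have hd : (Orth.gram (Cfsg.quadFormPlus k F)).det = (-1) ^ k := Orth.det_gram_quadPlus k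
  exact orth_model h2 e (Orth.quadPlus k F)
    (by show (Orth.gram (Cfsg.quadFormPlus k F)).det ≠ 0
        rw [hd]; exact pow_ne_zero _ (neg_ne_zero.2 one_ne_zero)) hB
    (Or.inr (by show IsSquare (_ * (Orth.gram (Cfsg.quadFormPlus k F)).det); rwa [hd]))

theorem disc_nonsq (hodd : Odd (Fintype.card F)) {a b : F}
    (hab : ∀ z₁ z₂ : F, z₁ ^ 2 + a * z₁ * z₂ + b * z₂ ^ 2 = 0 → z₁ = 0 ∧ z₂ = 0) :
    ¬ IsSquare (a * a - 4 * b) := by
  classical
  exact quadraticChar_neg_one_iff_not_isSquare.1 (OrthOuter.chi_disc hodd hab)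

theorem minus_model (hodd : Odd (Fintype.card F)) {k : ℕ} (hk : m + 2 = 2 * k) {B : G2}
    (hB : (B : M2)ᵀ = (B : M2)) (hsq : ¬ IsSquare ((B : M2).det * (-1) ^ k)) {a b : F}
    (hab : ∀ z₁ z₂ : F, z₁ ^ 2 + a * z₁ * z₂ + b * z₂ ^ 2 = 0 → z₁ = 0 ∧ z₂ = 0) :
    Nonempty (↥(Cfsg.inndiagPSL (m + 2) F ⊓ Subgroup.centralizer {gam B}) ≃*
      Cfsg.PGO F (Cfsg.quadFormMinus (k - 1) F a b)) := by
  let e : (Fin (k - 1) ⊕ Fin (k - 1)) ⊕ Fin 2 ≃ Fin (m + 2) :=
    Fintype.equivOfCardEq (by simp; omega)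
  have hd : (Orth.gram (Cfsg.quadFormMinus (k - 1) F a b)).det = (-1) ^ k * (a * a - 4 * b) := by
    rw [Orth.det_gram_quadMinus, show k - 1 + 1 = k by omega]
  have hns := disc_nonsq hodd hab
  exact orth_model (OrthOuter.two_ne_zero_of_odd hodd) e (Orth.quadMinus (k - 1) F a b)
    (by show (Orth.gram (Cfsg.quadFormMinus (k - 1) F a b)).det ≠ 0
        rw [hd]
        exact mul_ne_zero (pow_ne_zero _ (neg_ne_zero.2 one_ne_zero)) fun h => hns (h ▸ IsSquare.zero)) hB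
    (Or.inr (by
      show IsSquare (_ * (Orth.gram (Cfsg.quadFormMinus (k - 1) F a b)).det)
      rw [hd, ← mul_assoc]
      exact isSquare_mul_of_nonsq hsq hns))

theorem exists_aniso (hodd : Odd (Fintype.card F)) :
    ∃ a b : F, ∀ z₁ z₂ : F, z₁ ^ 2 + a * z₁ * z₂ + b * z₂ ^ 2 = 0 → z₁ = 0 ∧ z₂ = 0 := by
  obtain ⟨ν, hν⟩ := FiniteField.exists_nonsquare (F := F) fun h =>
    Nat.not_odd_iff_even.2 (Nat.even_iff.2 (FiniteField.even_card_of_char_two h)) hodd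
  refine ⟨0, -ν, fun x y h => ?_⟩
  have hy : y = 0 := by
    by_contra hy
    exact hν ⟨x / y, by field_simp; linear_combination -h⟩
  subst hy
  exact ⟨by simpa using h, rfl⟩

theorem det_gram_odd_ne_zero (h2 : (2 : F) ≠ 0) (k : ℕ) :
    (Orth.gram (Cfsg.quadFormOdd k F)).det ≠ 0 := by
  have h : Orth.gram (Cfsg.quadFormOdd k F) = Matrix.fromBlocks (Matrix.diagonal fun _ : Unit => (2 : F)) 0 0
      (Orth.gram (Cfsg.quadFormPlus k F)) := by
    ext i j
    rcases i with i | (i | i) <;> rcases j with j | (j | j) <;>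
      simp [Orth.gram, Orth.polar_quadOdd, Orth.polar_quadPlus, Pi.single_apply, Matrix.diagonal]
  rw [h, Matrix.det_fromBlocks_zero₂₁, Matrix.det_diagonal, Orth.det_gram_quadPlus]
  exact mul_ne_zero (Finset.prod_ne_zero_iff.2 fun _ _ => h2) (pow_ne_zero _ (neg_ne_zero.2 one_ne_zero))

theorem odd_model (h2 : (2 : F) ≠ 0) {k : ℕ} (hk : m + 2 = 2 * k + 1) {B : G2}
    (hB : (B : M2)ᵀ = (B : M2)) :
    Nonempty (↥(Cfsg.inndiagPSL (m + 2) F ⊓ Subgroup.centralizer {gam B}) ≃*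
      Cfsg.PGO F (Cfsg.quadFormOdd k F)) :=
  orth_model h2 (Fintype.equivOfCardEq (by simp; omega)) (Orth.quadOdd k F) (det_gram_odd_ne_zero h2 k) hB
    (Or.inl ⟨k, hk⟩)

theorem one_transpose : ((1 : G2) : M2)ᵀ = ((1 : G2) : M2) := Matrix.transpose_one

end Cfsg.Agent.AutPSL
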