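import Cfsg.Agent.Lib.AutPSL.GraphInv
import Cfsg.Agent.Lib.OrthOuter.SympDet
import Cfsg.Agent.Lib.OrthOuter.CentBasic
import Cfsg.Agent.Lib.OrthOuter.Models
import Cfsg.Agent.Lib.QuadClass.Odd

/-!
# Involutory graph automorphisms of `PSL`, odd characteristic

* `congr_symm`, `congr_alt` : congruence classes of symmetric and alternating matrices
* `symp_type`, `orth_type`, `class_even` : the three classes in even dimension
-/

set_option autoImplicit false
set_option linter.unusedSectionVars false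
set_option linter.style.haveILetI false

open scoped MatrixGroups Matrix

namespace Cfsg.Agent.AutPSL

section Congr

variable {F : Type*} [Field F] {n : ℕ} {ι κ : Type} [Fintype ι] [DecidableEq ι] [Fintype κ] [DecidableEq κ]

/-- The quadratic form `x ↦ x ⬝ B x`. -/
noncomputable def qfOf (B : Matrix (Fin n) (Fin n) F) : QuadraticForm F (Fin n → F) :=
  LinearMap.BilinMap.toQuadraticMap (Matrix.toLinearMap₂' F B : LinearMap.BilinForm F (Fin n → F))

theorem qfOf_apply (B : Matrix (Fin n) (Fin n) F) (x : Fin n → F) : qfOf B x = x ⬝ᵥ (B *ᵥ x) := by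
  rw [qfOf, LinearMap.BilinMap.toQuadraticMap_apply, Matrix.toLinearMap₂'_apply']

theorem polar_qfOf {B : Matrix (Fin n) (Fin n) F} (hB : Bᵀ = B) (x y : Fin n → F) :
    QuadraticMap.polar ⇑(qfOf B) x y = 2 * (x ⬝ᵥ (B *ᵥ y)) := by
  have hs : y ⬝ᵥ (B *ᵥ x) = x ⬝ᵥ (B *ᵥ y) := by
    rw [Matrix.dotProduct_mulVec, ← Matrix.mulVec_transpose, hB, dotProduct_comm]
  rw [QuadraticMap.polar, qfOf_apply, qfOf_apply, qfOf_apply, Matrix.mulVec_add, add_dotProduct,
    dotProduct_add, dotProduct_add, hs]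
  ring

theorem toMatrix_qfOf {B : Matrix (Fin n) (Fin n) F} (hB : Bᵀ = B) :
    LinearMap.BilinForm.toMatrix' (QuadraticMap.polarBilin (qfOf B)) = (2 : F) • B := by
  ext i j
  rw [LinearMap.BilinForm.toMatrix'_apply, QuadraticMap.polarBilin_apply_apply, polar_qfOf hB,
    Matrix.smul_apply, smul_eq_mul]
  simp

theorem congr_symm [Fintype F] (h2 : (2 : F) ≠ 0) {B B' : Matrix (Fin n) (Fin n) F} (hB : Bᵀ = B)
    (hB' : B'ᵀ = B') (d : B.det ≠ 0) (d' : B'.det ≠ 0) (hsq : IsSquare (B.det * B'.det)) :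
    ∃ P : GL (Fin n) F, B' = (P : Matrix (Fin n) (Fin n) F)ᵀ * B * (P : Matrix (Fin n) (Fin n) F) := by
  have hnd : ∀ {C : Matrix (Fin n) (Fin n) F}, Cᵀ = C → C.det ≠ 0 →
      (QuadraticMap.polarBilin (qfOf C)).Nondegenerate := fun {C} hC dC => by
    refine LinearMap.BilinForm.nondegenerate_toMatrix'_iff.1 (Matrix.nondegenerate_iff_det_ne_zero.2 ?_)
    rw [toMatrix_qfOf hC, Matrix.det_smul]
    exact mul_ne_zero (pow_ne_zero _ h2) dC
  obtain ⟨f⟩ := (QuadClass.equivalent_iff_disc h2 _ _ (hnd hB' d') (hnd hB d)).2 (by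
    rw [QuadClass.disc, QuadClass.disc, toMatrix_qfOf hB, toMatrix_qfOf hB', Matrix.det_smul, Matrix.det_smul]
    obtain ⟨s, hs⟩ := hsq
    exact ⟨(2 : F) ^ Fintype.card (Fin n) * s, by linear_combination ((2 : F) ^ Fintype.card (Fin n)) ^ 2 * hs⟩)
  have hdet : (LinearMap.toMatrix' f.toLinearEquiv.toLinearMap).det ≠ 0 := by
    rw [LinearMap.det_toMatrix']; exact f.toLinearEquiv.isUnit_det'.ne_zero
  refine ⟨Matrix.GeneralLinearGroup.mkOfDetNeZero _ hdet, eq_of_dot fun x y => mul_left_cancel₀ h2 ?_⟩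
  show _ = 2 * (x ⬝ᵥ (((LinearMap.toMatrix' f.toLinearEquiv.toLinearMap)ᵀ * B *
    LinearMap.toMatrix' f.toLinearEquiv.toLinearMap) *ᵥ y))
  rw [← dot_congr, ← polar_qfOf hB', ← polar_qfOf hB]
  simp [QuadraticMap.polar, LinearMap.toMatrix'_mulVec, ← map_add, QuadraticMap.IsometryEquiv.map_app]

theorem exists_congr_negJ (e : κ ≃ ι) {k : ℕ} (g : Fin k ⊕ Fin k ≃ κ) (W : Matrix ι ι F)
    (halt : ∀ x : ι → F, x ⬝ᵥ (W *ᵥ x) = 0) (hW : W.det ≠ 0) :
    ∃ P : GL ι F, (P : Matrix ι ι F)ᵀ * W * (P : Matrix ι ι F) =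
      (-(Matrix.J (Fin k) F)).submatrix (g.trans e).symm (g.trans e).symm := by
  obtain ⟨e', P, hP, hPW⟩ := OrthOuter.exists_sympl_matrix W halt hW (k := k) (by
    rw [← Fintype.card_congr (g.trans e), Fintype.card_sum, Fintype.card_fin]; omega)
  set Q := P.submatrix e'.symm (g.trans e).symm with hQ
  have key : Qᵀ * W * Q = (-(Matrix.J (Fin k) F)).submatrix (g.trans e).symm (g.trans e).symm := by
    have hWW : W = (W.submatrix e' e').submatrix e'.symm e'.symm := by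
      rw [Matrix.submatrix_submatrix, Equiv.self_comp_symm, Matrix.submatrix_id_id]
    rw [hQ, Matrix.transpose_submatrix, hWW, Matrix.submatrix_mul_equiv, Matrix.submatrix_mul_equiv, hPW]
  have hQd : Q.det ≠ 0 := by
    intro h0
    have := congrArg Matrix.det key
    rw [Matrix.det_mul, Matrix.det_mul, Matrix.det_transpose, h0, zero_mul, zero_mul,
      Matrix.det_submatrix_equiv_self, OrthOuter.det_J_eq_one] at this
    exact zero_ne_one this
  exact ⟨Matrix.GeneralLinearGroup.mkOfDetNeZero Q hQd, key⟩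

theorem congr_alt {k : ℕ} (hk : n = 2 * k) {W W' : Matrix (Fin n) (Fin n) F}
    (ha : ∀ x : Fin n → F, x ⬝ᵥ (W *ᵥ x) = 0) (d : W.det ≠ 0)
    (ha' : ∀ x : Fin n → F, x ⬝ᵥ (W' *ᵥ x) = 0) (d' : W'.det ≠ 0) :
    ∃ P : GL (Fin n) F, W' = (P : Matrix (Fin n) (Fin n) F)ᵀ * W * (P : Matrix (Fin n) (Fin n) F) := by
  let g : Fin k ⊕ Fin k ≃ Fin n := Fintype.equivOfCardEq (by simp [hk, two_mul])
  obtain ⟨P, hP⟩ := exists_congr_negJ (Equiv.refl _) g W ha d
  obtain ⟨Q, hQ⟩ := exists_congr_negJ (Equiv.refl _) g W' ha' d'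
  refine ⟨P * Q⁻¹, ?_⟩
  have h : W' = ((Q⁻¹ : GL (Fin n) F) : Matrix (Fin n) (Fin n) F)ᵀ *
      ((Q : Matrix (Fin n) (Fin n) F)ᵀ * W' * (Q : Matrix (Fin n) (Fin n) F)) *
        ((Q⁻¹ : GL (Fin n) F) : Matrix (Fin n) (Fin n) F) := by
    simp only [← mul_assoc, ← Matrix.transpose_mul, Units.mul_inv, Matrix.transpose_one, one_mul]
    simp only [mul_assoc, Units.mul_inv, mul_one]
  rw [hQ, ← hP] at h
  rw [h, Units.val_mul, Matrix.transpose_mul]
  simp only [mul_assoc]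

theorem alt_of_skew (h2 : (2 : F) ≠ 0) {W : Matrix ι ι F} (hW : Wᵀ = -W) (x : ι → F) :
    x ⬝ᵥ (W *ᵥ x) = 0 := by
  have h : x ⬝ᵥ (W *ᵥ x) = -(x ⬝ᵥ (W *ᵥ x)) := by
    conv_lhs => rw [Matrix.dotProduct_mulVec, ← Matrix.mulVec_transpose, hW, Matrix.neg_mulVec,
      neg_dotProduct, dotProduct_comm]
  exact (mul_eq_zero.1 (by linear_combination h : (2 : F) * (x ⬝ᵥ (W *ᵥ x)) = 0)).resolve_left h2

theorem quadSim_eq_simGrp [Fintype F] (h2 : (2 : F) ≠ 0) (Q : QuadraticForm F (ι → F)) :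
    Geo.quadSimilarityGroup (F := F) ⇑Q = simGrp (Orth.gram ⇑Q) := by
  have hself : ∀ v : ι → F, v ⬝ᵥ (Orth.gram ⇑Q *ᵥ v) = 2 * Q v := fun v => by
    rw [← OrthOuter.polar_eq_dot, QuadraticMap.polar_self, two_smul, two_mul]
  ext g
  refine exists_congr fun c => ⟨fun h => eq_of_dot fun u v => ?_, fun h v => ?_⟩
  · rw [← dot_congr, Matrix.smul_mulVec, dotProduct_smul, smul_eq_mul, ← OrthOuter.polar_eq_dot,
      ← OrthOuter.polar_eq_dot, QuadraticMap.polar, QuadraticMap.polar, ← Matrix.mulVec_add, h, h, h]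
    ring
  · have := dot_congr (Orth.gram ⇑Q) (g : Matrix ι ι F) v v
    rw [h, Matrix.smul_mulVec, dotProduct_smul, smul_eq_mul, hself, hself] at this
    exact mul_left_cancel₀ h2 (by linear_combination this)

theorem gram_symm (Q : (ι → F) → F) : (Orth.gram Q)ᵀ = Orth.gram Q := by
  ext i j
  exact QuadraticMap.polar_comm _ _ _

end Congr

variable {F : Type*} [Field F] {m : ℕ}

local notation "PG" => Matrix.ProjectiveSpecialLinearGroup (Fin (m + 2)) F
local notation "G2" => GL (Fin (m + 2)) F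
local notation "M2" => Matrix (Fin (m + 2)) (Fin (m + 2)) F

/-- The element of `GL` with given model. -/
noncomputable def ofModel {κ : Type} [Fintype κ] [DecidableEq κ] (e : κ ≃ Fin (m + 2))
    (M : Matrix κ κ F) (hM : M.det ≠ 0) : G2 :=
  glReindex e (Matrix.GeneralLinearGroup.mkOfDetNeZero M hM)

theorem ofModel_coe {κ : Type} [Fintype κ] [DecidableEq κ] (e : κ ≃ Fin (m + 2))
    (M : Matrix κ κ F) (hM : M.det ≠ 0) : ((ofModel e M hM : G2) : M2) = M.submatrix e.symm e.symm := rfl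

theorem ofModel_sub {κ : Type} [Fintype κ] [DecidableEq κ] (e : κ ≃ Fin (m + 2))
    (M : Matrix κ κ F) (hM : M.det ≠ 0) : ((ofModel e M hM : G2) : M2).submatrix e e = M := by
  rw [ofModel_coe, Matrix.submatrix_submatrix, Equiv.symm_comp_self, Matrix.submatrix_id_id]

theorem ofModel_det {κ : Type} [Fintype κ] [DecidableEq κ] (e : κ ≃ Fin (m + 2))
    (M : Matrix κ κ F) (hM : M.det ≠ 0) : ((ofModel e M hM : G2) : M2).det = M.det := by
  rw [ofModel_coe, Matrix.det_submatrix_equiv_self]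

theorem conj_of_congr {B B' : G2} (c : Fˣ) (P : G2)
    (h : (B' : M2) = (c : F) • ((P : M2)ᵀ * (B : M2) * (P : M2))) :
    Cfsg.IsConjUnder (Cfsg.inndiagPSL (m + 2) F) (gam B) (gam B') :=
  (isConjUnder_gam_iff _ _).2 ⟨P, c, h⟩

theorem isConjUnder_symm {X : Type*} [Group X] {H : Subgroup X} {x y : X} (h : Cfsg.IsConjUnder H x y) :
    Cfsg.IsConjUnder H y x := by
  obtain ⟨a, ha, rfl⟩ := h
  exact ⟨a⁻¹, inv_mem ha, by group⟩

theorem conj_symm_odd [Fintype F] (h2 : (2 : F) ≠ 0) (hm : Odd (m + 2)) {B B' : G2} (hB : (B : M2)ᵀ = (B : M2))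
    (hB' : (B' : M2)ᵀ = (B' : M2)) : Cfsg.IsConjUnder (Cfsg.inndiagPSL (m + 2) F) (gam B) (gam B') := by
  set c : F := (B : M2).det * (B' : M2).det
  have hc : c ≠ 0 := mul_ne_zero B.det_ne_zero B'.det_ne_zero
  obtain ⟨r, hr⟩ : Even (m + 2 + 1) := hm.add_one
  obtain ⟨P, hP⟩ := congr_symm h2 hB (B' := c • (B' : M2)) (by rw [Matrix.transpose_smul, hB'])
    B.det_ne_zero (by rw [Matrix.det_smul]; exact mul_ne_zero (pow_ne_zero _ hc) B'.det_ne_zero)
    ⟨c ^ r, by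
      rw [Matrix.det_smul, Fintype.card_fin, ← pow_add, ← hr, pow_succ c (m + 2)]
      ring⟩
  exact conj_of_congr (Units.mk0 c hc)⁻¹ P (by
    rw [← hP, Units.val_inv_eq_inv_val, Units.val_mk0, smul_smul, inv_mul_cancel₀ hc, one_smul])

theorem not_skew_odd (h2 : (2 : F) ≠ 0) (hm : Odd (m + 2)) {B : G2} : (B : M2)ᵀ ≠ -(B : M2) := by
  intro h
  have hd := congrArg Matrix.det h
  rw [Matrix.det_transpose, Matrix.det_neg, Fintype.card_fin, hm.neg_one_pow] at hd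
  exact B.det_ne_zero ((mul_eq_zero.1 (by linear_combination hd :
    (2 : F) * (B : M2).det = 0)).resolve_left h2)

theorem symm_of_odd (h2 : (2 : F) ≠ 0) (hm : Odd (m + 2)) {B : G2}
    (h : (B : M2)ᵀ = (B : M2) ∨ (B : M2)ᵀ = -(B : M2)) : (B : M2)ᵀ = (B : M2) :=
  h.resolve_right (not_skew_odd h2 hm)

theorem conj_skew (h2 : (2 : F) ≠ 0) {k : ℕ} (hk : m + 2 = 2 * k) {B B' : G2}
    (hB : (B : M2)ᵀ = -(B : M2)) (hB' : (B' : M2)ᵀ = -(B' : M2)) :
    Cfsg.IsConjUnder (Cfsg.inndiagPSL (m + 2) F) (gam B) (gam B') := by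
  obtain ⟨P, hP⟩ := congr_alt hk (alt_of_skew h2 hB) B.det_ne_zero (alt_of_skew h2 hB') B'.det_ne_zero
  exact conj_of_congr 1 P (by rw [Units.val_one, one_smul, hP])

theorem conj_symm_even [Fintype F] (h2 : (2 : F) ≠ 0) {B B' : G2} (hB : (B : M2)ᵀ = (B : M2))
    (hB' : (B' : M2)ᵀ = (B' : M2)) (hsq : IsSquare ((B : M2).det * (B' : M2).det)) :
    Cfsg.IsConjUnder (Cfsg.inndiagPSL (m + 2) F) (gam B) (gam B') := by
  obtain ⟨P, hP⟩ := congr_symm h2 hB hB' B.det_ne_zero B'.det_ne_zero hsq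
  exact conj_of_congr 1 P (by rw [Units.val_one, one_smul, hP])

theorem skew_symm_not_conj (h2 : (2 : F) ≠ 0) {B B' : G2} (hB : (B : M2)ᵀ = -(B : M2))
    (hB' : (B' : M2)ᵀ = (B' : M2)) : ¬ Cfsg.IsConjUnder (Cfsg.inndiagPSL (m + 2) F) (gam B) (gam B') := by
  intro h
  obtain ⟨P, c, hP⟩ := (isConjUnder_gam_iff _ _).1 h
  have h1 : (B' : M2)ᵀ = -(B' : M2) := by
    rw [hP, Matrix.transpose_smul, Matrix.transpose_mul, Matrix.transpose_mul, Matrix.transpose_transpose,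
      hB, Matrix.neg_mul, Matrix.mul_neg, smul_neg, mul_assoc]
  refine B'.det_ne_zero (?_ : (B' : M2).det = 0)
  have : (B' : M2) = 0 := by
    ext i j
    have hij := congrFun (congrFun (hB'.symm.trans h1) i) j
    rw [Matrix.neg_apply] at hij
    exact (mul_eq_zero.1 (by linear_combination hij : (2 : F) * (B' : M2) i j = 0)).resolve_left h2
  rw [this, Matrix.det_zero]

theorem square_det_of_conj (hm : Even (m + 2)) {B B' : G2}
    (h : Cfsg.IsConjUnder (Cfsg.inndiagPSL (m + 2) F) (gam B) (gam B')) :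
    IsSquare ((B : M2).det * (B' : M2).det) := by
  obtain ⟨P, c, hP⟩ := (isConjUnder_gam_iff _ _).1 h
  obtain ⟨r, hr⟩ := hm
  refine ⟨(c : F) ^ r * (P : M2).det * (B : M2).det, ?_⟩
  have e : (c : F) ^ (m + 2) = (c : F) ^ r * (c : F) ^ r := by rw [← pow_add]; exact congrArg _ hr
  rw [hP, Matrix.det_smul, Fintype.card_fin, e, Matrix.det_mul, Matrix.det_mul, Matrix.det_transpose]
  ring

end Cfsg.Agent.AutPSL
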