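import Cfsg.Agent.Lib.AutPSL.GraphTwo
import Cfsg.Agent.Lib.AutPSL.GraphModels

/-!
# Centralisers of involutory graph automorphisms of `PSL`, characteristic two

* `alt_model` : `Sp`; `one_odd_model` : `PGO` in odd dimension; `one_even_model` : `C_Sp(t)`, `t` a transvection
-/

set_option autoImplicit false
set_option linter.unusedSectionVars false
set_option linter.style.haveILetI false

open scoped MatrixGroups Matrix

namespace Cfsg.Agent.AutPSL

variable {F : Type*} [Field F] [CharP F 2] {m : ℕ}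

local notation "PG" => Matrix.ProjectiveSpecialLinearGroup (Fin (m + 2)) F
local notation "G2" => GL (Fin (m + 2)) F
local notation "M2" => Matrix (Fin (m + 2)) (Fin (m + 2)) F

theorem symm_two {B : G2} (h : (B : M2)ᵀ = (B : M2) ∨ (B : M2)ᵀ = -(B : M2)) : (B : M2)ᵀ = (B : M2) := by
  rcases h with h | h
  · exact h
  · rw [h]; ext i j; rw [Matrix.neg_apply, CharTwo.neg_eq]

theorem alt_two {B : G2} (hB : (B : M2)ᵀ = (B : M2)) (hd : ∀ i, (B : M2) i i = 0) (x : Fin (m + 2) → F) :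
    x ⬝ᵥ ((B : M2) *ᵥ x) = 0 := by
  rw [dot_self_of_diag hB]
  exact Finset.sum_eq_zero fun i _ => by rw [hd, mul_zero]

theorem conj_alt_two {k : ℕ} (hk : m + 2 = 2 * k) {B B' : G2} (hB : (B : M2)ᵀ = (B : M2))
    (hd : ∀ i, (B : M2) i i = 0) (hB' : (B' : M2)ᵀ = (B' : M2)) (hd' : ∀ i, (B' : M2) i i = 0) :
    Cfsg.IsConjUnder (Cfsg.inndiagPSL (m + 2) F) (gam B) (gam B') := by
  obtain ⟨P, hP⟩ := congr_alt hk (alt_two hB hd) B.det_ne_zero (alt_two hB' hd') B'.det_ne_zero
  exact conj_of_congr 1 P (by rw [Units.val_one, one_smul, hP])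

theorem exists_diag_of_odd (hm : Odd (m + 2)) {B : G2} (hB : (B : M2)ᵀ = (B : M2)) :
    ∃ i, (B : M2) i i ≠ 0 := by
  by_contra! hd
  exact B.det_ne_zero (det_eq_zero_of_diag hB hd (by rwa [Fintype.card_fin]))

theorem alt_not_conj {B B' : G2} (hB : (B : M2)ᵀ = (B : M2)) (hd : ∀ i, (B : M2) i i = 0)
    {i : Fin (m + 2)} (hi : (B' : M2) i i ≠ 0) :
    ¬ Cfsg.IsConjUnder (Cfsg.inndiagPSL (m + 2) F) (gam B) (gam B') := by
  intro h
  obtain ⟨P, c, hP⟩ := (isConjUnder_gam_iff _ _).1 h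
  apply hi
  have h1 : (Pi.single i (1 : F) : Fin (m + 2) → F) ⬝ᵥ ((B' : M2) *ᵥ Pi.single i 1) = 0 := by
    rw [hP, Matrix.smul_mulVec, dotProduct_smul, ← dot_congr, alt_two hB hd, smul_zero]
  simpa using h1

variable [Fintype F]

theorem conj_one_two {B : G2} (hB : (B : M2)ᵀ = (B : M2)) {i : Fin (m + 2)} (hi : (B : M2) i i ≠ 0) :
    Cfsg.IsConjUnder (Cfsg.inndiagPSL (m + 2) F) (gam B) (gam 1) := by
  obtain ⟨P, hP⟩ := congr_one hB B.det_ne_zero hi
  exact conj_of_congr 1 P (by simp [hP])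

theorem alt_model {k : ℕ} (hk : m + 2 = 2 * k) {B : G2} (hB : (B : M2)ᵀ = (B : M2))
    (hd : ∀ i, (B : M2) i i = 0) :
    Nonempty (↥(Cfsg.inndiagPSL (m + 2) F ⊓ Subgroup.centralizer {gam B}) ≃*
      Matrix.symplecticGroup (Fin k) F) := by
  let e : Fin k ⊕ Fin k ≃ Fin (m + 2) := Fintype.equivOfCardEq (by simp [hk, two_mul])
  have hc : Cfsg.IsConjUnder (Cfsg.inndiagPSL (m + 2) F) (gam B) (gam (ofModel e _ (det_J_ne_zero k))) :=
    conj_alt_two hk hB hd (by rw [ofModel_coe, Matrix.transpose_submatrix, J_symm_two])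
      fun i => by rw [ofModel_coe]; exact J_diag _ _
  obtain ⟨E⟩ := gam_centralizer_of_conj hc e (ofModel_sub e _ _)
  haveI : Nonempty (Fin k ⊕ Fin k) := ⟨e.symm 0⟩
  obtain ⟨E'⟩ := iso_equiv_projQuot (Matrix.J (Fin k) F) (det_J_ne_zero k)
  have hmem : ∀ g : GL (Fin k ⊕ Fin k) F, g ∈ isoMat (Matrix.J (Fin k) F) ↔
      (g : Matrix (Fin k ⊕ Fin k) (Fin k ⊕ Fin k) F) ∈ Matrix.symplecticGroup (Fin k) F := fun g =>
    SymplecticGroup.mem_iff'.symm
  let f : isoMat (Matrix.J (Fin k) F) →* Matrix.symplecticGroup (Fin k) F :=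
    MonoidHom.mk' (fun g => ⟨_, (hmem g).1 g.2⟩) fun g h => rfl
  have hf : Function.Bijective f := ⟨fun g h he => Subtype.ext (Units.ext (congrArg Subtype.val he)),
    fun A => ⟨⟨Matrix.GeneralLinearGroup.mkOfDetNeZero A.1 (SymplecticGroup.symplectic_det A.2).ne_zero,
      (hmem _).2 A.2⟩, Subtype.ext rfl⟩⟩
  exact ⟨E.trans (E'.symm.trans (MulEquiv.ofBijective f hf))⟩

theorem one_odd_model {k : ℕ} (hk : m + 2 = 2 * k + 1) {B : G2} (hB : (B : M2)ᵀ = (B : M2)) :
    Nonempty (↥(Cfsg.inndiagPSL (m + 2) F ⊓ Subgroup.centralizer {gam B}) ≃*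
      Cfsg.PGO F (Cfsg.quadFormOdd k F)) := by
  let e : Unit ⊕ (Fin k ⊕ Fin k) ≃ Fin (m + 2) := Fintype.equivOfCardEq (by simp; omega)
  have hd : (oddMat F k).det ≠ 0 := by
    rw [oddMat, Matrix.det_fromBlocks_zero₂₁, Matrix.det_one, one_mul]
    exact det_J_ne_zero k
  have hs : ((ofModel e _ hd : G2) : M2)ᵀ = ((ofModel e _ hd : G2) : M2) := by
    rw [ofModel_coe, Matrix.transpose_submatrix]
    congr 1
    rw [oddMat, Matrix.fromBlocks_transpose, J_symm_two]
    simp
  obtain ⟨i, hi⟩ := exists_diag_of_odd ⟨k, hk⟩ hB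
  obtain ⟨j, hj⟩ := exists_diag_of_odd ⟨k, hk⟩ hs
  obtain ⟨a, ha, h1⟩ := conj_one_two hB hi
  obtain ⟨b, hb, h2⟩ := isConjUnder_symm (conj_one_two hs hj)
  have hc : Cfsg.IsConjUnder (Cfsg.inndiagPSL (m + 2) F) (gam B) (gam (ofModel e _ hd)) :=
    ⟨b * a, mul_mem hb ha, by rw [h2, h1]; group⟩
  obtain ⟨E⟩ := gam_centralizer_of_conj hc e (ofModel_sub e _ _)
  obtain ⟨E1⟩ := iso_equiv_projQuot (oddMat F k) hd
  obtain ⟨E2⟩ := isoMat_oddMat_equiv (F := F) k
  obtain ⟨E3⟩ := Cfsg.Agent.S0304.result (F := F) k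
  obtain ⟨E4⟩ := isometry_equiv_PGO (F := F) k
  exact ⟨E.trans (E1.symm.trans (E2.symm.trans (E3.symm.trans E4)))⟩

section Transv

variable {k : ℕ}

local notation "K" => Fin k ⊕ Fin k

/-- `1 + j jᵀ`, `j` the all-one vector. -/
def onesMat (F : Type*) [Field F] (k : ℕ) : Matrix (Fin k ⊕ Fin k) (Fin k ⊕ Fin k) F :=
  1 + Matrix.vecMulVec (fun _ => 1) (fun _ => 1)

theorem ones_sq : onesMat F k * onesMat F k = 1 := by
  have h0 : ((fun _ => 1 : K → F) ⬝ᵥ fun _ => 1) = 0 := by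
    simp [dotProduct, CharTwo.add_self_eq_zero]
  rw [onesMat, add_mul, one_mul, mul_add, mul_one, vecMulVec_mul_vecMulVec', h0, zero_smul, add_zero,
    add_assoc]
  ext i j
  simp [CharTwo.add_self_eq_zero]

theorem ones_alt (x : K → F) : x ⬝ᵥ (onesMat F k *ᵥ x) = 0 := by
  rw [dot_self_of_diag (by rw [onesMat, Matrix.transpose_add, Matrix.transpose_one,
    Matrix.transpose_vecMulVec])]
  refine Finset.sum_eq_zero fun i _ => ?_
  simp [onesMat, Matrix.vecMulVec_apply, CharTwo.add_self_eq_zero]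

theorem sum_sq (x : K → F) :
    x ⬝ᵥ x = ((fun _ => 1 : K → F) ⬝ᵥ x) * ((fun _ => 1 : K → F) ⬝ᵥ x) := by
  simp only [dotProduct, one_mul, ← pow_two]
  exact (CharTwo.sum_sq _ _).symm

theorem iso_one_iff (g : GL K F) : g ∈ isoMat (1 : Matrix K K F) ↔
    (g : Matrix K K F)ᵀ * onesMat F k * (g : Matrix K K F) = onesMat F k ∧
      onesMat F k * (g : Matrix K K F) = (g : Matrix K K F) * onesMat F k := by
  rw [mem_isoMat, mul_one]
  constructor
  · intro h
    have hT : (g : Matrix K K F)ᵀ *ᵥ (fun _ => (1 : F)) = fun _ => 1 := by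
      funext i
      have h1 := sum_sq ((g : Matrix K K F) *ᵥ Pi.single i 1)
      have h2 := dot_congr (1 : Matrix K K F) (g : Matrix K K F) (Pi.single i 1) (Pi.single i 1)
      rw [mul_one, h, Matrix.one_mulVec, Matrix.one_mulVec, h1] at h2
      have h3 : ((fun _ => (1 : F)) ⬝ᵥ ((g : Matrix K K F) *ᵥ Pi.single i 1)) =
          ((g : Matrix K K F)ᵀ *ᵥ fun _ => (1 : F)) i := by
        rw [Matrix.mulVec_transpose, Matrix.dotProduct_mulVec, dotProduct_single_one]
      rw [h3] at h2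
      have h4 : ((g : Matrix K K F)ᵀ *ᵥ fun _ => (1 : F)) i * ((g : Matrix K K F)ᵀ *ᵥ fun _ => (1 : F)) i = 1 :=
        h2.trans (by simp)
      rcases mul_self_eq_one_iff.1 h4 with h5 | h5
      · exact h5
      · rw [h5, CharTwo.neg_eq]
    have hJ : (g : Matrix K K F) *ᵥ (fun _ => (1 : F)) = fun _ => 1 := by
      conv_lhs => rw [← hT]
      rw [Matrix.mulVec_mulVec, mul_eq_one_comm.1 h, Matrix.one_mulVec]
    have hc : onesMat F k * (g : Matrix K K F) = (g : Matrix K K F) * onesMat F k := by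
      rw [onesMat, add_mul, one_mul, mul_add, mul_one, Matrix.vecMulVec_mul, Matrix.mul_vecMulVec,
        ← Matrix.mulVec_transpose, hT, hJ]
    exact ⟨by rw [mul_assoc, hc, ← mul_assoc, h, one_mul], hc⟩
  · rintro ⟨h, hc⟩
    have h1 := congrArg (· * onesMat F k) h
    simp only [mul_assoc, ← hc] at h1
    rw [← mul_assoc (onesMat F k) (onesMat F k), ones_sq, one_mul] at h1
    exact h1

theorem one_even_model (hk : m + 2 = 2 * k) :
    ∃ t : ↥(Matrix.symplecticGroup (Fin k) F),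
      Cfsg.IsTransvection (t : Matrix (Fin k ⊕ Fin k) (Fin k ⊕ Fin k) F) ∧
      Nonempty (↥(Cfsg.inndiagPSL (m + 2) F ⊓ Subgroup.centralizer {gam (1 : G2)}) ≃*
        ↥(Subgroup.centralizer ({t} : Set ↥(Matrix.symplecticGroup (Fin k) F)))) := by
  have hunit : IsUnit (onesMat F k).det := Matrix.isUnit_det_of_right_inverse ones_sq
  obtain ⟨e', P, hP, hPW⟩ := OrthOuter.exists_sympl_matrix (onesMat F k) ones_alt hunit.ne_zero
    (k := k) (by simp [two_mul])
  have hsub : (onesMat F k).submatrix e' e' = onesMat F k := by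
    ext i j
    simp [onesMat, Matrix.vecMulVec_apply, Matrix.one_apply]
  have hnegJ : -(Matrix.J (Fin k) F) = Matrix.J (Fin k) F := by
    ext i j; rw [Matrix.neg_apply, CharTwo.neg_eq]
  rw [hsub, hnegJ] at hPW
  let u : GL K F := Matrix.GeneralLinearGroup.mkOfDetNeZero P hP
  let O : GL K F := ⟨onesMat F k, onesMat F k, ones_sq, ones_sq⟩
  have hconj : ∀ g : GL K F, ((u⁻¹ * g * u : GL K F) : Matrix K K F) ∈ Matrix.symplecticGroup (Fin k) F ↔
      (g : Matrix K K F)ᵀ * onesMat F k * (g : Matrix K K F) = onesMat F k := by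
    intro g
    rw [SymplecticGroup.mem_iff', ← hPW]
    set Mx : Matrix K K F := ((u⁻¹ * g * u : GL K F) : Matrix K K F) with hMx
    have hPM : P * Mx = (g : Matrix K K F) * P := by
      rw [hMx, ← show ((u : GL K F) : Matrix K K F) = P from rfl, ← Units.val_mul, ← Units.val_mul]
      congr 1
      group
    rw [show Mxᵀ * (Pᵀ * onesMat F k * P) * Mx = (P * Mx)ᵀ * onesMat F k * (P * Mx) by
      rw [Matrix.transpose_mul]; noncomm_ring, hPM, Matrix.transpose_mul]
    have hPu : IsUnit P.det := isUnit_iff_ne_zero.2 hP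
    have hPt : IsUnit Pᵀ.det := by rwa [Matrix.det_transpose]
    rw [show Pᵀ * (g : Matrix K K F)ᵀ * onesMat F k * ((g : Matrix K K F) * P) =
      Pᵀ * ((g : Matrix K K F)ᵀ * onesMat F k * (g : Matrix K K F)) * P by noncomm_ring]
    constructor
    · intro h
      have := congrArg (fun M => Pᵀ⁻¹ * M * P⁻¹) h
      simpa [mul_assoc, Matrix.nonsing_inv_mul_cancel_left _ _ hPt, Matrix.mul_nonsing_inv _ hPu] using this
    · intro h; rw [h]
  have hO : ((u⁻¹ * O * u : GL K F) : Matrix K K F) ∈ Matrix.symplecticGroup (Fin k) F := by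
    rw [hconj]
    show (onesMat F k)ᵀ * onesMat F k * onesMat F k = _
    rw [mul_assoc, ones_sq, mul_one, onesMat, Matrix.transpose_add, Matrix.transpose_one,
      Matrix.transpose_vecMulVec]
  let t : ↥(Matrix.symplecticGroup (Fin k) F) := ⟨_, hO⟩
  refine ⟨t, ?_, ?_⟩
  · show Cfsg.IsTransvection (((u⁻¹ : GL K F) : Matrix K K F) * onesMat F k * (u : Matrix K K F))
    have hsub1 : ((u⁻¹ : GL K F) : Matrix K K F) * onesMat F k * (u : Matrix K K F) - 1 =
        Matrix.vecMulVec (((u⁻¹ : GL K F) : Matrix K K F) *ᵥ fun _ => 1)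
          ((fun _ => (1 : F)) ᵥ* (u : Matrix K K F)) := by
      rw [onesMat, mul_add, mul_one, add_mul, Units.inv_mul, add_sub_cancel_left, Matrix.mul_vecMulVec,
        Matrix.vecMulVec_mul]
    unfold Cfsg.IsTransvection
    rw [hsub1]
    refine ⟨le_antisymm (Matrix.rank_vecMulVec_le _ _) (Nat.one_le_iff_ne_zero.2 fun h0 => ?_), ?_⟩
    · have hk0 : 0 < k := by omega
      rw [Matrix.rank, Submodule.finrank_eq_zero, LinearMap.range_eq_bot] at h0
      have h1 := Matrix.toLin'.injective (h0.trans (map_zero Matrix.toLin').symm)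
      have h2 := congrArg (fun M => (u : Matrix K K F) * M * ((u⁻¹ : GL K F) : Matrix K K F)) h1
      rw [Matrix.mul_vecMulVec, Matrix.vecMulVec_mul, Matrix.mulVec_mulVec, Matrix.vecMul_vecMul,
        Units.mul_inv, Matrix.one_mulVec, Matrix.vecMul_one, mul_zero, zero_mul] at h2
      have h3 := congrFun (congrFun h2 (Sum.inl ⟨0, hk0⟩)) (Sum.inl ⟨0, hk0⟩)
      simp [Matrix.vecMulVec_apply] at h3
    · rw [vecMulVec_mul_vecMulVec', ← Matrix.dotProduct_mulVec, Matrix.mulVec_mulVec, Units.mul_inv,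
        Matrix.one_mulVec]
      simp [dotProduct, CharTwo.add_self_eq_zero]
  · let e : K ≃ Fin (m + 2) := Fintype.equivOfCardEq (by simp [hk, two_mul])
    obtain ⟨E⟩ := gam_centralizer_model (1 : G2) e (B' := (1 : Matrix K K F)) 1 1 (by
      simp [Matrix.submatrix_one_equiv])
    haveI : Nonempty K := ⟨e.symm 0⟩
    obtain ⟨E'⟩ := iso_equiv_projQuot (1 : Matrix K K F) (by rw [Matrix.det_one]; exact one_ne_zero)
    have hcomm : ∀ g : GL K F, g ∈ isoMat (1 : Matrix K K F) ↔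
        ((u⁻¹ * g * u : GL K F) : Matrix K K F) ∈ Matrix.symplecticGroup (Fin k) F ∧
          ((u⁻¹ * g * u : GL K F) : Matrix K K F) * (t : Matrix K K F) =
            (t : Matrix K K F) * ((u⁻¹ * g * u : GL K F) : Matrix K K F) := by
      intro g
      rw [iso_one_iff, hconj]
      refine and_congr_right fun _ => ?_
      show _ ↔ ((u⁻¹ * g * u : GL K F) : Matrix K K F) * ((u⁻¹ * O * u : GL K F) : Matrix K K F) =
        ((u⁻¹ * O * u : GL K F) : Matrix K K F) * ((u⁻¹ * g * u : GL K F) : Matrix K K F)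
      rw [show onesMat F k = ((O : GL K F) : Matrix K K F) from rfl]
      simp only [← Units.val_mul, Units.val_inj]
      constructor
      · intro h
        calc u⁻¹ * g * u * (u⁻¹ * O * u) = u⁻¹ * (g * O) * u := by group
          _ = u⁻¹ * (O * g) * u := by rw [h]
          _ = _ := by group
      · intro h
        calc O * g = u * (u⁻¹ * O * u * (u⁻¹ * g * u)) * u⁻¹ := by group
          _ = u * (u⁻¹ * g * u * (u⁻¹ * O * u)) * u⁻¹ := by rw [h]
          _ = _ := by group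
    let φ : isoMat (1 : Matrix K K F) →* Matrix.symplecticGroup (Fin k) F :=
      MonoidHom.mk' (fun g => ⟨((u⁻¹ * (g : GL K F) * u : GL K F) : Matrix K K F), ((hcomm g).1 g.2).1⟩)
        fun g h => Subtype.ext (by
          show ((u⁻¹ * ((g : GL K F) * (h : GL K F)) * u : GL K F) : Matrix K K F) = _ * _
          rw [← Units.val_mul]
          congr 1
          group)
    have hφ : Function.Injective φ := fun g h he => by
      have : u⁻¹ * (g : GL K F) * u = u⁻¹ * (h : GL K F) * u :=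
        Units.ext (congrArg Subtype.val he :)
      exact Subtype.ext (mul_left_cancel (mul_right_cancel this))
    have hrange : φ.range = Subgroup.centralizer {t} := by
      apply le_antisymm
      · rintro _ ⟨g, rfl⟩
        exact Subgroup.mem_centralizer_singleton_iff.2 (Subtype.ext ((hcomm g).1 g.2).2)
      · intro s hs
        let g : GL K F := u * Matrix.GeneralLinearGroup.mkOfDetNeZero s.1
          (SymplecticGroup.symplectic_det s.2).ne_zero * u⁻¹
        have hg : ((u⁻¹ * g * u : GL K F) : Matrix K K F) = s.1 := by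
          show ((u⁻¹ * (u * _ * u⁻¹) * u : GL K F) : Matrix K K F) = _
          rw [show ∀ z : GL K F, u⁻¹ * (u * z * u⁻¹) * u = z from fun z => by group]
          rfl
        refine ⟨⟨g, (hcomm g).2 ⟨by rw [hg]; exact s.2, ?_⟩⟩, Subtype.ext hg⟩
        rw [hg]
        exact congrArg Subtype.val (Subgroup.mem_centralizer_singleton_iff.1 hs)
    exact ⟨E.trans (E'.symm.trans ((MonoidHom.ofInjective hφ).trans (MulEquiv.subgroupCongr hrange)))⟩

end Transv

end Cfsg.Agent.AutPSL
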