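import Cfsg.Agent.Lib.AutPSL.GraphModels
import Cfsg.Agent.Lib.AutPSL.GraphTwoModels
import Cfsg.Agent.S0765

/-!
# Splitting of the classes of involutory graph automorphisms of `PSL`

* `split_two_or_odd`, `split_skew`, `split_symm` : the number of `T`-classes in the `Inndiag`-class of `gam B`
* `symm_not_PGSp` : the orthogonal centralisers are not `PGSp`
-/

set_option autoImplicit false
set_option linter.unusedSectionVars false
set_option linter.style.haveILetI false

open scoped MatrixGroups Matrix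

namespace Cfsg.Agent.AutPSL

section Sp

variable {F : Type*} [Field F] [Fintype F] {k : ℕ}

theorem sympTransvection_mul (w : Fin k ⊕ Fin k → F) (c d : F) :
    Cfsg.sympTransvection k w c * Cfsg.sympTransvection k w d = Cfsg.sympTransvection k w (c + d) := by
  have h0 : (Matrix.J (Fin k) F *ᵥ w) ⬝ᵥ w = 0 := by
    rw [dotProduct_comm]
    simp [Matrix.J, dotProduct, Matrix.mulVec, Fintype.sum_sum_type, Matrix.one_apply]
    rw [← sub_eq_neg_add, sub_eq_zero]
    exact Finset.sum_congr rfl fun i _ => mul_comm _ _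
  rw [Cfsg.sympTransvection, Cfsg.sympTransvection, Cfsg.sympTransvection, add_mul, one_mul, mul_add, mul_one,
    Matrix.smul_mul, Matrix.mul_smul, vecMulVec_mul_vecMulVec', h0, zero_smul, smul_zero, smul_zero,
    add_zero, add_smul]
  abel

/-- The symplectic group inside `GSp`. -/
noncomputable def spIncl : Matrix.symplecticGroup (Fin k) F →* ↥(Cfsg.GSp k F) :=
  MonoidHom.mk' (fun A => ⟨Matrix.GeneralLinearGroup.mkOfDetNeZero A.1 (SymplecticGroup.symplectic_det A.2).ne_zero,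
    by
      rw [GSp_eq_simGrp]
      exact ⟨1, by rw [Units.val_one, one_smul]; exact SymplecticGroup.mem_iff'.1 A.2⟩⟩)
    fun A B => Subtype.ext (Units.ext rfl)

/-- `diag(1, c)`. -/
def torusMat (k : ℕ) (c : F) : Matrix (Fin k ⊕ Fin k) (Fin k ⊕ Fin k) F :=
  Matrix.fromBlocks 1 0 0 (c • 1)

theorem torusMat_mul (k : ℕ) (c d : F) : torusMat k c * torusMat k d = torusMat k (c * d) := by
  rw [torusMat, torusMat, torusMat, Matrix.fromBlocks_multiply]
  simp [smul_smul, mul_comm]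

theorem torusMat_sim (k : ℕ) (c : F) :
    (torusMat k c)ᵀ * Matrix.J (Fin k) F * torusMat k c = c • Matrix.J (Fin k) F := by
  rw [torusMat, Matrix.J, Matrix.fromBlocks_transpose, Matrix.fromBlocks_multiply, Matrix.fromBlocks_multiply,
    Matrix.fromBlocks_smul]
  simp

theorem torusMat_det (k : ℕ) (c : Fˣ) : (torusMat k (c : F)).det ≠ 0 := by
  rw [torusMat, Matrix.det_fromBlocks_zero₂₁, Matrix.det_one, one_mul, Matrix.det_smul, Matrix.det_one, mul_one]
  exact pow_ne_zero _ c.ne_zero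

/-- `diag(1, c)` as an invertible matrix. -/
noncomputable def torusGL : Fˣ →* GL (Fin k ⊕ Fin k) F :=
  MonoidHom.mk' (fun c => Matrix.GeneralLinearGroup.mkOfDetNeZero (torusMat k (c : F)) (torusMat_det k c))
    fun c d => Units.ext (torusMat_mul k (c : F) (d : F)).symm

theorem torusGL_mem (c : Fˣ) : (torusGL c : GL (Fin k ⊕ Fin k) F) ∈ Cfsg.GSp k F := by
  rw [GSp_eq_simGrp, mem_simGrp]
  exact ⟨c, torusMat_sim k _⟩

/-- The torus `diag(1, c)` in `GSp`. -/
noncomputable def simTorus : Fˣ →* ↥(Cfsg.GSp k F) := torusGL.codRestrict _ torusGL_mem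

/-- A homomorphism from `GSp` to a group of exponent two takes at most two values. -/
theorem GSp_hom_two_values {X : Type*} [CommGroup X] (ψ : ↥(Cfsg.GSp k F) →* X) (hψ : ∀ h, ψ h * ψ h = 1)
    (hodd : Odd (Fintype.card F)) : ∃ v : X, ∀ h, ψ h = 1 ∨ ψ h = v := by
  obtain ⟨p, hp⟩ := CharP.exists F
  haveI := hp
  obtain ⟨n, hpp, hn⟩ := FiniteField.card F p
  haveI := Fact.mk hpp
  obtain ⟨r, hr⟩ : Odd p := hpp.odd_of_ne_two fun h => by
    rw [hn, h] at hodd
    exact Nat.not_odd_iff_even.2 (even_two.pow_of_ne_zero n.ne_zero) hodd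
  have hsp : ∀ A, ψ (spIncl A) = 1 := by
    have h1 : (ψ.comp spIncl).ker = ⊤ := by
      rw [← top_le_iff, ← Cfsg.Agent.S0765.result k]
      refine (Subgroup.closure_le _).2 ?_
      rintro A ⟨w, c, hA⟩
      have hpow : ∀ j : ℕ, ((A ^ j : Matrix.symplecticGroup (Fin k) F) :
          Matrix (Fin k ⊕ Fin k) (Fin k ⊕ Fin k) F) = Cfsg.sympTransvection k w (j * c) := by
        intro j
        induction j with
        | zero => simp [Cfsg.sympTransvection]
        | succ j ih =>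
          rw [pow_succ, Submonoid.coe_mul, ih, hA, sympTransvection_mul]
          congr 1
          push_cast; ring
      have hAp : A ^ p = 1 := Subtype.ext (by rw [hpow, CharP.cast_eq_zero]; simp [Cfsg.sympTransvection])
      have h2 : (ψ.comp spIncl) A ^ p = 1 := by rw [← map_pow, hAp, map_one]
      show (ψ.comp spIncl) A = 1
      rw [hr, pow_succ, pow_mul, pow_two, MonoidHom.comp_apply, hψ, one_pow, one_mul] at h2
      rw [MonoidHom.comp_apply, h2]
    exact fun A => (MonoidHom.mem_ker (f := ψ.comp spIncl)).1 (by rw [h1]; trivial)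
  obtain ⟨g, hg⟩ := IsCyclic.exists_generator (α := Fˣ)
  refine ⟨ψ (simTorus g), fun h => ?_⟩
  obtain ⟨hv, hh⟩ := h
  have hh' := hh
  rw [GSp_eq_simGrp] at hh'
  obtain ⟨c, hc⟩ := hh'
  set h : ↥(Cfsg.GSp k F) := ⟨hv, hh⟩
  set s := (simTorus c)⁻¹ * h with hs
  have hsm : ((s : GL (Fin k ⊕ Fin k) F) : Matrix (Fin k ⊕ Fin k) (Fin k ⊕ Fin k) F) ∈
      Matrix.symplecticGroup (Fin k) F := by
    rw [SymplecticGroup.mem_iff']
    set T : Matrix (Fin k ⊕ Fin k) (Fin k ⊕ Fin k) F := torusMat k (c : F)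
    set S := ((s : GL (Fin k ⊕ Fin k) F) : Matrix (Fin k ⊕ Fin k) (Fin k ⊕ Fin k) F)
    have h1 : T * S = (hv : Matrix (Fin k ⊕ Fin k) (Fin k ⊕ Fin k) F) :=
      congrArg (fun z : ↥(Cfsg.GSp k F) => ((z : GL (Fin k ⊕ Fin k) F) :
        Matrix (Fin k ⊕ Fin k) (Fin k ⊕ Fin k) F)) (mul_inv_cancel_left (simTorus c) h)
    have hTJ : Tᵀ * Matrix.J (Fin k) F * T = (c : F) • Matrix.J (Fin k) F := torusMat_sim k _
    rw [← h1, Matrix.transpose_mul, show Sᵀ * Tᵀ * Matrix.J (Fin k) F * (T * S) =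
      Sᵀ * (Tᵀ * Matrix.J (Fin k) F * T) * S by noncomm_ring, hTJ, Matrix.mul_smul, Matrix.smul_mul] at hc
    exact smul_right_injective _ c.ne_zero hc
  have hdec : h = simTorus c * spIncl ⟨_, hsm⟩ := by
    rw [show spIncl ⟨_, hsm⟩ = s from Subtype.ext (Units.ext rfl), hs, mul_inv_cancel_left]
  rw [hdec, map_mul, hsp, mul_one]
  obtain ⟨z, rfl⟩ := hg c
  rw [map_zpow, map_zpow]
  have hv2 : ψ (simTorus g) ^ (2 : ℤ) = 1 := by rw [zpow_two, hψ]
  obtain ⟨u, rfl | rfl⟩ := z.even_or_odd'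
  · exact Or.inl (by rw [zpow_mul, hv2, one_zpow])
  · exact Or.inr (by rw [zpow_add_one, zpow_mul, hv2, one_zpow, one_mul])

end Sp

variable {F : Type*} [Field F] [Fintype F] {m : ℕ}

local notation "PG" => Matrix.ProjectiveSpecialLinearGroup (Fin (m + 2)) F
local notation "G2" => GL (Fin (m + 2)) F
local notation "M2" => Matrix (Fin (m + 2)) (Fin (m + 2)) F

theorem split_eq_det (B : G2) :
    Cfsg.splitClassCount (Cfsg.inndiagPSL (m + 2) F) (Cfsg.Inn PG) (gam B) =
      ((simGrp (B : M2)).map Matrix.GeneralLinearGroup.det ⊔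
        (powMonoidHom (m + 2) : Fˣ →* Fˣ).range).index := by
  rw [inndiag_eq, split_eq_index cj _ (gam B) detMod detMod_surjective inn_le_range' detMod_eq_one_iff]
  have h1 : (Subgroup.centralizer {gam B}).comap (cj : G2 →* MulAut PG) = simGrp (B : M2) := by
    ext h
    rw [Subgroup.mem_comap, Subgroup.mem_centralizer_singleton_iff, ← commute_gam_iff]
    exact Iff.rfl
  rw [h1, detMod, ← Subgroup.map_map, Subgroup.index_map, QuotientGroup.ker_mk',
    MonoidHom.range_eq_top.2 (QuotientGroup.mk'_surjective _), Subgroup.index_top, mul_one]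

theorem index_powRange (n : ℕ) :
    (powMonoidHom n : Fˣ →* Fˣ).range.index = Nat.gcd n (Fintype.card F - 1) := by
  classical
  have h := FieldAut.index_pow_sup (⊥ : Subgroup Fˣ) n
  rwa [sup_bot_eq, Subgroup.index_bot, Nat.card_eq_fintype_card, Fintype.card_units, Nat.gcd_comm] at h

theorem det_sq_of_sim {B h : G2} {c : F}
    (hc : (h : M2)ᵀ * (B : M2) * (h : M2) = c • (B : M2)) :
    (h : M2).det * (h : M2).det = c ^ (m + 2) := by
  have := congrArg Matrix.det hc
  rw [Matrix.det_mul, Matrix.det_mul, Matrix.det_transpose, Matrix.det_smul, Fintype.card_fin] at this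
  exact mul_right_cancel₀ B.det_ne_zero (by linear_combination this)

theorem split_small (B : G2) (h : Odd (m + 2) ∨ CharP F 2) :
    Cfsg.splitClassCount (Cfsg.inndiagPSL (m + 2) F) (Cfsg.Inn PG) (gam B) =
      Nat.gcd (m + 2) (Fintype.card F - 1) := by
  rw [split_eq_det, sup_eq_right.2 ?_, index_powRange]
  rintro _ ⟨g, ⟨c, hc⟩, rfl⟩
  have hd := det_sq_of_sim hc
  set u := Matrix.GeneralLinearGroup.det g
  have hu : (u : F) * (u : F) = ((c ^ (m + 2) : Fˣ) : F) := hd.trans (Units.val_pow_eq_pow_val c _).symm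
  have hu' : u * u = c ^ (m + 2) := Units.ext hu
  rcases h with h | h
  · obtain ⟨r, hr⟩ := h
    set d := u * (c ^ r)⁻¹
    have hd2 : d * d = c := by
      rw [mul_mul_mul_comm, hu', hr, ← mul_inv, ← pow_add, ← two_mul, pow_succ, mul_inv_cancel_comm]
    refine ⟨d, ?_⟩
    rw [powMonoidHom_apply, hr, pow_succ, pow_mul, pow_two, hd2]
    show c ^ r * (u * (c ^ r)⁻¹) = u
    rw [mul_comm u, mul_inv_cancel_left]
  · haveI := h
    obtain ⟨d, hd'⟩ := Forms.Invol.exists_mul_self (c : F)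
    have hd0 : d ≠ 0 := fun h0 => c.ne_zero (by rw [← hd', h0, mul_zero])
    refine ⟨Units.mk0 d hd0, ?_⟩
    have hsq : (Units.mk0 d hd0) ^ (m + 2) * (Units.mk0 d hd0) ^ (m + 2) = u * u := by
      rw [hu', ← mul_pow]
      exact congrArg (· ^ (m + 2)) (Units.ext hd')
    have h1 : u * ((Units.mk0 d hd0) ^ (m + 2))⁻¹ = 1 := by
      refine scal_sq_eq_one ?_
      rw [← Units.val_mul, mul_mul_mul_comm, ← mul_inv, hsq, mul_inv_cancel, Units.val_one]
    rw [mul_inv_eq_one] at h1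
    exact h1.symm

theorem exists_multiplier_skew (h2 : (2 : F) ≠ 0) {k : ℕ} (hk : m + 2 = 2 * k) {B : G2}
    (hB : (B : M2)ᵀ = -(B : M2)) (c : Fˣ) :
    ∃ h : G2, (h : M2)ᵀ * (B : M2) * (h : M2) = (c : F) • (B : M2) ∧ (h : M2).det = (c : F) ^ k := by
  obtain ⟨P, hP⟩ := congr_alt hk (alt_of_skew h2 hB) B.det_ne_zero
    (W' := (c : F) • (B : M2)) (alt_of_skew h2 (by rw [Matrix.transpose_smul, hB, smul_neg]))
    (by rw [Matrix.det_smul]; exact mul_ne_zero (pow_ne_zero _ c.ne_zero) B.det_ne_zero)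
  exact ⟨P, hP.symm, OrthOuter.alt_similitude_det _ (alt_of_skew h2 hB) B.det_ne_zero
    (by rw [Fintype.card_fin, hk]) c.ne_zero hP.symm⟩

theorem split_skew (h2 : (2 : F) ≠ 0) {k : ℕ} (hk : m + 2 = 2 * k) {B : G2}
    (hB : (B : M2)ᵀ = -(B : M2)) :
    Cfsg.splitClassCount (Cfsg.inndiagPSL (m + 2) F) (Cfsg.Inn PG) (gam B) =
      Nat.gcd k (Fintype.card F - 1) := by
  rw [split_eq_det]
  have hmap : (simGrp (B : M2)).map Matrix.GeneralLinearGroup.det = (powMonoidHom k : Fˣ →* Fˣ).range := by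
    apply le_antisymm
    · rintro _ ⟨g, ⟨c, hc⟩, rfl⟩
      refine ⟨c, Units.ext ?_⟩
      rw [powMonoidHom_apply, Units.val_pow_eq_pow_val]
      exact (OrthOuter.alt_similitude_det _ (alt_of_skew h2 hB) B.det_ne_zero
        (by rw [Fintype.card_fin, hk]) c.ne_zero hc).symm
    · rintro _ ⟨c, rfl⟩
      obtain ⟨g, hg, hd⟩ := exists_multiplier_skew h2 hk hB c
      exact ⟨g, ⟨c, hg⟩, Units.ext (hd.trans (Units.val_pow_eq_pow_val c k).symm)⟩
  rw [hmap, sup_eq_left.2 ?_, index_powRange]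
  rintro _ ⟨d, rfl⟩
  exact ⟨d ^ 2, by rw [powMonoidHom_apply, powMonoidHom_apply, ← pow_mul, ← hk]⟩

theorem exists_multiplier_symm (h2 : (2 : F) ≠ 0) {k : ℕ} (hk : m + 2 = 2 * k) {B : G2}
    (hB : (B : M2)ᵀ = (B : M2)) (c : Fˣ) :
    ∃ h : G2, (h : M2)ᵀ * (B : M2) * (h : M2) = (c : F) • (B : M2) := by
  obtain ⟨P, hP⟩ := congr_symm h2 hB (B' := (c : F) • (B : M2)) (by rw [Matrix.transpose_smul, hB])
    B.det_ne_zero (by rw [Matrix.det_smul]; exact mul_ne_zero (pow_ne_zero _ c.ne_zero) B.det_ne_zero)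
    ⟨(c : F) ^ k * (B : M2).det, by
      rw [Matrix.det_smul, Fintype.card_fin]
      calc (B : M2).det * ((c : F) ^ (m + 2) * (B : M2).det)
          = (B : M2).det * (((c : F) ^ k * (c : F) ^ k) * (B : M2).det) := by
            rw [← pow_add]; congr 3; omega
        _ = _ := by ring⟩
  exact ⟨P, hP.symm⟩

theorem exists_det_neg (h2 : (2 : F) ≠ 0) {B : G2} (hB : (B : M2)ᵀ = (B : M2)) :
    ∃ h : G2, (h : M2)ᵀ * (B : M2) * (h : M2) = (B : M2) ∧ (h : M2).det = -1 := by
  let d : Fin (m + 2) → F := Function.update 1 0 (B : M2).det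
  have hd : (Matrix.diagonal d).det = (B : M2).det := by
    rw [Matrix.det_diagonal, Finset.prod_update_of_mem (Finset.mem_univ _)]
    simp
  obtain ⟨P, hP⟩ := congr_symm h2 (B := Matrix.diagonal d) (Matrix.diagonal_transpose _) hB
    (by rw [hd]; exact B.det_ne_zero) B.det_ne_zero ⟨(B : M2).det, by rw [hd]⟩
  let e : Fin (m + 2) → F := Function.update 1 0 (-1)
  have he : (Matrix.diagonal e).det = -1 := by
    rw [Matrix.det_diagonal, Finset.prod_update_of_mem (Finset.mem_univ _)]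
    simp
  let R : G2 := Matrix.GeneralLinearGroup.mkOfDetNeZero (Matrix.diagonal e)
    (by rw [he]; exact neg_ne_zero.2 one_ne_zero)
  refine ⟨P⁻¹ * R * P, ?_, ?_⟩
  · have h1 : (R : M2)ᵀ * Matrix.diagonal d * (R : M2) = Matrix.diagonal d := by
      show (Matrix.diagonal e)ᵀ * _ * Matrix.diagonal e = _
      rw [Matrix.diagonal_transpose, Matrix.diagonal_mul_diagonal, Matrix.diagonal_mul_diagonal]
      congr 1
      funext i
      by_cases hi : i = 0 <;> simp [e, hi]
    have hv : (P : M2) * ((P⁻¹ * R * P : G2) : M2) = (R : M2) * (P : M2) := by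
      rw [← Units.val_mul, ← Units.val_mul]
      congr 1
      group
    rw [hP, show ∀ X Y D : M2, Xᵀ * (Yᵀ * D * Y) * X = (Y * X)ᵀ * D * (Y * X) from fun X Y D => by
      rw [Matrix.transpose_mul]; noncomm_ring, hv, Matrix.transpose_mul]
    conv_rhs => rw [← h1]
    noncomm_ring
  · rw [Units.val_mul, Units.val_mul, Matrix.det_mul, Matrix.det_mul]
    show _ * (Matrix.diagonal e).det * _ = _
    rw [he, mul_neg, mul_one, neg_mul, ← Matrix.det_mul, Units.inv_mul, Matrix.det_one]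

theorem unit_neg_one_ne (h2 : (2 : F) ≠ 0) : (-1 : Fˣ) ≠ 1 := fun h =>
  h2 (by
    have := congrArg Units.val h
    rw [Units.val_neg, Units.val_one] at this
    linear_combination -this)

theorem split_symm (h2 : (2 : F) ≠ 0) {k : ℕ} (hk : m + 2 = 2 * k) {B : G2}
    (hB : (B : M2)ᵀ = (B : M2)) :
    Cfsg.splitClassCount (Cfsg.inndiagPSL (m + 2) F) (Cfsg.Inn PG) (gam B) =
      Nat.gcd (m + 2) (Fintype.card F - 1) / 2 := by
  rw [split_eq_det]
  set P := (powMonoidHom (m + 2) : Fˣ →* Fˣ).range with hP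
  set D := (simGrp (B : M2)).map Matrix.GeneralLinearGroup.det with hD
  have hsup : D ⊔ P = P.comap (powMonoidHom 2 : Fˣ →* Fˣ) := by
    apply le_antisymm
    · refine sup_le ?_ ?_
      · rintro _ ⟨g, ⟨c, hc⟩, rfl⟩
        exact ⟨c, Units.ext (by
          rw [powMonoidHom_apply, powMonoidHom_apply, Units.val_pow_eq_pow_val, Units.val_pow_eq_pow_val, pow_two]
          exact (det_sq_of_sim hc).symm)⟩
      · intro x hx
        rw [Subgroup.mem_comap, powMonoidHom_apply]
        exact P.pow_mem hx 2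
    · intro x hx
      obtain ⟨a, ha⟩ := hx
      obtain ⟨g, hg⟩ := exists_multiplier_symm h2 hk hB a
      obtain ⟨r, hr, hrd⟩ := exists_det_neg h2 hB
      set u := Matrix.GeneralLinearGroup.det g
      have hg' : u ∈ D := ⟨g, ⟨a, hg⟩, rfl⟩
      have hneg : (-1 : Fˣ) ∈ D := ⟨r, ⟨1, by rw [Units.val_one, one_smul]; exact hr⟩,
        Units.ext (by rw [Matrix.GeneralLinearGroup.val_det_apply, hrd, Units.val_neg, Units.val_one])⟩
      have hu : (u : F) * (u : F) = (x : F) * (x : F) := by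
        rw [powMonoidHom_apply, powMonoidHom_apply] at ha
        rw [← pow_two (x : F), ← Units.val_pow_eq_pow_val, ← ha, Units.val_pow_eq_pow_val]
        exact det_sq_of_sim hg
      rcases mul_self_eq_mul_self_iff.1 hu with h | h
      · exact Subgroup.mem_sup_left (Units.ext h ▸ hg')
      · refine Subgroup.mem_sup_left ?_
        rw [show x = -1 * u from Units.ext (by
          rw [Units.val_mul, Units.val_neg, Units.val_one, h]; ring)]
        exact mul_mem hneg hg'
  have hle : P ≤ (powMonoidHom 2 : Fˣ →* Fˣ).range := by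
    rintro _ ⟨a, rfl⟩
    exact ⟨a ^ k, by rw [powMonoidHom_apply, powMonoidHom_apply, ← pow_mul, mul_comm k, ← hk]⟩
  have h := Subgroup.relIndex_mul_index hle
  rw [← Subgroup.index_comap, ← hsup, index_powRange, hP, index_powRange] at h
  have h2q : Nat.gcd 2 (Fintype.card F - 1) = 2 := by
    refine Nat.gcd_eq_left (even_iff_two_dvd.1 (Nat.Odd.sub_odd (Nat.odd_iff.2
      (FiniteField.odd_card_of_char_ne_two fun hc => h2 ?_)) odd_one))
    haveI := ringChar.eq_iff.1 hc
    exact CharTwo.two_eq_zero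
  rw [h2q] at h
  rw [← h, Nat.mul_div_cancel _ two_pos]

/-- The orthogonal centralisers are not isomorphic to `PGSp`. -/
theorem symm_not_PGSp (hodd : Odd (Fintype.card F)) {k : ℕ} (hk : m + 2 = 2 * k) {B : G2}
    (hB : (B : M2)ᵀ = (B : M2)) :
    ¬ Nonempty (↥(Cfsg.inndiagPSL (m + 2) F ⊓ Subgroup.centralizer {gam B}) ≃* Cfsg.PGSp k F) := by
  classical
  rintro ⟨E⟩
  have h2 : (2 : F) ≠ 0 := OrthOuter.two_ne_zero_of_odd hodd
  obtain ⟨E0⟩ := gam_centralizer_equiv B
  obtain ⟨r, hr⟩ := hodd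
  let S := simGrp (B : M2)
  have hB0 : (B : M2) ≠ 0 := fun h => B.det_ne_zero (by rw [h]; simp)
  have hmu : ∀ h : S, ∃ c : Fˣ,
      ((h : G2) : M2)ᵀ * (B : M2) * ((h : G2) : M2) = (c : F) • (B : M2) := fun h => h.2
  choose mu hmu using hmu
  have hmu_eq : ∀ (h : S) (c : Fˣ),
      ((h : G2) : M2)ᵀ * (B : M2) * ((h : G2) : M2) = (c : F) • (B : M2) → mu h = c :=
    fun h c hc => Units.ext (smul_left_injective F hB0 (show (mu h : F) • (B : M2) = (c : F) • (B : M2) from
      (hmu h).symm.trans hc))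
  let μ : S →* Fˣ := MonoidHom.mk' mu fun a b => hmu_eq _ _ (by
    show (((a : G2) * (b : G2) : G2) : M2)ᵀ * _ * (((a : G2) * (b : G2) : G2) : M2) = _
    rw [Units.val_mul, Matrix.transpose_mul, show ∀ X Y : M2, Yᵀ * Xᵀ * (B : M2) * (X * Y) =
      Yᵀ * (Xᵀ * (B : M2) * X) * Y from fun X Y => by noncomm_ring, hmu a, Matrix.mul_smul,
      Matrix.smul_mul, hmu b, smul_smul, Units.val_mul])
  let ε : S →* Fˣ :=
    (Matrix.GeneralLinearGroup.det.comp S.subtype) * ((powMonoidHom k).comp μ)⁻¹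
  let χ : S →* Fˣ := (powMonoidHom r).comp μ
  let ψ : S →* Fˣ × Fˣ := ε.prod χ
  have hψsq : ∀ h, ψ h * ψ h = 1 := fun h => by
    refine Prod.ext ?_ ?_
    · show ε h * ε h = 1
      show Matrix.GeneralLinearGroup.det (h : G2) * (mu h ^ k)⁻¹ *
        (Matrix.GeneralLinearGroup.det (h : G2) * (mu h ^ k)⁻¹) = 1
      rw [mul_mul_mul_comm, ← mul_inv, ← pow_add, mul_inv_eq_one]
      exact Units.ext ((det_sq_of_sim (hmu h)).trans (by rw [Units.val_pow_eq_pow_val]; congr 1; omega))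
    · show χ h * χ h = 1
      show mu h ^ r * mu h ^ r = 1
      rw [← pow_add, show r + r = Fintype.card Fˣ by rw [Fintype.card_units, hr]; omega, pow_card_eq_one]
  have hker : (Geo.scalars (Fin (m + 2)) F).subgroupOf S ≤ ψ.ker := by
    intro h hh
    obtain ⟨a, ha⟩ := (Geo.mem_scalars_iff _).1 hh
    have hm : mu h = a * a := hmu_eq _ _ (by
      rw [show ((h : G2) : M2) = (a : F) • (1 : M2) from ha, Matrix.transpose_smul, Matrix.transpose_one,
        Matrix.smul_mul, one_mul, Matrix.mul_smul, mul_one, smul_smul, Units.val_mul])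
    refine MonoidHom.mem_ker.2 (Prod.ext ?_ ?_)
    · show Matrix.GeneralLinearGroup.det (h : G2) * (mu h ^ k)⁻¹ = 1
      have hd : Matrix.GeneralLinearGroup.det (h : G2) = a ^ (m + 2) :=
        Units.ext (by
          rw [Matrix.GeneralLinearGroup.val_det_apply, show ((h : G2) : M2) = (a : F) • (1 : M2) from ha,
            Matrix.det_smul, Matrix.det_one, mul_one, Fintype.card_fin, Units.val_pow_eq_pow_val])
      rw [mul_inv_eq_one, hd, hm, ← pow_two, ← pow_mul]
      congr 1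
    · show mu h ^ r = 1
      rw [hm, ← pow_two, ← pow_mul, show 2 * r = Fintype.card Fˣ by rw [Fintype.card_units, hr]; omega,
        pow_card_eq_one]
  let Ψ : Cfsg.projQuot S →* Fˣ × Fˣ := QuotientGroup.lift _ ψ hker
  let f : Cfsg.PGSp k F →* Fˣ × Fˣ := Ψ.comp (E.symm.trans E0).toMonoidHom
  obtain ⟨v, hv⟩ := GSp_hom_two_values (f.comp (QuotientGroup.mk' _)) (fun h => by
    show Ψ _ * Ψ _ = 1
    obtain ⟨s, hs⟩ := QuotientGroup.mk_surjective (((E.symm.trans E0)) (QuotientGroup.mk h))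
    show Ψ ((E.symm.trans E0) (QuotientGroup.mk h)) * Ψ ((E.symm.trans E0) (QuotientGroup.mk h)) = 1
    rw [← hs]
    exact hψsq s) ⟨r, hr⟩
  have hall : ∀ s : S, ψ s = 1 ∨ ψ s = v := fun s => by
    obtain ⟨y, hy⟩ := (E.symm.trans E0).surjective (QuotientGroup.mk s)
    obtain ⟨g, rfl⟩ := QuotientGroup.mk_surjective y
    have h := hv g
    rwa [show (f.comp (QuotientGroup.mk' _)) g = ψ s by
      show Ψ ((E.symm.trans E0) (QuotientGroup.mk g)) = _
      rw [hy]; rfl] at h
  obtain ⟨g1, hg1, hd1⟩ := exists_det_neg h2 hB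
  let s1 : S := ⟨g1, 1, by rw [Units.val_one, one_smul]; exact hg1⟩
  have hm1 : mu s1 = 1 := hmu_eq _ _ (by rw [Units.val_one, one_smul]; exact hg1)
  have e1 : ψ s1 = (-1, 1) := by
    refine Prod.ext ?_ ?_
    · show Matrix.GeneralLinearGroup.det g1 * (mu s1 ^ k)⁻¹ = -1
      rw [hm1, one_pow, inv_one, mul_one]
      exact Units.ext (by rw [Matrix.GeneralLinearGroup.val_det_apply, hd1, Units.val_neg, Units.val_one])
    · show mu s1 ^ r = 1
      rw [hm1, one_pow]
  have hrc : ringChar F ≠ 2 := fun h =>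
    Nat.not_odd_iff_even.2 (Nat.even_iff.2 (FiniteField.even_card_of_char_two h)) ⟨r, hr⟩
  obtain ⟨ν, hν⟩ := FiniteField.exists_nonsquare (F := F) hrc
  have hν0 : ν ≠ 0 := fun h => hν (h ▸ IsSquare.zero)
  obtain ⟨g2, hg2⟩ := exists_multiplier_symm h2 hk hB (Units.mk0 ν hν0)
  let s2 : S := ⟨g2, _, hg2⟩
  have hm2 : mu s2 = Units.mk0 ν hν0 := hmu_eq _ _ hg2
  have e2 : (ψ s2).2 ≠ 1 := by
    show mu s2 ^ r ≠ 1
    rw [hm2]
    intro h
    refine hν ((FiniteField.isSquare_iff hrc hν0).2 ?_)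
    have := congrArg Units.val h
    rw [Units.val_pow_eq_pow_val, Units.val_mk0, Units.val_one] at this
    rwa [show Fintype.card F / 2 = r by omega]
  have a1 := (hall s1).resolve_left fun h => unit_neg_one_ne h2 (by rw [e1] at h; exact congrArg Prod.fst h)
  have a2 := (hall s2).resolve_left fun h => e2 (by rw [h]; rfl)
  exact e2 (by rw [a2, ← a1, e1])

end Cfsg.Agent.AutPSL
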