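import Cfsg.Agent.Lib.AutPSL.GraphOdd
import Cfsg.Agent.Lib.Forms.Involution
import Cfsg.Agent.Lib.Forms.Standard
import Cfsg.Agent.S0304

/-!
# Involutory graph automorphisms of `PSL`, characteristic two

* `symm_classes_two` : alternating or congruent to `1`; `iso_equiv_projQuot`
* `alt_model`, `one_odd_model`, `one_even_model`
-/

set_option autoImplicit false
set_option linter.unusedSectionVars false
set_option linter.style.haveILetI false

open scoped MatrixGroups Matrix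

namespace Cfsg.Agent.AutPSL

section Iso

variable {F : Type*} [Field F] {ι : Type} [Fintype ι] [DecidableEq ι]

/-- The isometries of the bilinear form of `B`. -/
def isoMat (B : Matrix ι ι F) : Subgroup (GL ι F) where
  carrier := {h | (h : Matrix ι ι F)ᵀ * B * (h : Matrix ι ι F) = B}
  one_mem' := by simp
  mul_mem' := by
    intro a b ha hb
    simp only [Set.mem_ofPred_eq, Units.val_mul, Matrix.transpose_mul] at ha hb ⊢
    rw [show (b : Matrix ι ι F)ᵀ * (a : Matrix ι ι F)ᵀ * B * ((a : Matrix ι ι F) * (b : Matrix ι ι F)) =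
      (b : Matrix ι ι F)ᵀ * ((a : Matrix ι ι F)ᵀ * B * (a : Matrix ι ι F)) * (b : Matrix ι ι F) by noncomm_ring,
      ha, hb]
  inv_mem' := by
    intro a ha
    simp only [Set.mem_ofPred_eq] at ha ⊢
    conv_lhs => rw [← ha]
    rw [show ((a⁻¹ : GL ι F) : Matrix ι ι F)ᵀ * ((a : Matrix ι ι F)ᵀ * B * (a : Matrix ι ι F)) *
      ((a⁻¹ : GL ι F) : Matrix ι ι F) = ((a⁻¹ : GL ι F) : Matrix ι ι F)ᵀ * (a : Matrix ι ι F)ᵀ * B *
      ((a : Matrix ι ι F) * ((a⁻¹ : GL ι F) : Matrix ι ι F)) by noncomm_ring, ← Matrix.transpose_mul,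
      Units.mul_inv, Matrix.transpose_one, one_mul, mul_one]

theorem mem_isoMat {B : Matrix ι ι F} {h : GL ι F} :
    h ∈ isoMat B ↔ (h : Matrix ι ι F)ᵀ * B * (h : Matrix ι ι F) = B := Iff.rfl

/-- A subgroup meeting the scalars trivially and generating `H` with them. -/
theorem equiv_projQuot {H I : Subgroup (GL ι F)} (hIH : I ≤ H)
    (hinj : ∀ g ∈ I, g ∈ Geo.scalars ι F → g = 1)
    (hsurj : ∀ h ∈ H, ∃ g ∈ I, g⁻¹ * h ∈ Geo.scalars ι F) :
    Nonempty (I ≃* Cfsg.projQuot H) := by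
  refine ⟨MulEquiv.ofBijective ((QuotientGroup.mk' _).comp (Subgroup.inclusion hIH)) ⟨?_, ?_⟩⟩
  · rw [injective_iff_map_eq_one]
    intro g hg
    rw [MonoidHom.comp_apply, QuotientGroup.mk'_apply, QuotientGroup.eq_one_iff] at hg
    exact Subtype.ext (hinj g g.2 hg)
  · intro x
    obtain ⟨⟨h, hh⟩, rfl⟩ := QuotientGroup.mk_surjective x
    obtain ⟨g, hg, hs⟩ := hsurj h hh
    refine ⟨⟨g, hg⟩, ?_⟩
    rw [MonoidHom.comp_apply, QuotientGroup.mk'_apply, QuotientGroup.eq]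
    exact hs

variable [CharP F 2]

theorem scal_sq_eq_one {a : Fˣ} (h : (a : F) * (a : F) = 1) : a = 1 := by
  refine Units.ext ?_
  rcases mul_self_eq_one_iff.1 h with h | h
  · exact h
  · rw [h, CharTwo.neg_eq]; rfl

theorem iso_equiv_projQuot [Finite F] [Nonempty ι] (B : Matrix ι ι F) (hB : B.det ≠ 0) :
    Nonempty (isoMat B ≃* Cfsg.projQuot (simGrp B)) := by
  refine equiv_projQuot (fun h hh => ⟨1, by rw [Units.val_one, one_smul]; exact hh⟩) (fun g hg hs => ?_)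
    fun h hh => ?_
  · obtain ⟨a, ha⟩ := (Geo.mem_scalars_iff _).1 hs
    have hg' := mem_isoMat.1 hg
    rw [ha, Matrix.transpose_smul, Matrix.transpose_one, Matrix.smul_mul, one_mul, Matrix.mul_smul,
      mul_one, smul_smul] at hg'
    have hB0 : B ≠ 0 := fun h0 => hB (by rw [h0]; simp)
    obtain rfl := scal_sq_eq_one (a := a) (smul_left_injective F hB0 (show ((a : F) * (a : F)) • B = (1 : F) • B by rw [hg', one_smul]))
    exact Units.ext (by rw [ha, Units.val_one, one_smul]; rfl)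
  · obtain ⟨c, hc⟩ := hh
    obtain ⟨d, hd⟩ := Forms.Invol.exists_mul_self (c : F)
    have hd0 : d ≠ 0 := fun h0 => c.ne_zero (by rw [← hd, h0, mul_zero])
    refine ⟨(FieldAut.scal (Units.mk0 d hd0))⁻¹ * h, ?_, ?_⟩
    · have hv : (((FieldAut.scal (Units.mk0 d hd0))⁻¹ * h : GL ι F) : Matrix ι ι F) = d⁻¹ • (h : Matrix ι ι F) := by
        rw [← map_inv, Units.val_mul, FieldAut.scal_coe, Matrix.smul_mul, one_mul, Units.val_inv_eq_inv_val,
          Units.val_mk0]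
      rw [mem_isoMat, hv, Matrix.transpose_smul, Matrix.smul_mul, Matrix.smul_mul, Matrix.mul_smul, hc,
        smul_smul, smul_smul, ← hd]
      have : d⁻¹ * d⁻¹ * (d * d) = 1 := by field_simp
      rw [this, one_smul]
    · rw [_root_.mul_inv_rev, inv_inv, mul_assoc, FieldAut.scal_comm, inv_mul_cancel_left,
        Geo.mem_scalars_iff]
      exact ⟨Units.mk0 d hd0, FieldAut.scal_coe _⟩

theorem dot_self_of_diag {B : Matrix ι ι F} (hB : Bᵀ = B) (x : ι → F) :
    x ⬝ᵥ (B *ᵥ x) = ∑ i, x i * x i * B i i := by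
  have hadd : ∀ x y : ι → F, (x + y) ⬝ᵥ (B *ᵥ (x + y)) = x ⬝ᵥ (B *ᵥ x) + y ⬝ᵥ (B *ᵥ y) := fun x y => by
    have hs : y ⬝ᵥ (B *ᵥ x) = x ⬝ᵥ (B *ᵥ y) := by
      rw [Matrix.dotProduct_mulVec, ← Matrix.mulVec_transpose, hB, dotProduct_comm]
    rw [Matrix.mulVec_add, add_dotProduct, dotProduct_add, dotProduct_add, hs]
    linear_combination (x ⬝ᵥ (B *ᵥ y)) * (CharTwo.two_eq_zero (R := F))
  let φ : (ι → F) →+ F := AddMonoidHom.mk' (fun x => x ⬝ᵥ (B *ᵥ x)) hadd
  show φ x = _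
  conv_lhs => rw [pi_eq_sum_univ' x, map_sum]
  refine Finset.sum_congr rfl fun i _ => ?_
  show (_ : ι → F) ⬝ᵥ (B *ᵥ _) = _
  simp [Matrix.mulVec_smul]
  ring

theorem det_eq_zero_of_diag {B : Matrix ι ι F} (hB : Bᵀ = B) (hd : ∀ i, B i i = 0)
    (hodd : Odd (Fintype.card ι)) : B.det = 0 := by
  rw [Matrix.det_apply]
  refine Finset.sum_involution (fun σ _ => σ⁻¹) (fun σ _ => ?_) (fun σ _ hne he => ?_)
    (fun σ _ => Finset.mem_univ _) (fun σ _ => inv_inv σ)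
  · have h1 : ∏ i, B (σ⁻¹ i) i = ∏ i, B (σ i) i := by
      rw [← Equiv.prod_comp σ (fun i => B (σ⁻¹ i) i)]
      refine Finset.prod_congr rfl fun i _ => ?_
      rw [show σ⁻¹ (σ i) = i from σ.symm_apply_apply i]
      exact congrFun (congrFun hB (σ i)) i
    rw [Equiv.Perm.sign_inv, h1, CharTwo.add_self_eq_zero]
  · apply hne
    have h2 : σ ^ 2 ^ 1 = 1 := by
      rw [pow_one, pow_two]
      exact mul_eq_one_iff_inv_eq.2 he
    obtain ⟨a, ha⟩ := Equiv.Perm.exists_fixed_point_of_prime (p := 2) (n := 1)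
      (by rw [← even_iff_two_dvd, Nat.not_even_iff_odd]; exact hodd) h2
    rw [Finset.prod_eq_zero (Finset.mem_univ a) (by rw [ha, hd]), smul_zero]

theorem congr_one [Finite F] {n : ℕ} {B : Matrix (Fin n) (Fin n) F} (hB : Bᵀ = B) (hd : B.det ≠ 0)
    {i : Fin n} (hi : B i i ≠ 0) :
    ∃ P : GL (Fin n) F, (P : Matrix (Fin n) (Fin n) F)ᵀ * B * (P : Matrix (Fin n) (Fin n) F) = 1 := by
  let S : LinearMap.BilinForm F (Fin n → F) := Matrix.toLinearMap₂' F B
  have hS : ∀ x y, S x y = x ⬝ᵥ (B *ᵥ y) := fun x y => Matrix.toLinearMap₂'_apply' _ _ _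
  obtain ⟨e, he⟩ := Forms.Invol.exists_orthonormal S (fun x y => by
      rw [hS, hS, Matrix.dotProduct_mulVec, ← Matrix.mulVec_transpose, hB, dotProduct_comm])
    ((LinearMap.BilinForm.nondegenerate_toBilin'_iff_det_ne_zero).2 hd).1
    ⟨Pi.single i 1, by rw [hS]; simpa using hi⟩ (Module.finrank_fin_fun F)
  let M : Matrix (Fin n) (Fin n) F := Matrix.of fun r c => e c r
  have hM : Mᵀ * B * M = 1 := by
    ext r c
    rw [← he r c, hS, Matrix.mul_assoc, Matrix.mul_apply]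
    rfl
  have hMd : M.det ≠ 0 := fun h0 => by
    have := congrArg Matrix.det hM
    rw [Matrix.det_mul, Matrix.det_mul, h0, mul_zero, Matrix.det_one] at this
    exact zero_ne_one this
  exact ⟨Matrix.GeneralLinearGroup.mkOfDetNeZero M hMd, hM⟩

theorem J_symm_two (k : ℕ) : (Matrix.J (Fin k) F)ᵀ = Matrix.J (Fin k) F := by
  rw [Matrix.J_transpose]
  ext i j
  rw [Matrix.neg_apply, CharTwo.neg_eq]

theorem J_diag (k : ℕ) (i : Fin k ⊕ Fin k) : Matrix.J (Fin k) F i i = 0 := by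
  rcases i with i | i <;> simp [Matrix.J]

/-- `diag(1, J)`. -/
def oddMat (F : Type*) [Field F] (k : ℕ) : Matrix (Unit ⊕ (Fin k ⊕ Fin k)) (Unit ⊕ (Fin k ⊕ Fin k)) F :=
  Matrix.fromBlocks 1 0 0 (Matrix.J (Fin k) F)

theorem isoMat_oddMat_equiv [Finite F] (k : ℕ) :
    Nonempty (Matrix.symplecticGroup (Fin k) F ≃* isoMat (oddMat F k)) := by
  have hJ : IsUnit (Matrix.J (Fin k) F).det := Matrix.isUnit_det_J _ _
  have hmem : ∀ A : Matrix.symplecticGroup (Fin k) F,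
      IsUnit (Matrix.fromBlocks (1 : Matrix Unit Unit F) 0 0 (A : Matrix (Fin k ⊕ Fin k) (Fin k ⊕ Fin k) F)).det :=
    fun A => by
      rw [Matrix.det_fromBlocks_zero₂₁, Matrix.det_one, one_mul]
      exact SymplecticGroup.symplectic_det A.2
  have hiso : ∀ A : Matrix.symplecticGroup (Fin k) F,
      Matrix.GeneralLinearGroup.mkOfDetNeZero _ (hmem A).ne_zero ∈ isoMat (oddMat F k) := fun A => by
    show (Matrix.fromBlocks (1 : Matrix Unit Unit F) 0 0 (A : Matrix (Fin k ⊕ Fin k) (Fin k ⊕ Fin k) F))ᵀ *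
      oddMat F k * Matrix.fromBlocks 1 0 0 (A : Matrix (Fin k ⊕ Fin k) (Fin k ⊕ Fin k) F) = _
    rw [oddMat, Matrix.fromBlocks_transpose, Matrix.fromBlocks_multiply, Matrix.fromBlocks_multiply]
    simp [SymplecticGroup.mem_iff'.1 A.2]
  let f : Matrix.symplecticGroup (Fin k) F →* isoMat (oddMat F k) :=
    MonoidHom.mk' (fun A => ⟨_, hiso A⟩) fun A B => Subtype.ext (Units.ext (by
      show _ = Matrix.fromBlocks _ _ _ _ * Matrix.fromBlocks _ _ _ _
      rw [Matrix.fromBlocks_multiply]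
      simp [Matrix.GeneralLinearGroup.mkOfDetNeZero]))
  refine ⟨MulEquiv.ofBijective f ⟨fun A B h => ?_, fun g => ?_⟩⟩
  · have := congrArg (fun g : isoMat (oddMat F k) => ((g : GL (Unit ⊕ (Fin k ⊕ Fin k)) F) :
      Matrix (Unit ⊕ (Fin k ⊕ Fin k)) (Unit ⊕ (Fin k ⊕ Fin k)) F)) h
    exact Subtype.ext (Matrix.fromBlocks_inj.1 this).2.2.2
  · obtain ⟨g, hg⟩ := g
    set G : Matrix (Unit ⊕ (Fin k ⊕ Fin k)) (Unit ⊕ (Fin k ⊕ Fin k)) F :=
      (g : Matrix (Unit ⊕ (Fin k ⊕ Fin k)) (Unit ⊕ (Fin k ⊕ Fin k)) F) with hG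
    have hsymm : (oddMat F k)ᵀ = oddMat F k := by
      rw [oddMat, Matrix.fromBlocks_transpose, J_symm_two]; simp
    have hq : ∀ x : Unit ⊕ (Fin k ⊕ Fin k) → F, x ⬝ᵥ (oddMat F k *ᵥ x) = x (Sum.inl ()) * x (Sum.inl ()) := fun x => by
      rw [dot_self_of_diag hsymm, Fintype.sum_sum_type]
      simp [oddMat, J_diag]
    have hrow : ∀ j, G (Sum.inl ()) j =
        (1 : Matrix (Unit ⊕ (Fin k ⊕ Fin k)) (Unit ⊕ (Fin k ⊕ Fin k)) F) (Sum.inl ()) j := fun j => by
      have h1 := hq (G *ᵥ Pi.single j 1)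
      rw [dot_congr, mem_isoMat.1 hg, hq, Matrix.mulVec_single_one] at h1
      have h2 : (G (Sum.inl ()) j - (Pi.single j (1 : F) : Unit ⊕ (Fin k ⊕ Fin k) → F) (Sum.inl ())) *
          (G (Sum.inl ()) j - (Pi.single j (1 : F) : Unit ⊕ (Fin k ⊕ Fin k) → F) (Sum.inl ())) = 0 := by
        have h1' : (Pi.single j (1 : F) : Unit ⊕ (Fin k ⊕ Fin k) → F) (Sum.inl ()) * (Pi.single j (1 : F) : Unit ⊕ (Fin k ⊕ Fin k) → F) (Sum.inl ()) =
          G (Sum.inl ()) j * G (Sum.inl ()) j := h1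
        linear_combination h1' + (G (Sum.inl ()) j * G (Sum.inl ()) j -
          G (Sum.inl ()) j * (Pi.single j (1 : F) : Unit ⊕ (Fin k ⊕ Fin k) → F) (Sum.inl ())) * (CharTwo.two_eq_zero (R := F))
      rw [sub_eq_zero.1 (mul_self_eq_zero.1 h2), Matrix.one_apply, Pi.single_apply, eq_comm]
    obtain ⟨C, S, hGb⟩ : ∃ C S, G = Matrix.fromBlocks 1 0 C S :=
      ⟨G.toBlocks₂₁, G.toBlocks₂₂, by
        conv_lhs => rw [← Matrix.fromBlocks_toBlocks G]
        congr 1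
        · ext ⟨⟩ ⟨⟩; simpa [Matrix.toBlocks₁₁, Matrix.toBlocks₁₂] using hrow (Sum.inl ())
        · ext ⟨⟩ j; simpa [Matrix.toBlocks₁₁, Matrix.toBlocks₁₂] using hrow (.inr j)⟩
    have hb := mem_isoMat.1 hg
    rw [← hG, hGb, oddMat, Matrix.fromBlocks_transpose, Matrix.fromBlocks_multiply,
      Matrix.fromBlocks_multiply, Matrix.fromBlocks_inj] at hb
    simp at hb
    obtain ⟨-, h12, -, h22⟩ := hb
    have hS : S ∈ Matrix.symplecticGroup (Fin k) F := SymplecticGroup.mem_iff'.2 h22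
    have hu : IsUnit (Matrix.J (Fin k) F * S).det := by
      rw [Matrix.det_mul]; exact hJ.mul (SymplecticGroup.symplectic_det hS)
    have hC : C = 0 := by
      have h3 := congrArg (· * (Matrix.J (Fin k) F * S)⁻¹) h12
      rw [Matrix.mul_assoc Cᵀ, Matrix.mul_assoc, Matrix.mul_nonsing_inv _ hu, Matrix.mul_one, Matrix.zero_mul] at h3
      rw [← Matrix.transpose_transpose C, h3, Matrix.transpose_zero]
    refine ⟨⟨S, hS⟩, Subtype.ext (Units.ext ?_)⟩
    show Matrix.fromBlocks 1 0 0 S = G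
    rw [hGb, hC]

theorem isometry_equiv_PGO [Finite F] (k : ℕ) :
    Nonempty (Cfsg.isometryGroup F (Cfsg.quadFormOdd k F) ≃* Cfsg.PGO F (Cfsg.quadFormOdd k F)) := by
  have hsm : ∀ (d : F) v, Cfsg.quadFormOdd k F (d • v) = d * d * Cfsg.quadFormOdd k F v := fun d v => by
    simp only [Cfsg.quadFormOdd, Pi.smul_apply, smul_eq_mul, mul_add, Finset.mul_sum]
    congr 1
    · ring
    · exact Finset.sum_congr rfl fun _ _ => by ring
  refine equiv_projQuot (fun h hh => ⟨1, fun v => by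
    rw [Units.val_one, one_mul]; exact (Forms.mem_isometryGroup _ _).1 hh v⟩) (fun g hg hs => ?_)
    fun h hh => ?_
  · obtain ⟨a, ha⟩ := (Geo.mem_scalars_iff _).1 hs
    have h1 := (Forms.mem_isometryGroup _ _).1 hg (Pi.single (Sum.inl ()) 1)
    rw [ha, Matrix.smul_mulVec, Matrix.one_mulVec, hsm] at h1
    obtain rfl := scal_sq_eq_one (a := a) (by simpa [Cfsg.quadFormOdd] using h1)
    exact Units.ext (by rw [ha, Units.val_one, one_smul]; rfl)
  · obtain ⟨c, hc⟩ := hh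
    obtain ⟨d, hd⟩ := Forms.Invol.exists_mul_self (c : F)
    have hd0 : d ≠ 0 := fun h0 => c.ne_zero (by rw [← hd, h0, mul_zero])
    refine ⟨(FieldAut.scal (Units.mk0 d hd0))⁻¹ * h, (Forms.mem_isometryGroup _ _).2 fun v => ?_, ?_⟩
    · rw [← map_inv, Units.val_mul, FieldAut.scal_coe, Matrix.smul_mul, one_mul, Units.val_inv_eq_inv_val,
        Units.val_mk0, Matrix.smul_mulVec, hsm, hc, ← hd]
      field_simp
    · rw [_root_.mul_inv_rev, inv_inv, mul_assoc, FieldAut.scal_comm, inv_mul_cancel_left,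
        Geo.mem_scalars_iff]
      exact ⟨Units.mk0 d hd0, FieldAut.scal_coe _⟩

end Iso

end Cfsg.Agent.AutPSL
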