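import Cfsg.Agent.Lib.AutPSL.Sylow
import Cfsg.Agent.Lib.Linear.SLn

/-!
# The automorphism group of PSL_n over a finite field, n ≥ 2
* `exists_semi_of_centrePres` : an automorphism mapping centre groups to centre groups is `semi g σ`
* `exists_semi_or` : every automorphism is `semi g σ` or `semi g σ * invT`
-/

set_option autoImplicit false

open Matrix
open scoped MatrixGroups

namespace Cfsg.Agent.AutPSL

variable {F : Type*} [Field F] {m : ℕ}

local notation "PG" => ProjectiveSpecialLinearGroup (Fin (m + 2)) F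
local notation "Vec" => (Fin (m + 2) → F)

/-- The automorphism maps every centre group to a centre group. -/
def CentrePres (α : MulAut (ProjectiveSpecialLinearGroup (Fin (m + 2)) F)) : Prop :=
  ∀ v : Fin (m + 2) → F, v ≠ 0 → ∃ v', v' ≠ 0 ∧ (cgrp v).map α.toMonoidHom = cgrp v'

theorem mulVec_gl_ne {g : GL (Fin (m + 2)) F} {v : Vec} (hv : v ≠ 0) : (g : Matrix (Fin (m + 2)) (Fin (m + 2)) F) *ᵥ v ≠ 0 := by
  intro h
  apply hv
  have := congrArg (fun y => ((g⁻¹ : GL (Fin (m + 2)) F) : Matrix (Fin (m + 2)) (Fin (m + 2)) F) *ᵥ y) h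
  simpa [Matrix.mulVec_mulVec] using this

theorem smap_ne {σ : F ≃+* F} {v : Vec} (hv : v ≠ 0) : smap σ v ≠ 0 := by
  intro h
  exact hv (funext fun i => σ.injective (by simpa [smap] using congrFun h i))

theorem map_mul_aut (H : Subgroup PG) (α β : MulAut PG) :
    H.map (α * β).toMonoidHom = (H.map β.toMonoidHom).map α.toMonoidHom := by
  rw [Subgroup.map_map]; rfl

theorem map_one_aut (H : Subgroup PG) : H.map (1 : MulAut PG).toMonoidHom = H := Subgroup.map_id H

theorem map_inv_aut {H K : Subgroup PG} {α : MulAut PG} (h : H.map α.toMonoidHom = K) :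
    K.map (α⁻¹ : MulAut PG).toMonoidHom = H := by
  rw [← h, ← map_mul_aut, inv_mul_cancel, map_one_aut]

theorem map_conj_cgrp (s : Matrix.SpecialLinearGroup (Fin (m + 2)) F) (v : Vec) :
    (cgrp v).map (MulAut.conj (proj (Fin (m + 2)) F s)).toMonoidHom =
      cgrp ((s : Matrix (Fin (m + 2)) (Fin (m + 2)) F) *ᵥ v) := by
  rw [conj_eq_semi, map_semi_cgrp]
  rfl

theorem map_conj_agrp (s : Matrix.SpecialLinearGroup (Fin (m + 2)) F) (v : Vec) :
    (agrp v).map (MulAut.conj (proj (Fin (m + 2)) F s)).toMonoidHom =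
      agrp (v ᵥ* ((s⁻¹ : Matrix.SpecialLinearGroup (Fin (m + 2)) F) : Matrix (Fin (m + 2)) (Fin (m + 2)) F)) := by
  rw [conj_eq_semi, map_semi_agrp, ← map_inv]
  rfl

theorem mul_aut_conj (α : MulAut PG) (x : PG) : α * MulAut.conj x = MulAut.conj (α x) * α :=
  MulEquiv.ext fun y => by simp

theorem sl_mulVec_ne {s : Matrix.SpecialLinearGroup (Fin (m + 2)) F} {v : Vec} (hv : v ≠ 0) :
    (s : Matrix (Fin (m + 2)) (Fin (m + 2)) F) *ᵥ v ≠ 0 :=
  mulVec_gl_ne (g := Matrix.SpecialLinearGroup.toGL s) hv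

/-- One centre group mapped to a centre group suffices. -/
theorem centrePres_of_one {α : MulAut PG} {v v' : Vec} (hv : v ≠ 0) (hv' : v' ≠ 0)
    (h : (cgrp v).map α.toMonoidHom = cgrp v') : CentrePres α := by
  intro u hu
  obtain ⟨s, hs⟩ := Linear.exists_sl_smul_eq hv hu
  obtain ⟨t, ht⟩ := proj_surjective (α (proj (Fin (m + 2)) F s))
  refine ⟨(t : Matrix (Fin (m + 2)) (Fin (m + 2)) F) *ᵥ v', sl_mulVec_ne hv', ?_⟩
  have hs' : (s : Matrix (Fin (m + 2)) (Fin (m + 2)) F) *ᵥ v = u := hs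
  rw [← hs', ← map_conj_cgrp, ← map_mul_aut, mul_aut_conj, map_mul_aut, h, ← ht, map_conj_cgrp]

theorem centrePres_semi (g : GL (Fin (m + 2)) F) (σ : F ≃+* F) : CentrePres (semi g σ) :=
  fun v hv => ⟨_, mulVec_gl_ne (smap_ne hv), map_semi_cgrp g σ v⟩

theorem centrePres_mul {α β : MulAut PG} (ha : CentrePres α) (hb : CentrePres β) : CentrePres (α * β) := by
  intro v hv
  obtain ⟨u, hu, hu'⟩ := hb v hv
  obtain ⟨w, hw, hw'⟩ := ha u hu
  exact ⟨w, hw, by rw [map_mul_aut, hu', hw']⟩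

theorem inf_map_ne_bot {α : MulAut PG} {H K : Subgroup PG} (h : H ⊓ K ≠ ⊥) :
    H.map α.toMonoidHom ⊓ K.map α.toMonoidHom ≠ ⊥ := by
  rwa [← Subgroup.map_inf _ _ _ α.injective, Ne, Subgroup.map_eq_bot_iff_of_injective _ α.injective]

theorem par_of_inf_ne_bot {u v : Vec} (h : cgrp u ⊓ cgrp v ≠ ⊥) : Par u v := by
  obtain ⟨x, ⟨hx1, hx2⟩, hxne⟩ := ((cgrp u ⊓ cgrp v).bot_or_exists_ne_one).resolve_left h
  obtain ⟨a, b, ha, hb, hab, rfl⟩ := cgrp_isT x hx1 hxne
  exact ((T_mem_cgrp_iff ha hb hab).mp hx1).symm.trans ((T_mem_cgrp_iff ha hb hab).mp hx2)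

/-- A centre-preserving automorphism also maps axis groups to axis groups. -/
theorem axisPres [Finite F] {α : MulAut PG} (hα : CentrePres α) {w : Vec} (hw : w ≠ 0) :
    ∃ w', w' ≠ 0 ∧ (agrp w).map α.toMonoidHom = agrp w' := by
  have h1 : (agrp w).map α.toMonoidHom = (cgrp w).map (α * invT).toMonoidHom := by
    rw [map_mul_aut, map_invT_cgrp]
  rcases map_cgrp_or (α * invT) hw with ⟨v', hv', he⟩ | ⟨w', hw', he⟩
  · rw [← h1] at he
    obtain ⟨v, hv, hvw⟩ := exists_perp w
    rw [dotProduct_comm] at hvw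
    obtain ⟨u, hu, hu'⟩ := hα v hv
    have hmeet := inf_map_ne_bot (α := α) ((incidence hv hw).mp hvw)
    rw [hu', he] at hmeet
    have heq : cgrp v = agrp w := by
      apply Subgroup.map_injective (f := α.toMonoidHom) α.injective
      rw [he, hu', cgrp_congr (par_of_inf_ne_bot hmeet)]
    obtain ⟨g, hg⟩ := exists_gl_point hv (0 : Fin (m + 2))
    obtain ⟨g', hg'⟩ := exists_gl_point hv' (0 : Fin (m + 2))
    have hcv : cgrp v' = (cgrp v).map (semi (g' * g⁻¹) (RingEquiv.refl F)).toMonoidHom := by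
      rw [map_semi_cgrp]
      congr 1
      show v' = ((g' * g⁻¹ : GL (Fin (m + 2)) F) : Matrix (Fin (m + 2)) (Fin (m + 2)) F) *ᵥ v
      rw [Units.val_mul, ← Matrix.mulVec_mulVec]
      have : ((g⁻¹ : GL (Fin (m + 2)) F) : Matrix (Fin (m + 2)) (Fin (m + 2)) F) *ᵥ v = Pi.single 0 1 := by
        rw [← hg, Matrix.mulVec_mulVec, Units.inv_mul, Matrix.one_mulVec]
      rw [this, hg']
    rw [heq, map_semi_agrp] at hcv
    refine ⟨_, ?_, he.trans hcv⟩
    intro h0
    apply hw
    have := congrArg (fun y => y ᵥ* ((g' * g⁻¹ : GL (Fin (m + 2)) F) : Matrix (Fin (m + 2)) (Fin (m + 2)) F)) h0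
    simp only [Matrix.vecMul_vecMul, Units.inv_mul, Matrix.vecMul_one, Matrix.zero_vecMul] at this
    exact this
  · exact ⟨w', hw', h1.trans he⟩

/-- Prepend a zero coordinate. -/
def c0 (z : Fin (m + 1) → F) : Fin (m + 2) → F := Fin.cons 0 z

theorem c0_dot (z : Fin (m + 1) → F) : c0 z ⬝ᵥ eFirst F m = 0 := by
  rw [eFirst, dotProduct_single, mul_one]; rfl

theorem c0_tail {w : Vec} (h : w 0 = 0) : c0 (Fin.tail w) = w := by
  conv_rhs => rw [← Fin.cons_self_tail w, h]
  rfl

theorem c0_add (a b : Fin (m + 1) → F) : c0 (a + b) = c0 a + c0 b := by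
  ext i; refine Fin.cases ?_ (fun j => ?_) i <;> simp [c0]

theorem c0_smul (c : F) (a : Fin (m + 1) → F) : c0 (c • a) = c • c0 a := by
  ext i; refine Fin.cases ?_ (fun j => ?_) i <;> simp [c0]

theorem c0_single (i : Fin (m + 1)) (c : F) : c0 (Pi.single i c) = Pi.single i.succ c := by
  ext j
  refine Fin.cases ?_ (fun j' => ?_) j
  · simp [c0, (Fin.succ_ne_zero i).symm]
  · simp [c0, Pi.single_apply]

theorem c0_injective : Function.Injective (c0 (F := F) (m := m)) := fun a b h => by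
  simpa [c0] using congrArg Fin.tail h

/-- The transvection classes with centre `e₀`. -/
noncomputable def T0 (z : Fin (m + 1) → F) : ProjectiveSpecialLinearGroup (Fin (m + 2)) F := T (eFirst F m) (c0 z)

theorem T0_mem (z : Fin (m + 1) → F) : T0 z ∈ cgrp (eFirst F m) := ⟨_, c0_dot z, rfl⟩

theorem T0_add (a b : Fin (m + 1) → F) : T0 (a + b) = T0 a * T0 b := by
  rw [T0, c0_add, T_add (c0_dot a) (c0_dot b)]; rfl

theorem T0_injective : Function.Injective (T0 (F := F) (m := m)) := by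
  intro a b h
  by_contra hne
  have h1 : T0 (a - b) = 1 := by
    have := T0_add (a - b) b
    rw [sub_add_cancel, h] at this
    exact mul_eq_right.mp this.symm
  refine T_ne_one eFirst_ne (fun h0 => hne ?_) (c0_dot _) h1
  have : a - b = 0 := c0_injective (h0.trans (by ext i; refine Fin.cases ?_ (fun j => ?_) i <;> simp [c0]))
  exact sub_eq_zero.mp this

theorem exists_T0 {x : PG} (hx : x ∈ cgrp (eFirst F m)) : ∃ z, x = T0 z := by
  obtain ⟨w, hw, rfl⟩ := hx
  refine ⟨Fin.tail w, ?_⟩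
  rw [T0, c0_tail]
  simpa [eFirst] using hw

/-- The action of the point stabilizer on the centre group. -/
def op (s : Matrix.SpecialLinearGroup (Fin (m + 2)) F) (l : F) (z : Fin (m + 1) → F) : Fin (m + 1) → F :=
  Fin.tail (l • (c0 z ᵥ* ((s⁻¹ : Matrix.SpecialLinearGroup (Fin (m + 2)) F) : Matrix (Fin (m + 2)) (Fin (m + 2)) F)))

theorem sl_inv_mul (s : Matrix.SpecialLinearGroup (Fin (m + 2)) F) :
    ((s⁻¹ : Matrix.SpecialLinearGroup (Fin (m + 2)) F) : Matrix (Fin (m + 2)) (Fin (m + 2)) F) * (s : Matrix (Fin (m + 2)) (Fin (m + 2)) F) = 1 := by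
  rw [← Matrix.SpecialLinearGroup.coe_mul, inv_mul_cancel, Matrix.SpecialLinearGroup.coe_one]

theorem sl_mul_inv (s : Matrix.SpecialLinearGroup (Fin (m + 2)) F) :
    (s : Matrix (Fin (m + 2)) (Fin (m + 2)) F) * ((s⁻¹ : Matrix.SpecialLinearGroup (Fin (m + 2)) F) : Matrix (Fin (m + 2)) (Fin (m + 2)) F) = 1 := by
  rw [← Matrix.SpecialLinearGroup.coe_mul, mul_inv_cancel, Matrix.SpecialLinearGroup.coe_one]

theorem conj_T0 {s : Matrix.SpecialLinearGroup (Fin (m + 2)) F} {l : F}
    (hs : (s : Matrix (Fin (m + 2)) (Fin (m + 2)) F) *ᵥ eFirst F m = l • eFirst F m) (z : Fin (m + 1) → F) :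
    proj _ F s * T0 z * (proj _ F s)⁻¹ = T0 (op s l z) := by
  have hd : (c0 z ᵥ* ((s⁻¹ : Matrix.SpecialLinearGroup (Fin (m + 2)) F) : Matrix (Fin (m + 2)) (Fin (m + 2)) F)) ⬝ᵥ eFirst F m = 0 := by
    have hl : l ≠ 0 := by
      intro h0
      exact sl_mulVec_ne (s := s) eFirst_ne (by rw [hs, h0, zero_smul])
    have : (c0 z ᵥ* ((s⁻¹ : Matrix.SpecialLinearGroup (Fin (m + 2)) F) : Matrix (Fin (m + 2)) (Fin (m + 2)) F)) ⬝ᵥ
        ((s : Matrix (Fin (m + 2)) (Fin (m + 2)) F) *ᵥ eFirst F m) = 0 := by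
      rw [← Matrix.dotProduct_mulVec, Matrix.mulVec_mulVec, sl_inv_mul, Matrix.one_mulVec, c0_dot]
    rw [hs, dotProduct_smul, smul_eq_zero] at this
    exact this.resolve_left hl
  rw [T0, conj_T s (c0_dot z), hs, T_smul hd, T0, op, c0_tail]
  simpa [eFirst] using Or.inr (by simpa [eFirst] using hd)

theorem exists_scalar_of_stab {s : Matrix.SpecialLinearGroup (Fin (m + 2)) F}
    (h : (cgrp (eFirst F m)).map (MulAut.conj (proj _ F s)).toMonoidHom = cgrp (eFirst F m)) :
    ∃ l : F, (s : Matrix (Fin (m + 2)) (Fin (m + 2)) F) *ᵥ eFirst F m = l • eFirst F m := by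
  rw [map_conj_cgrp] at h
  obtain ⟨k, -, hk⟩ := (cgrp_le_iff eFirst_ne).mp h.ge
  exact ⟨k, hk⟩

theorem stab_of_scalar {s : Matrix.SpecialLinearGroup (Fin (m + 2)) F} {l : F}
    (h : (s : Matrix (Fin (m + 2)) (Fin (m + 2)) F) *ᵥ eFirst F m = l • eFirst F m) :
    (cgrp (eFirst F m)).map (MulAut.conj (proj _ F s)).toMonoidHom = cgrp (eFirst F m) := by
  rw [map_conj_cgrp, h]
  refine cgrp_congr ⟨l, fun h0 => sl_mulVec_ne (s := s) eFirst_ne (by rw [h, h0, zero_smul]), rfl⟩

theorem commutant [Finite F] (A : (Fin (m + 1) → F) → (Fin (m + 1) → F))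
    (hadd : ∀ a b, A (a + b) = A a + A b)
    (hA : ∀ (s : Matrix.SpecialLinearGroup (Fin (m + 2)) F) (l : F),
      (s : Matrix (Fin (m + 2)) (Fin (m + 2)) F) *ᵥ eFirst F m = l • eFirst F m → ∀ z, A (op s l z) = op s l (A z)) :
    ∃ a : F, ∀ z, A z = a • z := by
  classical
  have h0 : A 0 = 0 := by simpa using hadd 0 0
  let A' : (Fin (m + 1) → F) →+ (Fin (m + 1) → F) := { toFun := A, map_zero' := h0, map_add' := hadd }
  suffices h : ∃ a : F, ∀ i c, A (Pi.single i c) = a • Pi.single i c by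
    obtain ⟨a, ha⟩ := h
    refine ⟨a, fun z => ?_⟩
    have hA'z : ∀ y, A y = A' y := fun y => rfl
    conv_lhs => rw [← Finset.univ_sum_single z, hA'z, map_sum]
    conv_rhs => rw [← Finset.univ_sum_single z, Finset.smul_sum]
    exact Finset.sum_congr rfl fun i _ => ha i (z i)
  have htr : ∀ i j : Fin (m + 1), i ≠ j → ∀ c : F, A (Pi.single j c) = (A (Pi.single i 1) i) • Pi.single j c := by
    intro i j hij c
    have hd : (Pi.single j.succ c : Fin (m + 2) → F) ⬝ᵥ Pi.single i.succ 1 = 0 := by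
      simp [hij]
    have hs : (tS (Pi.single i.succ 1) (Pi.single j.succ c) : Matrix (Fin (m + 2)) (Fin (m + 2)) F) *ᵥ eFirst F m =
        (1 : F) • eFirst F m := by
      rw [tS_mulVec hd, eFirst, one_smul, dotProduct_single, Pi.single_eq_of_ne (Fin.succ_ne_zero j).symm, zero_mul,
        zero_smul, add_zero]
    have hinv : (tS (Pi.single i.succ (1 : F)) (Pi.single j.succ c))⁻¹ =
        tS (Pi.single i.succ 1) (-(Pi.single j.succ c)) :=
      inv_eq_of_mul_eq_one_right (by
        rw [← tS_add hd (by rw [neg_dotProduct, hd, neg_zero]), add_neg_cancel, tS_zero])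
    have hop : ∀ z, op (tS (Pi.single i.succ (1 : F)) (Pi.single j.succ c)) 1 z =
        z - z i • Pi.single j c := by
      intro z
      rw [op, hinv, one_smul, tS_vecMul (by rw [neg_dotProduct, hd, neg_zero])]
      ext k
      simp [Fin.tail, c0, dotProduct_single, Pi.single_apply, sub_eq_add_neg]
    have := hA _ 1 hs (Pi.single i 1)
    rw [hop, hop, Pi.single_eq_same, one_smul] at this
    have hsub : A (Pi.single i 1 - Pi.single j c) = A (Pi.single i 1) - A (Pi.single j c) := map_sub A' _ _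
    rw [hsub, sub_right_inj] at this
    exact this
  by_cases hm : ∃ i j : Fin (m + 1), i ≠ j
  · obtain ⟨i₀, j₀, h₀⟩ := hm
    refine ⟨A (Pi.single i₀ 1) i₀, fun i c => ?_⟩
    have hdiag : ∀ j, j ≠ i₀ → A (Pi.single j 1) j = A (Pi.single i₀ 1) i₀ := fun j hj => by
      rw [htr i₀ j hj.symm 1]; simp
    by_cases hi : i = i₀
    · subst hi
      rw [htr j₀ i h₀.symm c, hdiag j₀ h₀.symm]
    · exact htr i₀ i (Ne.symm hi) c
  · have hone : ∀ i : Fin (m + 1), i = 0 := fun i => not_not.mp fun h => hm ⟨i, 0, h⟩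
    let R : Subring F :=
      { carrier := {c | ∀ z, A (c • z) = c • A z}
        one_mem' := fun z => by simp
        zero_mem' := fun z => by simp [h0]
        add_mem' := fun {a b} ha hb z => by rw [add_smul, hadd, ha, hb, add_smul]
        mul_mem' := fun {a b} ha hb z => by rw [mul_smul, ha, hb, mul_smul]
        neg_mem' := fun {a} ha z => by
          rw [neg_smul, neg_smul, show A (-(a • z)) = -A (a • z) from map_neg A' _, ha] }
    have hsq : ∀ a : F, a * a ∈ R := by
      intro a z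
      by_cases ha : a = 0
      · subst ha; simp [h0]
      have h01 : (0 : Fin (m + 2)) ≠ (0 : Fin (m + 1)).succ := (Fin.succ_ne_zero _).symm
      set s := Matrix.SpecialLinearGroup.diag2n h01 a ha with hsdef
      have hs : (s : Matrix (Fin (m + 2)) (Fin (m + 2)) F) *ᵥ eFirst F m = a • eFirst F m := by
        rw [Matrix.SpecialLinearGroup.diag2n_coe]
        ext k
        rw [Matrix.mulVec_diagonal]
        by_cases hk : k = 0 <;> simp [eFirst, hk]
      have hop : ∀ y : Fin (m + 1) → F, op s a y = (a * a) • y := by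
        intro y
        have e : c0 y ᵥ* ((s⁻¹ : Matrix.SpecialLinearGroup (Fin (m + 2)) F) : Matrix (Fin (m + 2)) (Fin (m + 2)) F) = c0 (a • y) := by
          have : c0 (a • y) ᵥ* (s : Matrix (Fin (m + 2)) (Fin (m + 2)) F) = c0 y := by
            rw [Matrix.SpecialLinearGroup.diag2n_coe]
            ext k
            rw [Matrix.vecMul_diagonal]
            refine Fin.cases ?_ (fun k' => ?_) k
            · simp [c0]
            · simp [c0, hone k', h01.symm, mul_comm a, mul_assoc, ha]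
          rw [← this, Matrix.vecMul_vecMul, sl_mul_inv, Matrix.vecMul_one]
        rw [op, e, ← c0_smul, smul_smul]
        simp [c0]
      have := hA s a hs z
      rwa [hop, hop] at this
    haveI : Finite R := inferInstance
    have htop : ∀ c : F, c ∈ R := by
      intro c
      by_cases h2 : (2 : F) = 0
      · haveI : CharP F 2 := (CharP.charP_iff_prime_eq_zero Nat.prime_two).mpr (by exact_mod_cast h2)
        haveI : PerfectRing F 2 := inferInstance
        obtain ⟨b, hb⟩ := (bijective_frobenius F 2).surjective c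
        rw [← hb, frobenius_def, sq]
        exact hsq b
      · have h4 : (4 : F) ∈ R := by
          have := hsq 2
          rwa [show (2 : F) * 2 = 4 by norm_num] at this
        have hdiff : 4 * c ∈ R := by
          have := sub_mem (hsq (c + 1)) (hsq (c - 1))
          convert this using 1; ring
        have h40 : (4 : F) ≠ 0 := by
          rw [show (4 : F) = 2 * 2 by norm_num]; exact mul_ne_zero h2 h2
        obtain ⟨k, hk⟩ : ∃ k : ℕ, (4 : F)⁻¹ = 4 ^ k := by
          haveI := Fintype.ofFinite F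
          refine ⟨Fintype.card F - 2, inv_eq_of_mul_eq_one_right ?_⟩
          rw [← pow_succ', show Fintype.card F - 2 + 1 = Fintype.card F - 1 by
            have := Fintype.one_lt_card (α := F); omega, FiniteField.pow_card_sub_one_eq_one 4 h40]
        have := mul_mem (pow_mem h4 k) hdiff
        rwa [← hk, ← mul_assoc, inv_mul_cancel₀ h40, one_mul] at this
    refine ⟨A (Pi.single 0 1) 0, fun i c => ?_⟩
    have e1 : (Pi.single i c : Fin (m + 1) → F) = c • Pi.single 0 1 := by
      ext k; simp [hone i, hone k]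
    rw [e1, htop c (Pi.single 0 1)]
    ext k; simp [hone k, mul_comm]

theorem normalise [Finite F] {α : MulAut PG} (hα : CentrePres α) :
    ∃ g : GL (Fin (m + 2)) F, (cgrp (eFirst F m)).map ((semi g (RingEquiv.refl F))⁻¹ * α).toMonoidHom = cgrp (eFirst F m) ∧
      (agrp (eFirst F m)).map ((semi g (RingEquiv.refl F))⁻¹ * α).toMonoidHom = agrp (eFirst F m) := by
  obtain ⟨u, hu, hu'⟩ := hα _ eFirst_ne
  obtain ⟨ψ, hψ, hψ'⟩ := axisPres hα (eFirst_ne (F := F) (m := m))
  have hk : ψ ⬝ᵥ u ≠ 0 := by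
    intro h
    have hne := inf_map_ne_bot (α := (α⁻¹ : MulAut PG)) ((incidence hu hψ).mp h)
    rw [map_inv_aut hu', map_inv_aut hψ'] at hne
    have := (incidence eFirst_ne eFirst_ne).mpr hne
    simp [eFirst] at this
  obtain ⟨g₁, hg₁⟩ := exists_gl_point hu (0 : Fin (m + 2))
  set ψ' := ψ ᵥ* (g₁ : Matrix (Fin (m + 2)) (Fin (m + 2)) F) with hψd
  have hψ'0 : ψ' 0 = ψ ⬝ᵥ u := by
    rw [← hg₁, Matrix.dotProduct_mulVec, ← hψd]; simp
  set z : Fin (m + 2) → F := eFirst F m - (ψ ⬝ᵥ u)⁻¹ • ψ' with hz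
  have hz0 : z ⬝ᵥ eFirst F m = 0 := by
    simp [hz, eFirst, sub_dotProduct, hψ'0, inv_mul_cancel₀ hk]
  refine ⟨g₁ * Matrix.SpecialLinearGroup.toGL (tS (eFirst F m) z), ?_, ?_⟩
  · rw [map_mul_aut, hu']
    apply map_inv_aut
    rw [map_semi_cgrp]
    congr 1
    show ((g₁ : Matrix (Fin (m + 2)) (Fin (m + 2)) F) * (tS (eFirst F m) z : Matrix (Fin (m + 2)) (Fin (m + 2)) F)) *ᵥ smap (RingEquiv.refl F) (eFirst F m) = u
    rw [show smap (RingEquiv.refl F) (eFirst F m) = eFirst F m from rfl, ← Matrix.mulVec_mulVec, tS_mulVec hz0,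
      hz0, zero_smul, add_zero]
    exact hg₁
  · rw [map_mul_aut, hψ']
    apply map_inv_aut
    rw [map_semi_agrp]
    apply agrp_congr
    refine ⟨(ψ ⬝ᵥ u)⁻¹, inv_ne_zero hk, ?_⟩
    set G := g₁ * Matrix.SpecialLinearGroup.toGL (tS (eFirst F m) z) with hG
    have hrow : ψ ᵥ* (G : Matrix (Fin (m + 2)) (Fin (m + 2)) F) = (ψ ⬝ᵥ u) • eFirst F m := by
      show ψ ᵥ* ((g₁ : Matrix (Fin (m + 2)) (Fin (m + 2)) F) * (tS (eFirst F m) z : Matrix (Fin (m + 2)) (Fin (m + 2)) F)) = _
      rw [← Matrix.vecMul_vecMul, ← hψd, tS_vecMul hz0,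
        show ψ' ⬝ᵥ eFirst F m = ψ ⬝ᵥ u by simp [eFirst, hψ'0], hz, smul_sub, smul_smul, mul_inv_cancel₀ hk, one_smul,
        add_sub_cancel]
    show smap (RingEquiv.refl F) (eFirst F m) ᵥ* _ = _
    rw [show smap (RingEquiv.refl F) (eFirst F m) = (ψ ⬝ᵥ u)⁻¹ • ((ψ ⬝ᵥ u) • eFirst F m) by
      rw [smul_smul, inv_mul_cancel₀ hk, one_smul]; rfl, ← hrow, Matrix.smul_vecMul, Matrix.vecMul_vecMul,
      Units.mul_inv, Matrix.vecMul_one]

/-- Block matrix `diag(1, M)`. -/
def blk (M : Matrix (Fin (m + 1)) (Fin (m + 1)) F) : Matrix (Fin (m + 2)) (Fin (m + 2)) F :=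
  Matrix.of (Fin.cases (Fin.cons 1 0) (fun i => Fin.cons 0 (M i)))

theorem vecMul_blk (M : Matrix (Fin (m + 1)) (Fin (m + 1)) F) (x : Vec) :
    x ᵥ* blk M = Fin.cons (x 0) (Fin.tail x ᵥ* M) := by
  ext j
  rw [Matrix.vecMul, dotProduct, Fin.sum_univ_succ]
  refine Fin.cases ?_ (fun j' => ?_) j
  · simp [blk]
  · simp [blk, Matrix.vecMul, dotProduct, Fin.tail]

theorem blk_mul (M N : Matrix (Fin (m + 1)) (Fin (m + 1)) F) (h : M * N = 1) : blk M * blk N = 1 := by
  refine Matrix.ext_of_single_vecMul fun i => ?_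
  rw [← Matrix.vecMul_vecMul, vecMul_blk, vecMul_blk, Matrix.vecMul_one, Fin.cons_zero, Fin.tail_cons,
    Matrix.vecMul_vecMul, h, Matrix.vecMul_one, Fin.cons_self_tail]

theorem blk_mulVec (M : Matrix (Fin (m + 1)) (Fin (m + 1)) F) : blk M *ᵥ eFirst F m = eFirst F m := by
  ext i
  rw [eFirst, Matrix.mulVec_single_one]
  refine Fin.cases ?_ (fun i' => ?_) i <;> simp [blk]

theorem exists_semi_T0 [Finite F] {β : MulAut PG}
    (hc : (cgrp (eFirst F m)).map β.toMonoidHom = cgrp (eFirst F m)) :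
    ∃ (g : GL (Fin (m + 2)) F) (σ : F ≃+* F),
      (cgrp (eFirst F m)).map (semi g σ).toMonoidHom = cgrp (eFirst F m) ∧
      (agrp (eFirst F m)).map (semi g σ).toMonoidHom = agrp (eFirst F m) ∧
      ∀ z, semi g σ (T0 z) = β (T0 z) := by
  classical
  have hbz : ∀ z, ∃ y, β (T0 z) = T0 y := fun z => exists_T0 (hc ▸ ⟨_, T0_mem z, rfl⟩)
  choose f hf using hbz
  have hadd : ∀ a b, f (a + b) = f a + f b := fun a b => T0_injective (by
    rw [← hf, T0_add, map_mul, hf, hf, ← T0_add])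
  have hinj : Function.Injective f := fun a b h => T0_injective (β.injective (by rw [hf, hf, h]))
  have hbij : Function.Bijective f := Finite.injective_iff_bijective.mp hinj
  let e := Equiv.ofBijective f hbij
  have hop : ∀ (s' : Matrix.SpecialLinearGroup (Fin (m + 2)) F) (l' : F),
      (s' : Matrix (Fin (m + 2)) (Fin (m + 2)) F) *ᵥ eFirst F m = l' • eFirst F m →
      ∃ (s : Matrix.SpecialLinearGroup (Fin (m + 2)) F) (l : F), (s : Matrix (Fin (m + 2)) (Fin (m + 2)) F) *ᵥ eFirst F m = l • eFirst F m ∧ ∀ z, f (op s l z) = op s' l' (f z) := by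
    intro s' l' hs'
    obtain ⟨s, hs⟩ := proj_surjective ((β⁻¹ : MulAut PG) (proj _ F s'))
    have hβs : β (proj _ F s) = proj _ F s' := by rw [hs, ← MulAut.mul_apply, mul_inv_cancel, MulAut.one_apply]
    have hstab : (cgrp (eFirst F m)).map (MulAut.conj (proj _ F s)).toMonoidHom = cgrp (eFirst F m) := by
      apply Subgroup.map_injective (f := β.toMonoidHom) β.injective
      rw [← map_mul_aut, mul_aut_conj, map_mul_aut, hc, hβs, stab_of_scalar hs']
    obtain ⟨l, hl⟩ := exists_scalar_of_stab hstab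
    refine ⟨s, l, hl, fun z => T0_injective ?_⟩
    rw [← hf, ← conj_T0 hl, map_mul, map_mul, map_inv, hβs, hf, conj_T0 hs']
  have hscal : ∀ c : F, ∃ a : F, ∀ z, f (c • z) = a • f z := by
    intro c
    obtain ⟨a, ha⟩ := commutant (m := m) (fun y => f (c • e.symm y))
      (fun x y => by
        have : e.symm (x + y) = e.symm x + e.symm y := by
          apply e.injective
          show e (e.symm (x + y)) = f (e.symm x + e.symm y)
          rw [hadd, show f (e.symm x) = x from e.apply_symm_apply x, show f (e.symm y) = y from e.apply_symm_apply y,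
            e.apply_symm_apply]
        show f (c • e.symm (x + y)) = f (c • e.symm x) + f (c • e.symm y)
        rw [this, smul_add, hadd])
      (fun s' l' hs' y => by
        obtain ⟨s, l, hl, hsl⟩ := hop s' l' hs'
        show f (c • e.symm (op s' l' y)) = op s' l' (f (c • e.symm y))
        have : e.symm (op s' l' y) = op s l (e.symm y) := by
          apply e.injective
          rw [e.apply_symm_apply]
          show _ = f _
          rw [hsl, show f (e.symm y) = y from e.apply_symm_apply y]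
        rw [this, ← hsl]
        congr 1
        simp only [op, c0_smul, Matrix.smul_vecMul]
        ext i
        simp [Fin.tail]
        ring)
    refine ⟨a, fun z => ?_⟩
    have := ha (f z)
    rwa [show e.symm (f z) = z from e.symm_apply_apply z] at this
  choose s0 hs0 using hscal
  have hf0 : f 0 = 0 := by simpa using hadd 0 0
  set z₀ : Fin (m + 1) → F := Pi.single 0 1 with hz₀
  have hfz : f z₀ ≠ 0 := fun h => by
    have := hinj (h.trans hf0.symm)
    simp [hz₀] at this
  have hcancel : ∀ a b : F, a • f z₀ = b • f z₀ → a = b := by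
    intro a b h
    rw [← sub_eq_zero, ← sub_smul, smul_eq_zero] at h
    exact sub_eq_zero.mp (h.resolve_right hfz)
  let σ₀ : F →+* F :=
    { toFun := s0
      map_one' := hcancel _ _ (by rw [← hs0, one_smul, one_smul])
      map_mul' := fun a b => hcancel _ _ (by rw [← hs0, mul_smul, hs0, hs0, smul_smul])
      map_zero' := hcancel _ _ (by rw [← hs0, zero_smul, zero_smul, hf0])
      map_add' := fun a b => hcancel _ _ (by rw [← hs0, add_smul, hadd, hs0, hs0, ← add_smul]) }
  let σ : F ≃+* F := RingEquiv.ofBijective σ₀ (Finite.injective_iff_bijective.mp σ₀.injective)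
  have hσ : ∀ c z, f (c • z) = σ c • f z := fun c z => hs0 c z
  let M : Matrix (Fin (m + 1)) (Fin (m + 1)) F := Matrix.of fun i => f (Pi.single i 1)
  have hfM : ∀ z : Fin (m + 1) → F, f z = smap σ z ᵥ* M := by
    intro z
    let f' : (Fin (m + 1) → F) →+ (Fin (m + 1) → F) := { toFun := f, map_zero' := hf0, map_add' := hadd }
    show f' z = _
    conv_lhs => rw [← Finset.univ_sum_single z, map_sum]
    rw [Matrix.vecMul_eq_sum]
    refine Finset.sum_congr rfl fun i _ => ?_
    rw [← mul_one (z i), ← smul_eq_mul, Pi.single_smul]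
    show f (z i • Pi.single i 1) = _
    rw [hσ]
    rfl
  have hMinj : Function.Injective M.vecMul := by
    intro a b h
    have ha : smap σ (smap σ.symm a) = a := by ext i; simp [smap]
    have hb : smap σ (smap σ.symm b) = b := by ext i; simp [smap]
    have : f (smap σ.symm a) = f (smap σ.symm b) := by rw [hfM, hfM, ha, hb]; exact h
    rw [← ha, ← hb, hinj this]
  have hMu : IsUnit M := Matrix.vecMul_injective_iff_isUnit.mp hMinj
  let g : GL (Fin (m + 2)) F :=
    ⟨blk M⁻¹, blk M, blk_mul _ _ (Matrix.nonsing_inv_mul M ((Matrix.isUnit_iff_isUnit_det M).mp hMu)),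
      blk_mul _ _ (Matrix.mul_nonsing_inv M ((Matrix.isUnit_iff_isUnit_det M).mp hMu))⟩
  have hge : (g : Matrix (Fin (m + 2)) (Fin (m + 2)) F) *ᵥ smap σ (eFirst F m) = eFirst F m := by
    rw [show smap σ (eFirst F m) = eFirst F m by ext i; by_cases hi : i = 0 <;> simp [smap, eFirst, hi]]
    exact blk_mulVec _
  refine ⟨g, σ, ?_, ?_, fun z => ?_⟩
  · rw [map_semi_cgrp, hge]
  · rw [map_semi_agrp]
    congr 1
    show smap σ (eFirst F m) ᵥ* blk M = eFirst F m
    rw [vecMul_blk]
    ext i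
    refine Fin.cases ?_ (fun j => ?_) i
    · simp [smap, eFirst]
    · simp [Matrix.vecMul, dotProduct, Fin.tail, smap, eFirst]
  · rw [hf, T0, (semi_T g σ (c0_dot z)).1, hge, T0]
    congr 1
    show smap σ (c0 z) ᵥ* blk M = c0 (f z)
    rw [vecMul_blk, hfM]
    have h1 : smap σ (c0 z) 0 = 0 := by simp [smap, c0]
    have h2 : Fin.tail (smap σ (c0 z)) = smap σ z := by ext k; simp [Fin.tail, smap, c0]
    rw [h1, h2]
    rfl

/-- Rigidity. -/
theorem rigid [Finite F] {β : MulAut PG} (hβ : CentrePres β)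
    (hc : (cgrp (eFirst F m)).map β.toMonoidHom = cgrp (eFirst F m))
    (ha : (agrp (eFirst F m)).map β.toMonoidHom = agrp (eFirst F m))
    (h0 : ∀ z, β (T0 z) = T0 z) : β = 1 := by
  -- elements fixing the centre group and the axis group
  have hL : ∀ (s : Matrix.SpecialLinearGroup (Fin (m + 2)) F) (l k : F),
      (s : Matrix (Fin (m + 2)) (Fin (m + 2)) F) *ᵥ eFirst F m = l • eFirst F m → eFirst F m ᵥ* (s : Matrix (Fin (m + 2)) (Fin (m + 2)) F) = k • eFirst F m →
      β (proj _ F s) = proj _ F s := by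
    intro s l k hs hk
    obtain ⟨s', hs'⟩ := proj_surjective (β (proj _ F s))
    have hstab : (cgrp (eFirst F m)).map (MulAut.conj (proj _ F s')).toMonoidHom = cgrp (eFirst F m) := by
      conv_lhs => rw [← hc]
      rw [hs', ← map_mul_aut, ← mul_aut_conj, map_mul_aut, stab_of_scalar hs, hc]
    obtain ⟨l', hl'⟩ := exists_scalar_of_stab hstab
    have hk0 : k ≠ 0 := by
      intro h; rw [h, zero_smul] at hk
      have := congrArg (fun y => y ᵥ* ((s⁻¹ : Matrix.SpecialLinearGroup (Fin (m + 2)) F) : Matrix (Fin (m + 2)) (Fin (m + 2)) F)) hk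
      simp only [Matrix.vecMul_vecMul, sl_mul_inv, Matrix.vecMul_one, Matrix.zero_vecMul] at this
      exact eFirst_ne this
    have hsinv : eFirst F m ᵥ* ((s⁻¹ : Matrix.SpecialLinearGroup (Fin (m + 2)) F) : Matrix (Fin (m + 2)) (Fin (m + 2)) F) = k⁻¹ • eFirst F m := by
      have := congrArg (fun y => y ᵥ* ((s⁻¹ : Matrix.SpecialLinearGroup (Fin (m + 2)) F) : Matrix (Fin (m + 2)) (Fin (m + 2)) F)) hk
      simp only [Matrix.vecMul_vecMul, sl_mul_inv, Matrix.vecMul_one, Matrix.smul_vecMul] at this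
      conv_rhs => rw [this, smul_smul, inv_mul_cancel₀ hk0, one_smul]
    have hastab : (agrp (eFirst F m)).map (MulAut.conj (proj _ F s')).toMonoidHom = agrp (eFirst F m) := by
      have hA : (agrp (eFirst F m)).map (MulAut.conj (proj _ F s)).toMonoidHom = agrp (eFirst F m) := by
        rw [map_conj_agrp, hsinv]; exact agrp_congr ⟨k⁻¹, inv_ne_zero hk0, rfl⟩
      conv_lhs => rw [← ha]
      rw [hs', ← map_mul_aut, ← mul_aut_conj, map_mul_aut, hA, ha]
    rw [map_conj_agrp] at hastab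
    obtain ⟨k', hk'0, hk'⟩ := (agrp_le_iff eFirst_ne).mp hastab.ge
    set d := s⁻¹ * s' with hd
    have hop : ∀ z, proj _ F d * T0 z * (proj _ F d)⁻¹ = T0 z := by
      intro z
      have h1 := congrArg β (conj_T0 hs z)
      rw [map_mul, map_mul, map_inv, h0, h0, ← hs', ← conj_T0 hs z] at h1
      rw [hd, map_mul, map_inv, _root_.mul_inv_rev, inv_inv,
        show (proj _ F s)⁻¹ * proj _ F s' * T0 z * ((proj _ F s')⁻¹ * proj _ F s) =
          (proj _ F s)⁻¹ * (proj _ F s' * T0 z * (proj _ F s')⁻¹) * proj _ F s by group, h1]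
      group
    have hde : (d : Matrix (Fin (m + 2)) (Fin (m + 2)) F) *ᵥ eFirst F m = (l' * l⁻¹) • eFirst F m := by
      have hsi : ((s⁻¹ : Matrix.SpecialLinearGroup (Fin (m + 2)) F) : Matrix (Fin (m + 2)) (Fin (m + 2)) F) *ᵥ eFirst F m = l⁻¹ • eFirst F m := by
        have := congrArg (fun y => ((s⁻¹ : Matrix.SpecialLinearGroup (Fin (m + 2)) F) : Matrix (Fin (m + 2)) (Fin (m + 2)) F) *ᵥ y) hs
        simp only [Matrix.mulVec_mulVec, sl_inv_mul, Matrix.one_mulVec, Matrix.mulVec_smul] at this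
        have hl0 : l ≠ 0 := fun h => eFirst_ne (by rw [this, h, zero_smul])
        conv_rhs => rw [this, smul_smul, inv_mul_cancel₀ hl0, one_smul]
      rw [hd, Matrix.SpecialLinearGroup.coe_mul, ← Matrix.mulVec_mulVec, hl', Matrix.mulVec_smul, hsi, smul_smul]
    set μ := l' * l⁻¹
    have hμ : μ ≠ 0 := fun h => sl_mulVec_ne (s := d) eFirst_ne (by rw [hde, h, zero_smul])
    set D := ((d⁻¹ : Matrix.SpecialLinearGroup (Fin (m + 2)) F) : Matrix (Fin (m + 2)) (Fin (m + 2)) F) with hD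
    have hrow : ∀ z, c0 z ᵥ* D = μ⁻¹ • c0 z := by
      intro z
      have := T0_injective ((conj_T0 hde z).symm.trans (hop z))
      have h2 : (c0 z ᵥ* D) ⬝ᵥ eFirst F m = 0 := by
        have h3 : (c0 z ᵥ* D) ⬝ᵥ ((d : Matrix (Fin (m + 2)) (Fin (m + 2)) F) *ᵥ eFirst F m) = 0 := by
          rw [hD, ← Matrix.dotProduct_mulVec, Matrix.mulVec_mulVec, sl_inv_mul, Matrix.one_mulVec, c0_dot]
        rw [hde, dotProduct_smul, smul_eq_zero] at h3
        exact h3.resolve_left hμ
      have h4 : μ • (c0 z ᵥ* D) = c0 z := by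
        rw [← c0_tail (w := μ • (c0 z ᵥ* D)) (by simp [show (c0 z ᵥ* D) 0 = 0 by simpa [eFirst] using h2])]
        exact congrArg c0 this
      conv_rhs => rw [← h4, smul_smul, inv_mul_cancel₀ hμ, one_smul]
    have hrow0 : eFirst F m ᵥ* D = μ⁻¹ • eFirst F m := by
      have e1 : ∃ a : F, eFirst F m ᵥ* D = a • eFirst F m := by
        refine ⟨k * k', ?_⟩
        rw [hD, hd, _root_.mul_inv_rev, inv_inv, Matrix.SpecialLinearGroup.coe_mul, ← Matrix.vecMul_vecMul, hk',
          Matrix.smul_vecMul, hk, smul_smul, mul_comm]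
      obtain ⟨a, ha'⟩ := e1
      have : (eFirst F m ᵥ* D) ⬝ᵥ ((d : Matrix (Fin (m + 2)) (Fin (m + 2)) F) *ᵥ eFirst F m) = 1 := by
        rw [hD, ← Matrix.dotProduct_mulVec, Matrix.mulVec_mulVec, sl_inv_mul, Matrix.one_mulVec]; simp [eFirst]
      rw [hde, ha'] at this
      simp [eFirst] at this
      rw [ha', eq_inv_of_mul_eq_one_right this]
    have hDs : D = μ⁻¹ • (1 : Matrix (Fin (m + 2)) (Fin (m + 2)) F) := by
      refine Matrix.ext_of_single_vecMul fun i => ?_
      rw [Matrix.vecMul_smul, Matrix.vecMul_one]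
      refine Fin.cases ?_ (fun j => ?_) i
      · exact hrow0
      · rw [← c0_single]; exact hrow _
    have h5 : proj _ F d⁻¹ = 1 := proj_eq_one_of_forall hDs
    rw [map_inv, inv_eq_one, hd, map_mul, map_inv, inv_mul_eq_one] at h5
    rw [← hs', ← h5]
  -- the point stabilizer is fixed
  have hP1 : ∀ (s : Matrix.SpecialLinearGroup (Fin (m + 2)) F) (l : F),
      (s : Matrix (Fin (m + 2)) (Fin (m + 2)) F) *ᵥ eFirst F m = l • eFirst F m → β (proj _ F s) = proj _ F s := by
    intro s l hs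
    have hl0 : l ≠ 0 := fun h => sl_mulVec_ne (s := s) eFirst_ne (by rw [hs, h, zero_smul])
    set r := eFirst F m ᵥ* ((s⁻¹ : Matrix.SpecialLinearGroup (Fin (m + 2)) F) : Matrix (Fin (m + 2)) (Fin (m + 2)) F) with hr
    have hr0 : r ⬝ᵥ eFirst F m = l⁻¹ := by
      have : r ⬝ᵥ ((s : Matrix (Fin (m + 2)) (Fin (m + 2)) F) *ᵥ eFirst F m) = 1 := by
        rw [hr, ← Matrix.dotProduct_mulVec, Matrix.mulVec_mulVec, sl_inv_mul, Matrix.one_mulVec]; simp [eFirst]
      rw [hs, dotProduct_smul, smul_eq_mul] at this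
      exact eq_inv_of_mul_eq_one_right this
    have hz : (l • r - eFirst F m) ⬝ᵥ eFirst F m = 0 := by
      rw [sub_dotProduct, smul_dotProduct, hr0, smul_eq_mul, mul_inv_cancel₀ hl0]; simp [eFirst]
    set t := tS (eFirst F m) (l • r - eFirst F m)
    have ht : ((t * s : Matrix.SpecialLinearGroup (Fin (m + 2)) F) : Matrix (Fin (m + 2)) (Fin (m + 2)) F) *ᵥ eFirst F m = l • eFirst F m := by
      rw [Matrix.SpecialLinearGroup.coe_mul, ← Matrix.mulVec_mulVec, hs, Matrix.mulVec_smul, tS_mulVec hz, hz,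
        zero_smul, add_zero]
    have ht2 : eFirst F m ᵥ* ((t * s : Matrix.SpecialLinearGroup (Fin (m + 2)) F) : Matrix (Fin (m + 2)) (Fin (m + 2)) F) = l • eFirst F m := by
      rw [Matrix.SpecialLinearGroup.coe_mul, ← Matrix.vecMul_vecMul, tS_vecMul hz]
      simp only [eFirst, single_dotProduct, Pi.single_eq_same, mul_one, one_smul, add_sub_cancel]
      rw [hr, Matrix.smul_vecMul, Matrix.vecMul_vecMul, sl_inv_mul, Matrix.vecMul_one]
      rfl
    have h1 := hL _ l l ht ht2
    have htT : proj _ F t = T0 (Fin.tail (l • r - eFirst F m)) := by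
      rw [T0, c0_tail (by simpa [eFirst] using hz)]; rfl
    rw [map_mul, map_mul, htT, h0] at h1
    exact mul_left_cancel h1
  -- points of the hyperplane
  have hH : ∀ y : Vec, y 0 = 0 → y ≠ 0 → (cgrp y).map β.toMonoidHom = cgrp y := by
    intro y hy hy0
    obtain ⟨y', hy', he⟩ := hβ y hy0
    have hy'0 : y' 0 = 0 := by
      have := inf_map_ne_bot (α := β) ((incidence hy0 eFirst_ne).mp (by simpa [eFirst] using hy))
      rw [he, ha] at this
      simpa [eFirst] using (incidence hy' eFirst_ne).mpr this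
    rw [he]
    by_contra hne
    have hnpar : ¬ ∃ k : F, y' = k • y := fun ⟨k, hk⟩ =>
      hne (cgrp_congr ⟨k, fun h => hy' (by rw [hk, h, zero_smul]), hk⟩)
    obtain ⟨x, hx1, hx2⟩ := exists_dot hnpar
    set z : Vec := x - x 0 • eFirst F m with hzdef
    have hz1 : z ⬝ᵥ y = 0 := by
      rw [hzdef, sub_dotProduct, smul_dotProduct, dotProduct_comm, hx1]; simp [eFirst, hy]
    have hz2 : z ⬝ᵥ y' = 1 := by
      rw [hzdef, sub_dotProduct, smul_dotProduct, dotProduct_comm, hx2]; simp [eFirst, hy'0]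
    have hte : (tS y z : Matrix (Fin (m + 2)) (Fin (m + 2)) F) *ᵥ eFirst F m = (1 : F) • eFirst F m := by
      rw [tS_mulVec hz1, one_smul, show z ⬝ᵥ eFirst F m = 0 by simp [hzdef, eFirst], zero_smul, add_zero]
    have hfix := hP1 _ 1 hte
    have h2 : (cgrp y).map (MulAut.conj (proj _ F (tS y z))).toMonoidHom = cgrp y := by
      rw [map_conj_cgrp, tS_mulVec hz1, hz1, zero_smul, add_zero]
    have h3 : (cgrp y').map (MulAut.conj (proj _ F (tS y z))).toMonoidHom = cgrp y' := by
      rw [← he, ← map_mul_aut, ← congrArg MulAut.conj hfix, ← mul_aut_conj, map_mul_aut, h2]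
    rw [map_conj_cgrp, tS_mulVec hz1, hz2, one_smul] at h3
    obtain ⟨k, -, hk⟩ := (cgrp_le_iff hy').mp h3.ge
    apply hnpar
    refine ⟨(k - 1)⁻¹, ?_⟩
    have hk1 : k - 1 ≠ 0 := by
      intro h
      rw [sub_eq_zero.mp h, one_smul, add_eq_left] at hk
      exact hy0 hk
    have hky : y = (k - 1) • y' := by rw [sub_smul, one_smul, ← hk]; abel
    rw [hky, smul_smul, inv_mul_cancel₀ hk1, one_smul]
  -- all points
  have hall : ∀ v : Vec, v ≠ 0 → (cgrp v).map β.toMonoidHom = cgrp v := by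
    intro v hv
    set h : Vec := v - v 0 • eFirst F m with hh
    have hh0 : h 0 = 0 := by simp [hh, eFirst]
    by_cases hz : h = 0
    · have hv0 : v = v 0 • eFirst F m := sub_eq_zero.mp hz
      have : v 0 ≠ 0 := fun h0 => hv (by rw [hv0, h0, zero_smul])
      rw [cgrp_congr (v := eFirst F m) (v' := v) ⟨v 0, this, hv0⟩]
      exact hc
    obtain ⟨i, hi⟩ := Function.ne_iff.mp hz
    simp only [Pi.zero_apply] at hi
    have hi0 : i ≠ 0 := fun h0 => hi (h0 ▸ hh0)
    set z : Vec := Pi.single i (v 0 * (h i)⁻¹) with hzdef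
    have hz0 : z ⬝ᵥ eFirst F m = 0 := by simp [hzdef, eFirst, hi0.symm]
    have hzh : z ⬝ᵥ h = v 0 := by
      rw [hzdef, single_dotProduct, mul_assoc, inv_mul_cancel₀ hi, mul_one]
    have hv' : (tS (eFirst F m) z : Matrix (Fin (m + 2)) (Fin (m + 2)) F) *ᵥ h = v := by
      rw [tS_mulVec hz0, hzh, hh, sub_add_cancel]
    have hte : (tS (eFirst F m) z : Matrix (Fin (m + 2)) (Fin (m + 2)) F) *ᵥ eFirst F m = (1 : F) • eFirst F m := by
      rw [tS_mulVec hz0, hz0, zero_smul, add_zero, one_smul]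
    rw [← hv', ← map_conj_cgrp, ← map_mul_aut, mul_aut_conj, map_mul_aut, hH h hh0 hz, hP1 _ 1 hte]
  refine MulEquiv.ext fun x => ?_
  obtain ⟨s, rfl⟩ := proj_surjective x
  obtain ⟨s', hs'⟩ := proj_surjective (β (proj _ F s))
  rw [MulAut.one_apply, ← hs']
  set d := s⁻¹ * s' with hd
  have hpar : ∀ v : Vec, v ≠ 0 → Par v ((d : Matrix (Fin (m + 2)) (Fin (m + 2)) F) *ᵥ v) := by
    intro v hv
    have e : cgrp ((s' : Matrix (Fin (m + 2)) (Fin (m + 2)) F) *ᵥ v) = cgrp ((s : Matrix (Fin (m + 2)) (Fin (m + 2)) F) *ᵥ v) := by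
      rw [← map_conj_cgrp, hs', ← hall v hv, ← map_mul_aut, ← mul_aut_conj, map_mul_aut, map_conj_cgrp,
        hall _ (sl_mulVec_ne hv)]
    obtain ⟨k, hk, hkv⟩ := (cgrp_le_iff (sl_mulVec_ne hv)).mp e.ge
    refine ⟨k, hk, ?_⟩
    rw [hd, Matrix.SpecialLinearGroup.coe_mul, ← Matrix.mulVec_mulVec, hkv, Matrix.mulVec_smul, Matrix.mulVec_mulVec,
      sl_inv_mul, Matrix.one_mulVec]
  obtain ⟨c, hc'⟩ := exists_scalar_of_par (d : Matrix (Fin (m + 2)) (Fin (m + 2)) F) fun v hv => by
    obtain ⟨k, -, hk⟩ := hpar v hv; exact ⟨k, hk⟩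
  have h5 : proj _ F d = 1 := proj_eq_one_of_forall hc'
  rw [hd, map_mul, map_inv, inv_mul_eq_one] at h5
  exact h5.symm
where
  exists_scalar_of_par (D : Matrix (Fin (m + 2)) (Fin (m + 2)) F) (h : ∀ v : Fin (m + 2) → F, v ≠ 0 → ∃ k : F, D *ᵥ v = k • v) :
      ∃ c : F, D = c • 1 := by
    choose k hk using fun i => h (Pi.single i 1) (by simp)
    have hcol : ∀ i a, D a i = if a = i then k i else 0 := by
      intro i a
      have := congrFun (hk i) a
      rw [Matrix.mulVec_single_one] at this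
      simpa [Pi.single_apply] using this
    refine ⟨k 0, Matrix.ext fun a b => ?_⟩
    rw [hcol b a]
    by_cases hab : a = b
    · subst hab
      rw [if_pos rfl, Matrix.smul_apply, Matrix.one_apply_eq, smul_eq_mul, mul_one]
      by_cases ha : a = 0
      · rw [ha]
      obtain ⟨c, hc⟩ := h (Pi.single a 1 + Pi.single 0 1) (fun h0 => by
        simpa [ha] using congrFun h0 a)
      rw [Matrix.mulVec_add, hk, hk] at hc
      have h1 := congrFun hc a
      have h2 := congrFun hc 0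
      simp [ha, Ne.symm ha] at h1 h2
      rw [h1, h2]
    · simp [hab]

/-- An automorphism mapping centre groups to centre groups is semilinear. -/
theorem exists_semi_of_centrePres [Finite F] {α : MulAut PG} (hα : CentrePres α) :
    ∃ g σ, α = semi g σ := by
  obtain ⟨g₁, hc, ha⟩ := normalise hα
  set β := (semi g₁ (RingEquiv.refl F))⁻¹ * α
  obtain ⟨g₂, σ, hc2, ha2, hT⟩ := exists_semi_T0 hc
  set γ := (semi g₂ σ)⁻¹ * β
  have hβc : CentrePres β := centrePres_mul (by rw [semi_inv]; exact centrePres_semi _ _) hα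
  have hγ : γ = 1 := by
    refine rigid (centrePres_mul (by rw [semi_inv]; exact centrePres_semi _ _) hβc) ?_ ?_ ?_
    · rw [map_mul_aut, hc]; exact map_inv_aut hc2
    · rw [map_mul_aut, ha]; exact map_inv_aut ha2
    · intro z
      rw [MulAut.mul_apply, ← hT z, ← MulAut.mul_apply, inv_mul_cancel, MulAut.one_apply]
  refine ⟨g₁ * Matrix.GeneralLinearGroup.map (RingEquiv.refl F : F →+* F) g₂, σ.trans (RingEquiv.refl F), ?_⟩
  rw [← semi_mul, inv_mul_eq_one.mp hγ]
  exact (mul_inv_cancel_left _ _).symm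

/-- Every automorphism of `PSL_n(F)` is semilinear, possibly composed with inverse transpose. -/
theorem exists_semi_or [Finite F] (α : MulAut PG) :
    (∃ g σ, α = semi g σ) ∨ (∃ g σ, α = semi g σ * invT) := by
  rcases map_cgrp_or α (eFirst_ne (F := F) (m := m)) with ⟨v', hv', he⟩ | ⟨w, hw, he⟩
  · exact Or.inl (exists_semi_of_centrePres (centrePres_of_one eFirst_ne hv' he))
  · right
    have h : CentrePres (invT * α) := centrePres_of_one eFirst_ne hw (by rw [map_mul_aut, he, map_invT_agrp])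
    obtain ⟨g, σ, hgs⟩ := exists_semi_of_centrePres h
    refine ⟨ctr g, σ, ?_⟩
    rw [← invT_semi, ← hgs, ← mul_assoc, invT_sq, one_mul]

end Cfsg.Agent.AutPSL
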