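import Cfsg.Agent.Lib.AutPSL.Geometry
import Cfsg.Agent.Lib.GLOrder.Basic

/-!
# Transvection classes are invariant under all automorphisms of PSL_n
* `upperUS` : the upper unitriangular subgroup of SL, of order q^(n(n-1)/2)
* `isT_iff` : a class is a transvection class iff it is a nontrivial element central in a Sylow p-subgroup
* `isT_map`, `map_cgrp_or` : automorphisms permute transvection classes; a centre group goes to a centre or axis group
-/

set_option autoImplicit false

open Matrix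
open scoped MatrixGroups

namespace Cfsg.Agent.AutPSL

variable {F : Type*} [Field F] {m : ℕ}

/-- The upper unitriangular subgroup of `SL`. -/
def upperUSub (F : Type*) [Field F] (k : ℕ) : Submonoid (Matrix.SpecialLinearGroup (Fin k) F) where
  carrier := {s | (s : Matrix (Fin k) (Fin k) F).BlockTriangular id ∧ ∀ i, (s : Matrix (Fin k) (Fin k) F) i i = 1}
  one_mem' := ⟨by rw [Matrix.SpecialLinearGroup.coe_one]; exact Matrix.blockTriangular_one, fun i => by simp⟩
  mul_mem' := by
    rintro s t ⟨hs, hs1⟩ ⟨ht, ht1⟩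
    refine ⟨by rw [Matrix.SpecialLinearGroup.coe_mul]; exact hs.mul ht, fun i => ?_⟩
    rw [Matrix.SpecialLinearGroup.coe_mul, Matrix.mul_apply, Finset.sum_eq_single i]
    · rw [hs1, ht1, mul_one]
    · intro j _ hj
      rcases lt_or_gt_of_ne hj with h | h
      · rw [hs h, zero_mul]
      · rw [ht h, mul_zero]
    · simp

/-- The upper unitriangular subgroup of `SL` over a finite field. -/
def upperUS (F : Type*) [Field F] [Finite F] (k : ℕ) : Subgroup (Matrix.SpecialLinearGroup (Fin k) F) :=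
  { upperUSub F k with
    inv_mem' := by
      intro s hs
      obtain ⟨a, ha⟩ : ∃ a : ℕ, orderOf s = a + 1 := ⟨orderOf s - 1, by have := orderOf_pos s; omega⟩
      have : s⁻¹ = s ^ a := inv_eq_of_mul_eq_one_right (by rw [← pow_succ', ← ha, pow_orderOf_eq_one])
      rw [this]
      exact pow_mem (show s ∈ upperUSub F k from hs) a }

theorem mem_upperUS [Finite F] {k : ℕ} {s : Matrix.SpecialLinearGroup (Fin k) F} :
    s ∈ upperUS F k ↔ (s : Matrix (Fin k) (Fin k) F).BlockTriangular id ∧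
      ∀ i, (s : Matrix (Fin k) (Fin k) F) i i = 1 := Iff.rfl

theorem sum_fin_val (k : ℕ) : ∑ j : Fin k, (j : ℕ) = k * (k - 1) / 2 := by
  rw [Fin.sum_univ_eq_sum_range (fun j => j), Finset.sum_range_id]

theorem card_upperUS [Finite F] (k : ℕ) : Nat.card (upperUS F k) = Nat.card F ^ (k * (k - 1) / 2) := by
  classical
  let E := {p : Fin k × Fin k // p.1 < p.2}
  let f : upperUS F k → (E → F) := fun s p => ((s : Matrix.SpecialLinearGroup (Fin k) F) : Matrix (Fin k) (Fin k) F) p.1.1 p.1.2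
  have hinj : Function.Injective f := by
    intro s t h
    apply Subtype.ext; apply Subtype.ext
    ext i j
    rcases lt_trichotomy i j with h' | h' | h'
    · exact congrFun h ⟨(i, j), h'⟩
    · subst h'; rw [(mem_upperUS.mp s.2).2, (mem_upperUS.mp t.2).2]
    · rw [(mem_upperUS.mp s.2).1 h', (mem_upperUS.mp t.2).1 h']
  have hsurj : Function.Surjective f := by
    intro a
    let M : Matrix (Fin k) (Fin k) F := Matrix.of fun i j => if i = j then 1 else if h : i < j then a ⟨(i, j), h⟩ else 0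
    have hM : M.BlockTriangular id := fun i j h => by
      simp only [id] at h
      simp [M, (ne_of_lt h).symm, not_lt_of_gt h]
    have hdet : M.det = 1 := by rw [Matrix.det_of_upperTriangular hM]; simp [M]
    refine ⟨⟨⟨M, hdet⟩, ?_⟩, ?_⟩
    · exact mem_upperUS.mpr ⟨hM, fun i => by simp [M]⟩
    · funext p
      simp [f, M, p.2, (ne_of_lt p.2)]
  rw [Nat.card_congr (Equiv.ofBijective f ⟨hinj, hsurj⟩), Nat.card_fun]
  congr 1
  let e : E ≃ Σ j : Fin k, {i : Fin k // i < j} :=
    { toFun := fun p => ⟨p.1.2, p.1.1, p.2⟩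
      invFun := fun p => ⟨(p.2.1, p.1), p.2.2⟩
      left_inv := fun _ => rfl
      right_inv := fun _ => rfl }
  rw [Nat.card_congr e, Nat.card_sigma, ← sum_fin_val k]
  refine Finset.sum_congr rfl fun j _ => ?_
  rw [Nat.card_eq_fintype_card, Fintype.card_subtype, ← Fin.card_Iio j]
  congr 1
  ext i; simp

/-- The first and last standard vectors. -/
def eFirst (F : Type*) [Field F] (m : ℕ) : Fin (m + 2) → F := Pi.single 0 1

/-- The last standard vector. -/
def eLast (F : Type*) [Field F] (m : ℕ) : Fin (m + 2) → F := Pi.single (Fin.last (m + 1)) 1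

theorem eLast_dot_eFirst : eLast F m ⬝ᵥ eFirst F m = 0 := by
  rw [eFirst, eLast, dotProduct_single, mul_one, Pi.single_eq_of_ne Fin.last_pos.ne]

theorem eFirst_ne : eFirst F m ≠ 0 := by simp [eFirst]

theorem eLast_ne : eLast F m ≠ 0 := by simp [eLast]

theorem tS_single_mem [Finite F] {i j : Fin (m + 2)} (h : i < j) (c : F) :
    tS (Pi.single i 1) (Pi.single j c) ∈ upperUS F (m + 2) := by
  have h0 : (Pi.single j c : Fin (m + 2) → F) ⬝ᵥ Pi.single i 1 = 0 := by simp [h.ne]
  rw [mem_upperUS, tS_coe h0]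
  refine ⟨fun a b hab => ?_, fun a => ?_⟩
  · simp only [id] at hab
    rw [Matrix.add_apply, Matrix.one_apply_ne hab.ne', vecMulVec_apply, zero_add]
    by_cases ha : a = i
    · subst ha
      rw [Pi.single_eq_of_ne (hab.trans h).ne, mul_zero]
    · rw [Pi.single_eq_of_ne ha, zero_mul]
  · rw [Matrix.add_apply, Matrix.one_apply_eq, vecMulVec_apply]
    by_cases ha : a = i
    · subst ha
      rw [Pi.single_eq_of_ne h.ne, mul_zero, add_zero]
    · rw [Pi.single_eq_of_ne ha, zero_mul, add_zero]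

/-- The class of the upper unitriangular group in `PSL`. -/
def upperUP (F : Type*) [Field F] [Finite F] (m : ℕ) : Subgroup (ProjectiveSpecialLinearGroup (Fin (m + 2)) F) :=
  (upperUS F (m + 2)).map (proj _ F)

theorem card_upperUP [Finite F] : Nat.card (upperUP F m) = Nat.card (upperUS F (m + 2)) := by
  symm
  refine Nat.card_congr (Equiv.ofBijective
    (fun s : upperUS F (m + 2) => (⟨proj _ F s, s, s.2, rfl⟩ : upperUP F m)) ⟨fun a b hab => ?_, ?_⟩)
  · obtain ⟨c, -, hc⟩ := proj_eq_iff.mp (congrArg Subtype.val hab)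
    have h0 := congrFun (congrFun hc 0) 0
    rw [Matrix.smul_apply, (mem_upperUS.mp a.2).2, (mem_upperUS.mp b.2).2, smul_eq_mul, mul_one] at h0
    rw [← h0, one_smul] at hc
    exact Subtype.ext (Subtype.ext hc.symm)
  · rintro ⟨_, s, hs, rfl⟩; exact ⟨⟨s, hs⟩, rfl⟩

theorem isPGroup_upperUP [Finite F] (p : ℕ) [Fact p.Prime] [CharP F p] : IsPGroup p (upperUP F m) := by
  obtain ⟨f, -, hf⟩ := GLOrder.exists_card_eq_pow (F := F) p
  exact IsPGroup.of_card (n := f * ((m + 2) * (m + 2 - 1) / 2)) (by rw [card_upperUP, card_upperUS, hf, ← pow_mul])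

theorem exists_sylow_upperUP [Finite F] (p : ℕ) [Fact p.Prime] [CharP F p] :
    ∃ P : Sylow p (ProjectiveSpecialLinearGroup (Fin (m + 2)) F), P.toSubgroup = upperUP F m := by
  obtain ⟨f, -, hf⟩ := GLOrder.exists_card_eq_pow (F := F) p
  have hpg : IsPGroup p (upperUS F (m + 2)) :=
    IsPGroup.of_card (n := f * ((m + 2) * (m + 2 - 1) / 2)) (by rw [card_upperUS, hf, ← pow_mul])
  obtain ⟨Q, hQ⟩ := hpg.exists_le_sylow
  have hQeq : upperUS F (m + 2) = Q.toSubgroup :=
    Subgroup.eq_of_le_of_card_ge hQ (by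
      rw [GLOrder.card_sylow_SL p (m + 2) Q, card_upperUS])
  refine ⟨Q.mapSurjective proj_surjective, ?_⟩
  rw [Sylow.coe_mapSurjective, ← hQeq]
  rfl

/-- The root group is centralised by the upper unitriangular group. -/
theorem T_root_central [Finite F] (c : F) :
    ∀ y ∈ upperUP F m, y * T (eFirst F m) (c • eLast F m) = T (eFirst F m) (c • eLast F m) * y := by
  rintro _ ⟨s, hs, rfl⟩
  rw [T, ← map_mul, ← map_mul]
  congr 1
  apply Subtype.ext
  have h0 : (c • eLast F m) ⬝ᵥ eFirst F m = 0 := by rw [smul_dotProduct, eLast_dot_eFirst, smul_zero]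
  rw [Matrix.SpecialLinearGroup.coe_mul, Matrix.SpecialLinearGroup.coe_mul, tS_coe h0, mul_add, mul_one, add_mul,
    one_mul, Matrix.mul_vecMulVec, Matrix.vecMulVec_mul]
  obtain ⟨hbt, hdiag⟩ := mem_upperUS.mp hs
  have h1 : (s : Matrix (Fin (m + 2)) (Fin (m + 2)) F) *ᵥ eFirst F m = eFirst F m := by
    rw [eFirst, Matrix.mulVec_single_one]
    ext i
    by_cases hi : i = 0
    · subst hi; simp [hdiag]
    · rw [Pi.single_eq_of_ne hi]
      exact hbt (Fin.pos_iff_ne_zero.mpr hi)
  have h2 : (c • eLast F m) ᵥ* (s : Matrix (Fin (m + 2)) (Fin (m + 2)) F) = c • eLast F m := by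
    rw [eLast, Matrix.smul_vecMul, Matrix.single_one_vecMul]
    congr 1
    ext j
    by_cases hj : j = Fin.last (m + 1)
    · subst hj; simp [hdiag]
    · rw [Pi.single_eq_of_ne hj]
      exact hbt (Fin.lt_last_iff_ne_last.mpr hj)
  rw [h1, h2]

/-- The centraliser of the upper unitriangular group is the root group. -/
theorem eq_root_of_central [Finite F] {x : ProjectiveSpecialLinearGroup (Fin (m + 2)) F}
    (hx : ∀ y ∈ upperUP F m, y * x = x * y) : ∃ c : F, x = T (eFirst F m) (c • eLast F m) := by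
  obtain ⟨s, rfl⟩ := proj_surjective x
  set M := (s : Matrix (Fin (m + 2)) (Fin (m + 2)) F) with hM
  have key : ∀ i j : Fin (m + 2), i < j → ∀ a b,
      M a i * (Pi.single j 1 : Fin (m + 2) → F) b = (Pi.single i 1 : Fin (m + 2) → F) a * M j b := by
    intro i j hij a b
    have h0 : (Pi.single j 1 : Fin (m + 2) → F) ⬝ᵥ Pi.single i 1 = 0 := by simp [hij.ne]
    have hmem : proj _ F (tS (Pi.single i 1) (Pi.single j 1)) ∈ upperUP F m := ⟨_, tS_single_mem hij 1, rfl⟩
    have hcomm := hx _ hmem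
    rw [← map_mul, ← map_mul, proj_eq_iff] at hcomm
    obtain ⟨c, -, hc⟩ := hcomm
    rw [Matrix.SpecialLinearGroup.coe_mul, Matrix.SpecialLinearGroup.coe_mul, tS_coe h0] at hc
    have hh : (tS (Pi.single i (1 : F)) (Pi.single j 1) : Matrix (Fin (m + 2)) (Fin (m + 2)) F) =
        1 + vecMulVec (Pi.single i 1) (Pi.single j 1) := tS_coe h0
    -- conjugate: the conjugate transvection is a scalar multiple of the transvection
    have hc' : (1 : Matrix (Fin (m + 2)) (Fin (m + 2)) F) +
        vecMulVec (M *ᵥ Pi.single i 1) ((Pi.single j 1 : Fin (m + 2) → F) ᵥ* ((s⁻¹ : Matrix.SpecialLinearGroup (Fin (m + 2)) F) : Matrix (Fin (m + 2)) (Fin (m + 2)) F)) =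
        c • (1 + vecMulVec (Pi.single i 1) (Pi.single j 1)) := by
      have e := congrArg (fun X => X * ((s⁻¹ : Matrix.SpecialLinearGroup (Fin (m + 2)) F) : Matrix (Fin (m + 2)) (Fin (m + 2)) F)) hc
      simp only [Matrix.smul_mul] at e
      rw [← hM, Matrix.mul_assoc (1 + vecMulVec (Pi.single i (1 : F)) (Pi.single j 1)) M] at e
      have hinv : M * ((s⁻¹ : Matrix.SpecialLinearGroup (Fin (m + 2)) F) : Matrix (Fin (m + 2)) (Fin (m + 2)) F) = 1 := by
        rw [hM, ← Matrix.SpecialLinearGroup.coe_mul, mul_inv_cancel, Matrix.SpecialLinearGroup.coe_one]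
      rw [hinv, mul_one, mul_add, mul_one, add_mul, hinv, Matrix.mul_vecMulVec, Matrix.vecMulVec_mul] at e
      exact e
    have hw' : ((Pi.single j 1 : Fin (m + 2) → F) ᵥ* ((s⁻¹ : Matrix.SpecialLinearGroup (Fin (m + 2)) F) : Matrix (Fin (m + 2)) (Fin (m + 2)) F)) ⬝ᵥ (M *ᵥ Pi.single i 1) = 0 := by
      rw [← Matrix.dotProduct_mulVec, Matrix.mulVec_mulVec, hM, ← Matrix.SpecialLinearGroup.coe_mul, inv_mul_cancel,
        Matrix.SpecialLinearGroup.coe_one, Matrix.one_mulVec, h0]
    have hc1 : c = 1 := scalar_eq_one (by simp) h0 hw' hc'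
    subst hc1
    rw [one_smul, ← hM, mul_add, mul_one, add_mul, one_mul, add_right_inj, Matrix.mul_vecMulVec,
      Matrix.vecMulVec_mul] at hc
    have := congrFun (congrFun hc a) b
    rw [vecMulVec_apply, vecMulVec_apply, Matrix.mulVec_single_one, Matrix.single_one_vecMul] at this
    exact this
  have hdiag : ∀ i j : Fin (m + 2), i < j → M i i = M j j := by
    intro i j hij
    simpa using key i j hij i j
  have hcol : ∀ a i : Fin (m + 2), a ≠ i → i ≠ Fin.last (m + 1) → M a i = 0 := by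
    intro a i hai hi
    have := key i (Fin.last (m + 1)) (Fin.lt_last_iff_ne_last.mpr hi) a (Fin.last (m + 1))
    simpa [hai] using this
  have hrow : ∀ j b : Fin (m + 2), j ≠ b → j ≠ 0 → M j b = 0 := by
    intro j b hjb hj
    have := key 0 j (Fin.pos_iff_ne_zero.mpr hj) 0 b
    simpa [hjb.symm] using this.symm
  set a := M 0 0
  have hall : ∀ i, M i i = a := by
    intro i
    by_cases hi : i = 0
    · rw [hi]
    · exact (hdiag 0 i (Fin.pos_iff_ne_zero.mpr hi)).symm
  have hform : M = a • 1 + (M 0 (Fin.last (m + 1))) • vecMulVec (eFirst F m) (eLast F m) := by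
    ext i j
    simp only [Matrix.add_apply, Matrix.smul_apply, vecMulVec_apply, eFirst, eLast, smul_eq_mul]
    by_cases hij : i = j
    · subst hij
      rw [hall, Matrix.one_apply_eq, mul_one]
      by_cases hi : i = 0
      · subst hi; rw [Pi.single_eq_of_ne Fin.last_pos.ne (i := Fin.last (m + 1)), mul_zero, mul_zero, add_zero]
      · rw [Pi.single_eq_of_ne hi, zero_mul, mul_zero, add_zero]
    · rw [Matrix.one_apply_ne hij, mul_zero, zero_add]
      by_cases hi : i = 0
      · subst hi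
        by_cases hj : j = Fin.last (m + 1)
        · subst hj; simp
        · rw [hcol 0 j hij hj, Pi.single_eq_of_ne hj, mul_zero, mul_zero]
      · rw [hrow i j hij hi, Pi.single_eq_of_ne hi, zero_mul, mul_zero]
  have hbt : M.BlockTriangular id := fun i j h => by
    simp only [id] at h
    exact hrow i j h.ne' (Fin.pos_iff_ne_zero.mp ((Fin.zero_le j).trans_lt h))
  have hdet : a ^ (m + 2) = 1 := by
    have := s.2
    rw [← hM, Matrix.det_of_upperTriangular hbt] at this
    simpa [hall] using this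
  have ha : a ≠ 0 := fun h => by simp [h] at hdet
  refine ⟨a⁻¹ * M 0 (Fin.last (m + 1)), ?_⟩
  rw [T, proj_eq_iff]
  refine ⟨a⁻¹, by rw [Fintype.card_fin, inv_pow, hdet, inv_one], ?_⟩
  rw [tS_coe (by rw [smul_dotProduct, eLast_dot_eFirst, smul_zero]), ← hM]
  conv_rhs => rw [hform]
  rw [smul_add, smul_smul, inv_mul_cancel₀ ha, one_smul, smul_smul]
  ext i j
  simp [vecMulVec_apply]

theorem isT_iff [Finite F] (p : ℕ) [Fact p.Prime] [CharP F p]
    (x : ProjectiveSpecialLinearGroup (Fin (m + 2)) F) :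
    IsT x ↔ x ≠ 1 ∧ ∃ Q : Subgroup (ProjectiveSpecialLinearGroup (Fin (m + 2)) F),
      IsPGroup p Q ∧ Nat.card Q = Nat.card (upperUP F m) ∧ x ∈ Q ∧ ∀ y ∈ Q, y * x = x * y := by
  constructor
  · rintro ⟨v, w, hv, hw, hwv, rfl⟩
    refine ⟨T_ne_one hv hw hwv, ?_⟩
    obtain ⟨g, hg1, hg2⟩ := exists_gl_pair hv hw hwv (a := (0 : Fin (m + 2))) (b := Fin.last (m + 1)) Fin.last_pos.ne
    have hT : semi g (RingEquiv.refl F) (T (eFirst F m) (eLast F m)) = T v w := by
      rw [(semi_T g _ eLast_dot_eFirst).1]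
      show T ((g : Matrix _ _ F) *ᵥ eFirst F m) (eLast F m ᵥ* ((g⁻¹ : GL _ F) : Matrix _ _ F)) = T v w
      rw [eFirst, hg1, eLast, ← hg2, Matrix.vecMul_vecMul, Units.mul_inv, Matrix.vecMul_one]
    have hmemU : T (eFirst F m) (eLast F m) ∈ upperUP F m :=
      ⟨_, tS_single_mem Fin.last_pos 1, rfl⟩
    refine ⟨(upperUP F m).map (semi g (RingEquiv.refl F)).toMonoidHom, (isPGroup_upperUP p).map _,
      Subgroup.card_map_of_injective (semi g (RingEquiv.refl F)).injective, ⟨_, hmemU, hT⟩, ?_⟩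
    rintro _ ⟨y, hy, rfl⟩
    rw [← hT, MulEquiv.coe_toMonoidHom, ← map_mul, ← map_mul]
    have := T_root_central (1 : F) y hy
    rw [one_smul] at this
    rw [this]
  · rintro ⟨hx, Q, hQ, hcard, hxQ, hc⟩
    obtain ⟨P, hP⟩ := exists_sylow_upperUP (F := F) (m := m) p
    obtain ⟨R, hR⟩ := hQ.exists_le_sylow
    have hRQ : Q = R.toSubgroup := Subgroup.eq_of_le_of_card_ge hR (by
      rw [hcard, ← hP, P.card_eq_multiplicity, R.card_eq_multiplicity])
    obtain ⟨g, hg⟩ := MulAction.exists_smul_eq (ProjectiveSpecialLinearGroup (Fin (m + 2)) F) R P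
    have hy : ∀ y ∈ upperUP F m, y * (g * x * g⁻¹) = g * x * g⁻¹ * y := by
      intro y hy
      rw [← hP, ← hg] at hy
      obtain ⟨z, hz, rfl⟩ := hy
      rw [← hRQ] at hz
      show g * z * g⁻¹ * (g * x * g⁻¹) = g * x * g⁻¹ * (g * z * g⁻¹)
      rw [show g * z * g⁻¹ * (g * x * g⁻¹) = g * (z * x) * g⁻¹ by group, hc z hz]
      group
    obtain ⟨c, hcx⟩ := eq_root_of_central hy
    obtain ⟨s, rfl⟩ := proj_surjective g
    have h0 : (c • eLast F m) ⬝ᵥ eFirst F m = 0 := by rw [smul_dotProduct, eLast_dot_eFirst, smul_zero]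
    have hc' : (proj _ F s)⁻¹ * T (eFirst F m) (c • eLast F m) * proj _ F s = x := by
      rw [← hcx]; group
    rw [← map_inv] at hc'
    have hconj := conj_T s⁻¹ h0
    rw [map_inv, inv_inv] at hconj
    rw [map_inv] at hc'
    rw [← hc', hconj] at hx ⊢
    refine isT_of_ne ?_ hx
    rw [← Matrix.dotProduct_mulVec, Matrix.mulVec_mulVec, ← Matrix.SpecialLinearGroup.coe_mul,
      inv_inv, mul_inv_cancel, Matrix.SpecialLinearGroup.coe_one, Matrix.one_mulVec, h0]

/-- Automorphisms permute the transvection classes. -/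
theorem isT_map [Finite F] (α : MulAut (ProjectiveSpecialLinearGroup (Fin (m + 2)) F))
    {x : ProjectiveSpecialLinearGroup (Fin (m + 2)) F} (hx : IsT x) : IsT (α x) := by
  obtain ⟨p, hchar⟩ := CharP.exists F
  haveI := hchar
  haveI : Fact p.Prime := ⟨CharP.char_is_prime F p⟩
  obtain ⟨hx1, Q, hQ, hcard, hxQ, hc⟩ := (isT_iff p x).mp hx
  refine (isT_iff p _).mpr ⟨fun h => hx1 (α.injective (h.trans (map_one α).symm)), Q.map α.toMonoidHom, hQ.map _,
    (Subgroup.card_map_of_injective α.injective).trans hcard, ⟨x, hxQ, rfl⟩, ?_⟩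
  rintro _ ⟨y, hy, rfl⟩
  simp only [MulEquiv.coe_toMonoidHom, ← map_mul, hc y hy]

/-- The image of a centre group is a centre or an axis group. -/
theorem map_cgrp_or [Finite F] (α : MulAut (ProjectiveSpecialLinearGroup (Fin (m + 2)) F))
    {v : Fin (m + 2) → F} (hv : v ≠ 0) :
    (∃ v', v' ≠ 0 ∧ (cgrp v).map α.toMonoidHom = cgrp v') ∨ (∃ w, w ≠ 0 ∧ (cgrp v).map α.toMonoidHom = agrp w) := by
  set M := (cgrp v).map α.toMonoidHom
  have hcardM : Nat.card M = Nat.card (cgrp v) := Subgroup.card_map_of_injective α.injective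
  have hM : M ≠ ⊥ := by
    intro h
    exact cgrp_ne_bot hv ((Subgroup.map_eq_bot_iff_of_injective _ α.injective).mp h)
  have hq : Nat.card F ≠ 0 := Nat.card_pos.ne'
  rcases subgroup_le_cgrp_or_agrp M hM (by
      rintro _ ⟨a, ha, rfl⟩ _ ⟨b, hb, rfl⟩
      simp only [MulEquiv.coe_toMonoidHom, ← map_mul, cgrp_comm v a ha b hb])
    (by
      rintro _ ⟨a, ha, rfl⟩ hne
      exact isT_map α (cgrp_isT a ha fun h => hne (by rw [h, map_one]))) with ⟨v', hv', hle⟩ | ⟨w, hw, hle⟩
  · refine Or.inl ⟨v', hv', Subgroup.eq_of_le_of_card_ge hle ?_⟩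
    rw [hcardM]
    exact (mul_right_cancel₀ hq ((card_cgrp hv').trans (card_cgrp hv).symm)).le
  · refine Or.inr ⟨w, hw, Subgroup.eq_of_le_of_card_ge hle ?_⟩
    rw [hcardM]
    exact (mul_right_cancel₀ hq ((card_agrp hw).trans (card_cgrp hv).symm)).le

end Cfsg.Agent.AutPSL
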