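import Cfsg.Agent.Lib.AutPSL.Count
import Cfsg.Agent.Lib.FieldAut.Tools
import Cfsg.Agent.Lib.FieldAut.Unitary

/-!
# Field and graph-field automorphisms of `PSL` of prime order

* `cj : GL →* MulAut PSL`, `cj_eq_iff`, `inndiag_eq`, `cj_mem_inn_iff`
* `field_reduce`, `gf_reduce` : every such automorphism is an inner-diagonal conjugate of a standard one
* `field_coset`, `gf_coset` : Lang descent in the coset
* `field_data`, `gf_data` : centralisers and splitting of the classes
-/

set_option autoImplicit false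
set_option linter.unusedSectionVars false
set_option linter.style.haveILetI false

open scoped MatrixGroups Matrix

namespace Cfsg.Agent.AutPSL

open Cfsg.Agent.FieldAut (galGL scal twNorm mapGL fixedUnits)

section Abstract

variable {A B X : Type*} [Group A] [Group B] [Group X]

/-- The number of classes into which a class splits, through an invariant of `A`. -/
theorem split_eq_index (f : A →* X) (K : Subgroup X) [K.Normal] (φ : X) (χ : A →* B)
    (hχ : Function.Surjective χ) (hK : K ≤ f.range) (hker : ∀ a, χ a = 1 ↔ f a ∈ K) :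
    Cfsg.splitClassCount f.range K φ = (((Subgroup.centralizer {φ}).comap f).map χ).index := by
  rw [FieldAut.splitClassCount_eq_index _ _ hK]
  set C := (Subgroup.centralizer {φ}).comap f
  set M := K ⊔ f.range ⊓ Subgroup.centralizer {φ}
  have h1 : (M.comap f).index = (M.subgroupOf f.range).index := Subgroup.index_comap _ _
  have h2 : M.comap f = C ⊔ χ.ker := by
    apply le_antisymm
    · intro g hg
      obtain ⟨u, hu, c, hc, huc⟩ := Subgroup.mem_sup_of_normal_left.1 (Subgroup.mem_comap.1 hg)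
      obtain ⟨⟨gc, rfl⟩, hcc⟩ := hc
      rw [show g = g * gc⁻¹ * gc by group, sup_comm]
      refine mul_mem (Subgroup.mem_sup_left ?_) (Subgroup.mem_sup_right (Subgroup.mem_comap.2 hcc))
      rw [MonoidHom.mem_ker, hker, map_mul, map_inv, ← huc]
      rwa [mul_inv_cancel_right]
    · refine sup_le (fun g hg => ?_) fun g hg => ?_
      · exact Subgroup.mem_comap.2 (Subgroup.mem_sup_right ⟨⟨g, rfl⟩, hg⟩)
      · exact Subgroup.mem_comap.2 (Subgroup.mem_sup_left ((hker g).1 hg))
  rw [← h1, h2, ← Subgroup.comap_map_eq, Subgroup.index_comap_of_surjective _ hχ]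

/-- A group mapping onto the centraliser. -/
theorem centralizer_equiv (f : A →* X) (φ : X) (j : B →* X) (hj : ∀ b, j b ∈ f.range ∧ Commute (j b) φ)
    (hsurj : ∀ a, Commute (f a) φ → ∃ b, j b = f a) :
    Nonempty (↥(f.range ⊓ Subgroup.centralizer {φ}) ≃* B ⧸ j.ker) := by
  have hr : j.range = f.range ⊓ Subgroup.centralizer {φ} := by
    apply le_antisymm
    · rintro _ ⟨b, rfl⟩
      exact ⟨(hj b).1, Subgroup.mem_centralizer_singleton_iff.2 (hj b).2.eq⟩
    · rintro x ⟨⟨a, rfl⟩, hx⟩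
      exact hsurj a (Subgroup.mem_centralizer_singleton_iff.1 hx)
  exact ⟨((QuotientGroup.quotientKerEquivRange j).trans (MulEquiv.subgroupCongr hr)).symm⟩

theorem conj_mem_normalizer {H : Subgroup X} {a : X} (ha : a ∈ H) :
    a ∈ Subgroup.normalizer (H : Set X) := Subgroup.le_normalizer ha

end Abstract

variable {F : Type*} [Field F] {m : ℕ}

local notation "PG" => Matrix.ProjectiveSpecialLinearGroup (Fin (m + 2)) F
local notation "G2" => GL (Fin (m + 2)) F

/-- Conjugation by an invertible matrix, on `PSL`. -/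
noncomputable def cj : G2 →* MulAut PG where
  toFun g := semi g (RingEquiv.refl F)
  map_one' := semi_one
  map_mul' g h := (semi_refl_mul g h).symm

theorem cj_apply (g : G2) : cj g = semi g (RingEquiv.refl F) := rfl

theorem scal_eq_scalar (a : Fˣ) : (scal a : G2) = Matrix.GeneralLinearGroup.scalar (Fin (m + 2)) a :=
  rfl

theorem cj_scal (a : Fˣ) : cj (scal a : G2) = 1 := by rw [scal_eq_scalar]; exact semi_scalar a

theorem cj_eq_one_iff (g : G2) : cj g = 1 ↔ ∃ a : Fˣ, g = scal a := by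
  rw [cj_apply, semi_eq_one_iff, and_iff_right rfl, Matrix.GeneralLinearGroup.center_eq_range_scalar]
  exact ⟨fun ⟨a, ha⟩ => ⟨a, ha.symm⟩, fun ⟨a, ha⟩ => ⟨a, ha.symm⟩⟩

theorem cj_eq_iff (g h : G2) : cj g = cj h ↔ ∃ a : Fˣ, g = scal a * h := by
  rw [← mul_inv_eq_one, ← map_inv, ← map_mul, cj_eq_one_iff]
  exact exists_congr fun a => mul_inv_eq_iff_eq_mul

theorem isInnerDiag_iff (β : MulAut PG) : Cfsg.IsInnerDiagonalAutPSL β ↔ ∃ g : G2, β = cj g := by
  have e : ∀ g : G2, (Cfsg.IsInducedBySemilinearPSL g (RingEquiv.refl F) β) ↔ β = cj g :=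
    fun g => isInduced_iff g _ β
  simp only [Cfsg.IsInducedBySemilinearPSL, RingEquiv.coe_refl, Matrix.map_id] at e
  exact exists_congr e

theorem inndiag_eq : Cfsg.inndiagPSL (m + 2) F = (cj : G2 →* MulAut PG).range := by
  apply le_antisymm
  · refine (Subgroup.closure_le _).2 fun β hβ => ?_
    obtain ⟨g, rfl⟩ := (isInnerDiag_iff β).1 hβ
    exact ⟨g, rfl⟩
  · rintro _ ⟨g, rfl⟩
    exact Subgroup.subset_closure ((isInnerDiag_iff _).2 ⟨g, rfl⟩)

theorem cj_toGL (s : Matrix.SpecialLinearGroup (Fin (m + 2)) F) :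
    cj (Matrix.SpecialLinearGroup.toGL s) = MulAut.conj (proj (Fin (m + 2)) F s) := by
  refine MulEquiv.ext fun x => ?_
  obtain ⟨t, rfl⟩ := proj_surjective x
  rw [MulAut.conj_apply, ← map_inv, ← map_mul, ← map_mul]
  refine semi_proj_eq _ _ ?_
  rw [RingEquiv.coe_refl, Matrix.map_id]
  rfl

theorem inn_le_range' : Cfsg.Inn PG ≤ (cj : G2 →* MulAut PG).range := by
  rintro _ ⟨x, rfl⟩
  obtain ⟨s, rfl⟩ := proj_surjective x
  exact ⟨_, cj_toGL s⟩

/-- The determinant modulo `(m+2)`-th powers. -/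
noncomputable def detMod : G2 →* Fˣ ⧸ (powMonoidHom (m + 2) : Fˣ →* Fˣ).range :=
  (QuotientGroup.mk' _).comp Matrix.GeneralLinearGroup.det

theorem det_scal (a : Fˣ) : Matrix.GeneralLinearGroup.det (scal a : G2) = a ^ (m + 2) := by
  refine Units.ext ?_
  rw [Matrix.GeneralLinearGroup.val_det_apply, FieldAut.scal_coe, Matrix.det_smul, Matrix.det_one,
    mul_one, Fintype.card_fin, Units.val_pow_eq_pow_val]

theorem detMod_surjective : Function.Surjective (detMod : G2 →* _) := by
  intro x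
  obtain ⟨u, rfl⟩ := QuotientGroup.mk_surjective x
  let d : Fin (m + 2) → F := Function.update 1 0 (u : F)
  have hd : (Matrix.diagonal d).det = u := by
    rw [Matrix.det_diagonal, Finset.prod_update_of_mem (Finset.mem_univ _)]
    simp
  refine ⟨Matrix.GeneralLinearGroup.mkOfDetNeZero (Matrix.diagonal d) (by rw [hd]; exact u.ne_zero),
    congrArg QuotientGroup.mk (Units.ext ?_)⟩
  exact hd

theorem detMod_eq_one_iff (g : G2) : detMod g = 1 ↔ cj g ∈ Cfsg.Inn PG := by
  rw [show detMod g = QuotientGroup.mk (Matrix.GeneralLinearGroup.det g) from rfl,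
    QuotientGroup.eq_one_iff]
  constructor
  · rintro ⟨a, ha⟩
    have hdet : (((scal a)⁻¹ * g : G2) : Matrix (Fin (m + 2)) (Fin (m + 2)) F).det = 1 := by
      have : Matrix.GeneralLinearGroup.det ((scal a)⁻¹ * g : G2) = 1 := by
        rw [map_mul, map_inv, det_scal]
        exact inv_mul_eq_one.2 ha
      exact congrArg Units.val this
    refine ⟨proj (Fin (m + 2)) F ⟨_, hdet⟩, ?_⟩
    refine (cj_toGL ⟨_, hdet⟩).symm.trans ?_
    rw [show Matrix.SpecialLinearGroup.toGL ⟨_, hdet⟩ = (scal a)⁻¹ * g from Units.ext rfl,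
      map_mul, map_inv, cj_scal, inv_one, one_mul]
  · rintro ⟨x, hx⟩
    obtain ⟨s, rfl⟩ := proj_surjective x
    rw [← cj_toGL] at hx
    obtain ⟨a, ha⟩ := (cj_eq_iff _ _).1 hx.symm
    refine ⟨a, ?_⟩
    rw [powMonoidHom_apply, ha, map_mul, det_scal,
      show Matrix.GeneralLinearGroup.det (Matrix.SpecialLinearGroup.toGL s) = 1 from Units.ext s.2,
      mul_one]

theorem isStdField_iff (σ : F ≃+* F) (β : MulAut PG) :
    Cfsg.IsStdFieldAutPSL σ β ↔ β = semi 1 σ := by
  rw [← isInduced_iff]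
  simp [Cfsg.IsStdFieldAutPSL, Cfsg.IsInducedBySemilinearPSL]

theorem galGL_eq_map (σ : F ≃+* F) (g : G2) :
    Matrix.GeneralLinearGroup.map (σ : F →+* F) g = galGL σ g := Units.ext rfl

theorem field_comm (σ : F ≃+* F) (g : G2) : semi 1 σ * cj g = cj (galGL σ g) * semi 1 σ := by
  rw [cj_apply, cj_apply, semi_mul, semi_mul, one_mul, map_one, mul_one, galGL_eq_map]
  exact congrArg _ (RingEquiv.ext fun x => rfl)

theorem ctr_one : ctr (1 : G2) = 1 := Units.ext (by simp [ctr])

theorem invT_comm (σ : F ≃+* F) : (invT : MulAut PG) * semi 1 σ = semi 1 σ * invT := by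
  rw [invT_semi, ctr_one]

theorem invT_cj (g : G2) : (invT : MulAut PG) * cj g = cj (ctr g) * invT := invT_semi g _

theorem field_pow (σ : F ≃+* F) (k : ℕ) : (semi (1 : G2) σ) ^ k = semi 1 (σ ^ k) := by
  induction k with
  | zero => rw [pow_zero, pow_zero]; exact semi_one.symm
  | succ k ih =>
    rw [pow_succ', pow_succ' σ, ih, semi_mul, map_one, one_mul]
    rfl

variable [Fintype F]

theorem aut_comm {p f : ℕ} [Fact p.Prime] (hf : 1 ≤ f) (hF : Fintype.card F = p ^ f)
    (σ τ : F ≃+* F) : σ * τ = τ * σ := by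
  haveI := (fieldAut_facts (F := F) p f hf hF).1
  obtain ⟨γ, hγ⟩ := IsCyclic.exists_generator (α := F ≃+* F)
  obtain ⟨i, rfl⟩ := hγ σ
  obtain ⟨j, rfl⟩ := hγ τ
  exact ((Commute.refl γ).zpow_zpow i j).eq

theorem exists_conj_field {p f : ℕ} [Fact p.Prime] (hf : 1 ≤ f) (hF : Fintype.card F = p ^ f)
    (σ : F ≃+* F) (φ : MulAut PG) (hφ : φ = semi 1 σ ∨ φ = semi 1 σ * invT) (α : MulAut PG) :
    ∃ h : G2, α⁻¹ * φ * α = cj h * φ * (cj h)⁻¹ := by
  have h1 : ∀ τ, Commute (semi (1 : G2) τ) φ := fun τ => by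
    have hc : Commute (semi (1 : G2) τ) (semi 1 σ) := by
      rw [Commute, SemiconjBy, semi_mul, semi_mul, map_one, map_one]
      exact congrArg _ (aut_comm hf hF τ σ)
    rcases hφ with rfl | rfl
    · exact hc
    · exact hc.mul_right (show Commute (semi (1 : G2) τ) invT from (invT_comm τ).symm)
  have h2 : Commute (invT : MulAut PG) φ := by
    rcases hφ with rfl | rfl
    · exact invT_comm σ
    · exact Commute.mul_right (invT_comm σ) (Commute.refl _)
  have key : ∃ (g : G2) (δ : MulAut PG), α⁻¹ = cj g * δ ∧ Commute δ φ := by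
    have hs : ∀ (g : G2) τ, semi g τ = cj g * semi 1 τ := fun g τ => by
      rw [cj_apply, semi_mul, map_one, mul_one]
      congr 1
    rcases exists_semi_or α⁻¹ with ⟨g, τ, h⟩ | ⟨g, τ, h⟩
    · exact ⟨g, semi 1 τ, by rw [h, hs], h1 τ⟩
    · exact ⟨g, semi 1 τ * invT, by rw [h, hs, mul_assoc], (h1 τ).mul_left h2⟩
  obtain ⟨g, δ, he, hc⟩ := key
  refine ⟨g, ?_⟩
  rw [← inv_inv α, inv_inv α⁻¹, he, mul_assoc (cj g) δ φ, hc.eq, _root_.mul_inv_rev]
  group

theorem orderOf_conj (a b : MulAut PG) : orderOf (a * b * a⁻¹) = orderOf b := by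
  rw [← MulAut.conj_apply]; exact (MulAut.conj a).orderOf_eq b

/-- A field automorphism of prime order is an inner-diagonal conjugate of a standard one. -/
theorem field_reduce {p f : ℕ} [Fact p.Prime] (hf : 1 ≤ f) (hF : Fintype.card F = p ^ f)
    {x : MulAut PG} (hx : Cfsg.IsFieldAutClassPSL x) {r : ℕ} (hr : r.Prime) (hxr : orderOf x = r) :
    ∃ (σ : F ≃+* F) (h : G2), orderOf σ = r ∧ x = cj h * semi 1 σ * (cj h)⁻¹ := by
  obtain ⟨α, σ, hσ, hβ⟩ := hx
  have hφ := (isStdField_iff σ _).1 hβ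
  obtain ⟨h, hh⟩ := exists_conj_field hf hF σ _ (.inl rfl) α
  rw [show α⁻¹ * semi 1 σ * α = x by rw [← hφ]; group] at hh
  refine ⟨σ, h, ?_, hh⟩
  haveI := Fact.mk hr
  refine orderOf_eq_prime ?_ (fun e => hσ e)
  have h1 : semi (1 : G2) (σ ^ r) = 1 := by
    rw [← field_pow, ← orderOf_dvd_iff_pow_eq_one, ← orderOf_conj (cj h), ← hh, hxr]
  exact (semi_eq_one_iff.1 h1).1

/-- An involutory graph-field automorphism is an inner-diagonal conjugate of the standard one. -/
theorem gf_reduce {p f : ℕ} [Fact p.Prime] (hf : 1 ≤ f) (hF : Fintype.card F = p ^ f) (hm : 1 ≤ m)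
    {x : MulAut PG} (hx : Cfsg.IsGraphFieldAutClassPSL x) {r : ℕ} (hr : r.Prime) (hxr : orderOf x = r) :
    ∃ (σ : F ≃+* F) (h : G2), r = 2 ∧ orderOf σ = 2 ∧ x = cj h * (semi 1 σ * invT) * (cj h)⁻¹ := by
  obtain ⟨-, α, φ, γ, σ, hσ, hφ, hγ, hβ⟩ := hx
  rw [(isStdField_iff σ _).1 hφ, (isInvT_iff _).1 hγ] at hβ
  obtain ⟨h, hh⟩ := exists_conj_field hf hF σ _ (.inr rfl) α
  rw [show α⁻¹ * (semi 1 σ * invT) * α = x by rw [← hβ]; group] at hh
  have hpow : (semi (1 : G2) σ * invT) ^ r = 1 := by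
    rw [← orderOf_dvd_iff_pow_eq_one, ← orderOf_conj (cj h), ← hh, hxr]
  have hc : Commute (semi (1 : G2) σ) invT := (invT_comm σ).symm
  rw [hc.mul_pow, field_pow] at hpow
  have hr2 : r = 2 := by
    by_contra hne
    obtain ⟨j, hj⟩ := hr.odd_of_ne_two hne
    rw [hj, pow_succ (invT : MulAut PG), pow_mul, pow_two, invT_sq, one_pow, one_mul] at hpow
    exact semi_mul_invT_ne hm 1 1 (RingEquiv.refl F) (σ ^ (2 * j + 1)) (by rw [hpow, semi_one])
  subst hr2
  rw [pow_two (invT : MulAut PG), invT_sq, mul_one] at hpow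
  exact ⟨σ, h, rfl, orderOf_eq_prime (semi_eq_one_iff.1 hpow).1 (fun e => hσ e), hh⟩

theorem field_pow_coset (σ : F ≃+* F) (g : G2) (k : ℕ) :
    (cj g * semi 1 σ) ^ k = cj (twNorm σ k g) * semi 1 σ ^ k := by
  induction k with
  | zero => simp [FieldAut.twNorm]
  | succ k ih =>
    rw [pow_succ', ih, FieldAut.twNorm, map_mul, pow_succ']
    simp only [mul_assoc]
    rw [← mul_assoc (semi 1 σ), field_comm, mul_assoc]

theorem field_coset {σ : F ≃+* F} {r : ℕ} (hσ : orderOf σ = r) (hr : 0 < r) (g : G2)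
    (hord : orderOf (cj g * semi 1 σ) = r) :
    ∃ k : G2, cj g * semi 1 σ = cj k * semi 1 σ * (cj k)⁻¹ := by
  have h1 : (cj g * semi 1 σ) ^ r = 1 := by rw [← hord, pow_orderOf_eq_one]
  rw [field_pow_coset, field_pow, ← hσ, pow_orderOf_eq_one, hσ,
    show semi (1 : G2) (1 : F ≃+* F) = 1 from semi_one, mul_one, cj_eq_one_iff] at h1
  obtain ⟨z, hz⟩ := h1
  obtain ⟨a, k, hk⟩ := FieldAut.exists_twist_of_scalar hσ hr hz
  refine ⟨k, ?_⟩
  rw [mul_assoc (cj k) (semi 1 σ), ← map_inv cj k, field_comm, ← mul_assoc, ← map_mul, map_inv,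
    hk, map_mul cj (scal a), cj_scal, one_mul]

theorem field_commute_iff (σ : F ≃+* F) (g : G2) :
    Commute (cj g) (semi 1 σ) ↔ ∃ a : Fˣ, galGL σ g = scal a * g := by
  rw [Commute, SemiconjBy, field_comm, mul_left_inj, eq_comm, cj_eq_iff]

/-- Centraliser and splitting for a standard field automorphism. -/
theorem field_data {p f : ℕ} [Fact p.Prime] (hF : Fintype.card F = p ^ f) {σ : F ≃+* F} {r : ℕ}
    (hσ : orderOf σ = r) (hr : 0 < r) (F₀ : Type*) [Field F₀] [Fintype F₀]
    (hF₀ : Fintype.card F₀ = p ^ (f / r)) :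
    r ∣ f ∧
      Nonempty (↥((cj : G2 →* MulAut PG).range ⊓ Subgroup.centralizer {semi (1 : G2) σ}) ≃*
        Matrix.ProjGenLinGroup (Fin (m + 2)) F₀) ∧
      Cfsg.splitClassCount (cj : G2 →* MulAut PG).range (Cfsg.Inn PG) (semi (1 : G2) σ) =
        Nat.gcd (m + 2) ((p ^ f - 1) / (p ^ (f / r) - 1)) := by
  obtain ⟨hrf, hQ, -⟩ := FieldAut.order_data Fact.out hF hσ hr
  obtain ⟨e, he⟩ := FieldAut.exists_embedding_fixed σ hσ hr hQ F₀ hF₀
  have hfix : ∀ x, σ (e x) = e x := fun x => (he _).1 ⟨x, rfl⟩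
  have hrange : ∀ x, σ x = x → x ∈ Set.range e := fun x h => (he x).2 h
  have hsurj : ∀ g : G2, Commute (cj g) (semi 1 σ) →
      ∃ (g₀ : GL (Fin (m + 2)) F₀) (a : Fˣ), g = scal a * mapGL e g₀ := fun g hg => by
    obtain ⟨a, ha⟩ := (field_commute_iff σ g).1 hg
    exact FieldAut.exists_mapGL_of_twist hσ hr e hrange ha
  have hmem : ∀ g₀, Commute (cj (mapGL e g₀ : G2)) (semi 1 σ) := fun g₀ =>
    (field_commute_iff σ _).2 ⟨1, by rw [map_one, one_mul]; exact FieldAut.galGL_mapGL e hfix g₀⟩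
  refine ⟨hrf, ?_, ?_⟩
  · obtain ⟨E⟩ := centralizer_equiv (cj : G2 →* MulAut PG) (semi (1 : G2) σ) (cj.comp (mapGL e))
      (fun b => ⟨⟨_, rfl⟩, hmem b⟩) fun g hg => by
        obtain ⟨g₀, a, rfl⟩ := hsurj g hg
        exact ⟨g₀, by rw [map_mul, cj_scal, one_mul]; rfl⟩
    refine ⟨E.trans (QuotientGroup.quotientMulEquivOfEq ?_)⟩
    ext g₀
    rw [MonoidHom.mem_ker, MonoidHom.comp_apply, cj_eq_one_iff]
    have hinj : Function.Injective (mapGL e : GL (Fin (m + 2)) F₀ →* G2) := fun a b h =>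
      Units.ext (Matrix.map_injective e.injective (congrArg Units.val h :))
    constructor
    · rintro ⟨a, ha⟩
      refine Subgroup.mem_center_iff.2 fun y => hinj ?_
      rw [map_mul, map_mul, ha, FieldAut.scal_comm]
    · intro hg
      rw [Matrix.GeneralLinearGroup.center_eq_range_scalar] at hg
      obtain ⟨u, rfl⟩ := hg
      refine ⟨Units.map e.toMonoidHom u, Units.ext ?_⟩
      ext i j
      rw [FieldAut.mapGL_coe, FieldAut.scal_coe, Matrix.map_apply]
      by_cases hij : i = j <;> simp [hij]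
  rw [split_eq_index cj _ (semi (1 : G2) σ) detMod detMod_surjective inn_le_range' detMod_eq_one_iff]
  set P := (powMonoidHom (m + 2) : Fˣ →* Fˣ).range with hP
  set K := fixedUnits σ with hK
  have hKcard : Nat.card K = p ^ (f / r) - 1 := by
    have hr' : K = (Units.map (e : F₀ →* F)).range := by
      ext u
      constructor
      · intro hu
        obtain ⟨y, hy⟩ := hrange _ hu
        have hy0 : y ≠ 0 := fun h0 => u.ne_zero (by rw [← hy, h0, map_zero])
        exact ⟨Units.mk0 y hy0, Units.ext hy⟩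
      · rintro ⟨v, rfl⟩
        exact hfix _
    rw [hr']
    refine (Nat.card_congr (MonoidHom.ofInjective (f := Units.map (e : F₀ →* F))
      (Units.map_injective e.injective)).toEquiv).symm.trans ?_
    rw [Nat.card_units, Nat.card_eq_fintype_card, hF₀]
  have himg : ((Subgroup.centralizer {semi (1 : G2) σ}).comap cj).map detMod =
      (P ⊔ K).map (QuotientGroup.mk' P) := by
    apply le_antisymm
    · rintro _ ⟨g, hg, rfl⟩
      obtain ⟨g₀, a, rfl⟩ := hsurj g (Subgroup.mem_centralizer_singleton_iff.1 hg)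
      refine ⟨_, mul_mem (Subgroup.mem_sup_left (⟨a, rfl⟩ : a ^ (m + 2) ∈ P))
        (Subgroup.mem_sup_right (?_ : Matrix.GeneralLinearGroup.det (mapGL e g₀ : G2) ∈ K)), ?_⟩
      · show σ _ = _
        rw [Matrix.GeneralLinearGroup.val_det_apply, FieldAut.mapGL_coe, ← RingHom.mapMatrix_apply,
          ← RingHom.map_det]
        exact hfix _
      · rw [← det_scal, ← map_mul]; rfl
    · rw [Subgroup.map_sup, QuotientGroup.map_mk'_self, bot_sup_eq]
      rintro _ ⟨u, hu, rfl⟩
      obtain ⟨y, hy⟩ := hrange _ hu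
      have hy0 : y ≠ 0 := fun h0 => u.ne_zero (by rw [← hy, h0, map_zero])
      let d : Fin (m + 2) → F₀ := Function.update 1 0 y
      have hd : (Matrix.diagonal d).det = y := by
        rw [Matrix.det_diagonal, Finset.prod_update_of_mem (Finset.mem_univ _)]
        simp
      refine ⟨mapGL e (Matrix.GeneralLinearGroup.mkOfDetNeZero (Matrix.diagonal d) (by rw [hd]; exact hy0)),
        Subgroup.mem_centralizer_singleton_iff.2 (hmem _).eq, congrArg QuotientGroup.mk (Units.ext ?_)⟩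
      rw [Matrix.GeneralLinearGroup.val_det_apply, FieldAut.mapGL_coe, ← RingHom.mapMatrix_apply,
        ← RingHom.map_det]
      exact (congrArg e hd).trans hy
  rw [himg, Subgroup.index_map, QuotientGroup.ker_mk', sup_eq_left.2 le_sup_left,
    MonoidHom.range_eq_top.2 (QuotientGroup.mk'_surjective P), Subgroup.index_top, mul_one, hP,
    FieldAut.index_pow_sup, Nat.gcd_comm]
  congr 1
  have h := Subgroup.index_mul_card K
  rw [hKcard, Nat.card_units, Nat.card_eq_fintype_card (α := F), hF] at h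
  rw [← h, Nat.mul_div_cancel _ (hKcard ▸ Nat.card_pos)]

end Cfsg.Agent.AutPSL
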