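import Cfsg.Agent.Lib.AutPSL.Twisted

/-!
# Involutory graph-field automorphisms of `PSL`

* `exists_herm_factor` : an invertible hermitian matrix is `k · k̄ᵀ`
* `gf_coset`, `gf_data` : coset conjugacy, `C(φι) ≅ PGU`, splitting of the class
-/

set_option autoImplicit false
set_option linter.unusedSectionVars false
set_option linter.style.haveILetI false

open scoped MatrixGroups Matrix

namespace Cfsg.Agent.AutPSL

open Cfsg.Agent.FieldAut (galGL scal)

variable {F : Type*} [Field F] [Fintype F] {n q : ℕ}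

theorem exists_herm_factor (hF : Fintype.card F = q ^ 2) (H : GL (Fin n) F)
    (hH : ((H : Matrix (Fin n) (Fin n) F).map (Unitary.conjHom hF))ᵀ = H) :
    ∃ k : GL (Fin n) F,
      (H : Matrix (Fin n) (Fin n) F) = k.1 * (k.1.map (Unitary.conjHom hF))ᵀ := by
  classical
  set c := Unitary.conjHom hF
  set A := (H : Matrix (Fin n) (Fin n) F)
  let h : (Fin n → F) → (Fin n → F) → F := fun u v => u ⬝ᵥ (A *ᵥ fun i => c (v i))
  have hcc : ∀ x, c (c x) = x := fun x => Unitary.pow_q_pow_q hF x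
  have hH' : Unitary.IsHerm q h :=
    { add_left := fun x y z => add_dotProduct _ _ _
      smul_left := fun a x z => smul_dotProduct _ _ _
      conj_symm := fun x y => by
        symm
        show c (x ⬝ᵥ (A *ᵥ fun i => c (y i))) = y ⬝ᵥ (A *ᵥ fun i => c (x i))
        rw [RingHom.map_dotProduct,
          show c ∘ (A *ᵥ fun i => c (y i)) = (A.map c) *ᵥ y from funext fun i => by
            show c ((A *ᵥ fun i => c (y i)) i) = _
            rw [RingHom.map_mulVec]
            congr 2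
            exact funext fun j => hcc (y j),
          Matrix.dotProduct_mulVec, ← Matrix.mulVec_transpose, hH, dotProduct_comm]
        rfl }
  have hnd : Unitary.Nondeg h := by
    intro x hx
    refine Matrix.eq_zero_of_vecMul_eq_zero H.det_ne_zero (funext fun j => ?_)
    have h1 := hx (Pi.single j 1)
    have h2 : (fun i => c ((Pi.single j (1 : F) : Fin n → F) i)) = Pi.single j 1 := by
      funext i
      rcases eq_or_ne i j with rfl | hij <;> simp [*]
    simp only [h, h2, Matrix.dotProduct_mulVec, dotProduct_single_one] at h1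
    exact h1
  obtain ⟨b, hb⟩ := Unitary.exists_orthonormalBasis hF hH' hnd
  have hd : Module.finrank F (Fin n → F) = n := Module.finrank_fin_fun F
  let P : Matrix (Fin n) (Fin n) F := Matrix.of fun i j => b (Fin.cast hd.symm j) i
  have hPA : Pᵀ * A * P.map c = 1 := by
    ext i j
    have h1 : (Pᵀ * A * P.map c) i j = h (b (Fin.cast hd.symm i)) (b (Fin.cast hd.symm j)) := by
      rw [Matrix.mul_assoc, Matrix.mul_apply]
      refine Finset.sum_congr rfl fun l _ => ?_
      simp [P, Matrix.mul_apply, Matrix.mulVec, dotProduct]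
    rw [h1, hb.apply, Matrix.one_apply]
    simp [Fin.cast_inj]
  have hP : IsUnit P := (Matrix.isUnit_iff_isUnit_det _).2 (isUnit_iff_ne_zero.2 fun h0 => by
    have := congrArg Matrix.det hPA
    rw [Matrix.det_mul, Matrix.det_mul, Matrix.det_transpose, h0, zero_mul, zero_mul, Matrix.det_one] at this
    exact zero_ne_one this)
  let k : GL (Fin n) F := ctr hP.unit
  refine ⟨k, ?_⟩
  have hkv : k.1 = ((hP.unit⁻¹ : GL (Fin n) F) : Matrix (Fin n) (Fin n) F)ᵀ := rfl
  have hPu : (hP.unit : GL (Fin n) F).1 = P := IsUnit.unit_spec hP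
  have hPP : P * ((hP.unit⁻¹ : GL (Fin n) F) : Matrix (Fin n) (Fin n) F) = 1 := by
    have := Units.mul_inv hP.unit
    rwa [hPu] at this
  have h1 : k.1 * Pᵀ = 1 := by
    rw [hkv, ← Matrix.transpose_mul, hPP, Matrix.transpose_one]
  have h2 : P.map c * (k.1.map c)ᵀ = 1 := by
    rw [← Matrix.transpose_map, hkv, Matrix.transpose_transpose]
    rw [← Matrix.map_mul, hPP, Matrix.map_one _ (map_zero c) (map_one c)]
  calc A = k.1 * Pᵀ * A * (P.map c * (k.1.map c)ᵀ) := by rw [h1, h2, Matrix.one_mul, Matrix.mul_one]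
    _ = k.1 * (Pᵀ * A * P.map c) * (k.1.map c)ᵀ := by simp only [Matrix.mul_assoc]
    _ = _ := by rw [hPA, Matrix.mul_one]

theorem ctr_mul_transpose (g : GL (Fin n) F) : (ctr g).1 * g.1ᵀ = 1 := by
  show ((g⁻¹ : GL (Fin n) F) : Matrix (Fin n) (Fin n) F)ᵀ * g.1ᵀ = 1
  rw [← Matrix.transpose_mul, Units.mul_inv, Matrix.transpose_one]

theorem transpose_mul_ctr (g : GL (Fin n) F) : g.1ᵀ * (ctr g).1 = 1 := by
  show g.1ᵀ * ((g⁻¹ : GL (Fin n) F) : Matrix (Fin n) (Fin n) F)ᵀ = 1
  rw [← Matrix.transpose_mul, Units.inv_mul, Matrix.transpose_one]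

variable {m : ℕ} {σ : F ≃+* F}

local notation "PG" => Matrix.ProjectiveSpecialLinearGroup (Fin (m + 2)) F
local notation "G2" => GL (Fin (m + 2)) F
local notation "M2" => Matrix (Fin (m + 2)) (Fin (m + 2)) F

/-- The action on `GL` of the standard graph-field automorphism. -/
noncomputable def tw (σ : F ≃+* F) (g : G2) : G2 := galGL σ (ctr g)

theorem gf_comm (σ : F ≃+* F) (g : G2) :
    (semi 1 σ * invT : MulAut PG) * cj g = cj (tw σ g) * (semi 1 σ * invT) := by
  rw [mul_assoc, invT_cj, ← mul_assoc, field_comm, mul_assoc]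
  rfl

theorem gf_sq (hσ2 : orderOf σ = 2) : (semi (1 : G2) σ * invT : MulAut PG) ^ 2 = 1 := by
  rw [(show Commute (semi (1 : G2) σ) invT from (invT_comm σ).symm).mul_pow, field_pow, ← hσ2,
    pow_orderOf_eq_one, hσ2, pow_two (invT : MulAut PG), invT_sq, mul_one]
  exact semi_one

theorem sigma_invol (hσ2 : orderOf σ = 2) (x : F) : σ (σ x) = x := by
  have := pow_orderOf_eq_one σ
  rw [hσ2, pow_two] at this
  exact RingEquiv.congr_fun this x

theorem tw_spec (g : G2) : (tw σ g).1 * (g.1.map σ)ᵀ = 1 := by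
  rw [tw, FieldAut.galGL_apply_coe, ← Matrix.transpose_map, ← Matrix.map_mul, ctr_mul_transpose,
    Matrix.map_one _ (map_zero σ) (map_one σ)]

theorem tw_spec' (g : G2) : (g.1.map σ)ᵀ * (tw σ g).1 = 1 :=
  mul_eq_one_comm.1 (tw_spec g)

/-- An involutory automorphism of the field of order `q²` is the `q`-th power. -/
theorem sigma_eq_pow (hσ2 : orderOf σ = 2) (hF : Fintype.card F = q ^ 2) (x : F) : σ x = x ^ q := by
  classical
  have hcard : Nat.card (FieldAut.fixF σ) = q :=
    Nat.pow_left_injective two_ne_zero (by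
      show Nat.card (FieldAut.fixF σ) ^ 2 = q ^ 2
      rw [FieldAut.pow_card_fixed σ hσ2, Nat.card_eq_fintype_card, hF])
  haveI : Fintype (FieldAut.fixF σ) := Fintype.ofFinite _
  have hfix : ∀ y, σ y = y → y ^ q = y := fun y hy => by
    have h := congrArg Subtype.val
      (FiniteField.pow_card (⟨y, (FieldAut.mem_fixF σ).2 hy⟩ : FieldAut.fixF σ))
    rw [← Nat.card_eq_fintype_card, hcard] at h
    exact h
  have ht : (x + σ x) ^ q = x + σ x := hfix _ (by rw [map_add, sigma_invol hσ2, add_comm])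
  have hd : (x * σ x) ^ q = x * σ x := hfix _ (by rw [map_mul, sigma_invol hσ2, mul_comm])
  rw [Unitary.add_pow_q hF] at ht
  rw [mul_pow] at hd
  have h0 : (x ^ q - x) * (x ^ q - σ x) = 0 := by linear_combination -hd + (x ^ q) * ht
  rcases mul_eq_zero.1 h0 with h | h
  · let ψ : {y : F // σ y = y} → {y : F // y ^ q = y} := fun y => ⟨y.1, hfix _ y.2⟩
    have hbij : Function.Bijective ψ :=
      (Function.Injective.bijective_of_nat_card_le
        (fun a b hab => Subtype.ext (congrArg Subtype.val hab :)) (le_of_eq (by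
          rw [Unitary.card_fixed hF, ← hcard]
          exact Nat.card_congr (Equiv.subtypeEquivRight fun y => FieldAut.mem_fixF σ))))
    obtain ⟨y, hy⟩ := hbij.2 ⟨x, sub_eq_zero.1 h⟩
    have hyx : y.1 = x := congrArg Subtype.val hy
    rw [sub_eq_zero.1 h, ← hyx]
    exact y.2
  · exact (sub_eq_zero.1 h).symm

theorem gf_coset (hσ2 : orderOf σ = 2) (hF : Fintype.card F = q ^ 2) (g : G2)
    (hord : orderOf (cj g * (semi 1 σ * invT)) = 2) :
    ∃ k : G2, cj g * (semi 1 σ * invT) = cj k * (semi 1 σ * invT) * (cj k)⁻¹ := by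
  have hσc : (σ : F → F) = Unitary.conjHom hF := funext fun x => sigma_eq_pow hσ2 hF x
  set φ : MulAut PG := semi 1 σ * invT with hφ
  have h1 : (cj g * φ) ^ 2 = 1 := orderOf_dvd_iff_pow_eq_one.1 hord.dvd
  rw [pow_two, mul_assoc, ← mul_assoc φ, gf_comm, mul_assoc, ← pow_two, gf_sq hσ2, mul_one, ← map_mul,
    cj_eq_one_iff] at h1
  obtain ⟨z, hz⟩ := h1
  have hg : g.1 = (z : F) • (g.1.map σ)ᵀ := by
    have h := congrArg (fun M : M2 => M * (g.1.map σ)ᵀ) (congrArg Units.val hz)
    simpa [Matrix.mul_assoc, tw_spec, FieldAut.scal_coe] using h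
  have hg' : (g.1.map σ)ᵀ = σ z • g.1 := by
    conv_lhs => rw [hg]
    ext i j
    simp [sigma_invol hσ2]
  have hnorm : FieldAut.normU σ 2 z = 1 := by
    have h : g.1 = ((z : F) * σ z) • g.1 := by
      conv_lhs => rw [hg, hg', smul_smul]
    obtain ⟨i, j, hij⟩ : ∃ i j, g.1 i j ≠ 0 := by
      by_contra! h0
      exact g.ne_zero (Matrix.ext h0)
    have h' := congrFun (congrFun h i) j
    rw [Matrix.smul_apply, smul_eq_mul, eq_comm, mul_eq_right₀ hij] at h'
    refine Units.ext ?_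
    simp only [FieldAut.normU, MonoidHom.finsetProd_apply, Finset.prod_range_succ, Finset.prod_range_zero,
      pow_zero, pow_one, one_mul, Units.val_mul, Units.coe_map, Units.val_one]
    exact h'
  obtain ⟨d, hd⟩ := FieldAut.exists_units_eq_twist hσ2 two_pos hnorm
  set H : G2 := scal d⁻¹ * g
  have hH : H.1 = ((d⁻¹ : Fˣ) : F) • g.1 := by
    rw [Units.val_mul, FieldAut.scal_coe, smul_mul_assoc, one_mul]
  have hHh : (H.1.map (Unitary.conjHom hF))ᵀ = H.1 := by
    rw [← hσc, hH]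
    have e : ((((d⁻¹ : Fˣ) : F) • g.1).map σ)ᵀ = σ ((d⁻¹ : Fˣ) : F) • (g.1.map σ)ᵀ := by
      ext i j; simp
    rw [e]
    conv_rhs => rw [hg, smul_smul]
    congr 1
    rw [hd]
    simp
  obtain ⟨k, hk⟩ := exists_herm_factor hF H hHh
  refine ⟨k, ?_⟩
  rw [mul_assoc (cj k) φ, ← map_inv cj k, gf_comm, ← mul_assoc (cj k), ← map_mul]
  congr 1
  rw [← mul_inv_cancel_left (scal d) g, ← map_inv scal, map_mul, cj_scal, one_mul]
  refine congrArg _ (Units.ext ?_)
  have hktw : (tw σ k⁻¹).1 = (k.1.map σ)ᵀ := by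
    show ((((k⁻¹)⁻¹ : G2) : M2)ᵀ).map σ = _
    rw [inv_inv, Matrix.transpose_map]
  rw [hk, Units.val_mul, hktw, hσc]

theorem gf_commute_iff (σ : F ≃+* F) (g : G2) :
    Commute (cj g) (semi 1 σ * invT : MulAut PG) ↔ ∃ a : Fˣ, tw σ g = scal a * g := by
  rw [Commute, SemiconjBy, gf_comm, mul_left_inj, eq_comm, cj_eq_iff]

/-- Centraliser and splitting for the standard involutory graph-field automorphism. -/
theorem gf_data (hσ2 : orderOf σ = 2) (hF : Fintype.card F = q ^ 2) :
    Nonempty (↥((cj : G2 →* MulAut PG).range ⊓ Subgroup.centralizer {(semi 1 σ * invT : MulAut PG)}) ≃*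
        Cfsg.PGU (m + 2) F q) ∧
      Cfsg.splitClassCount (cj : G2 →* MulAut PG).range (Cfsg.Inn PG) (semi 1 σ * invT) =
        Nat.gcd (m + 2) (q - 1) := by
  have hσc : (σ : F → F) = Unitary.conjHom hF := funext fun x => sigma_eq_pow hσ2 hF x
  have hGU : ∀ g : G2, g ∈ Cfsg.GU (m + 2) F q ↔ tw σ g = g := by
    intro g
    rw [FieldAut.mem_GU_iff_matrix hF, ← hσc]
    constructor
    · intro h
      have h' : (g.1.map σ)ᵀ * g.1 = 1 := by
        have := congrArg Matrix.transpose h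
        rwa [Matrix.transpose_mul, Matrix.transpose_one, Matrix.transpose_transpose] at this
      refine Units.ext ?_
      calc (tw σ g).1 = (tw σ g).1 * ((g.1.map σ)ᵀ * g.1) := by rw [h', Matrix.mul_one]
        _ = g.1 := by rw [← Matrix.mul_assoc, tw_spec, Matrix.one_mul]
    · intro h
      have h' := tw_spec' (σ := σ) g
      rw [h] at h'
      have := congrArg Matrix.transpose h'
      rwa [Matrix.transpose_mul, Matrix.transpose_one, Matrix.transpose_transpose] at this
  have hmem : ∀ u : Cfsg.GU (m + 2) F q, Commute (cj (u : G2)) (semi 1 σ * invT : MulAut PG) := fun u =>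
    (gf_commute_iff σ _).2 ⟨1, by rw [map_one, one_mul]; exact (hGU _).1 u.2⟩
  have hsurj : ∀ g : G2, Commute (cj g) (semi 1 σ * invT : MulAut PG) →
      ∃ (s : Fˣ) (u : Cfsg.GU (m + 2) F q), g = scal s * (u : G2) := by
    intro g hg
    obtain ⟨a, ha⟩ := (gf_commute_iff σ g).1 hg
    have h1 : g.1ᵀ * g.1.map σ = ((a⁻¹ : Fˣ) : F) • 1 := by
      have h2 := tw_spec' (σ := σ) g
      rw [ha, Units.val_mul, FieldAut.scal_coe, smul_mul_assoc, one_mul, Matrix.mul_smul] at h2
      have h3 : (g.1.map σ)ᵀ * g.1 = ((a⁻¹ : Fˣ) : F) • 1 := by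
        rw [← h2, smul_smul, Units.inv_mul, one_smul]
      have := congrArg Matrix.transpose h3
      rwa [Matrix.transpose_mul, Matrix.transpose_smul, Matrix.transpose_one,
        Matrix.transpose_transpose] at this
    have hfix : σ ((a⁻¹ : Fˣ) : F) = ((a⁻¹ : Fˣ) : F) := by
      have e1 : ((g.1ᵀ * g.1.map σ).map σ)ᵀ = g.1ᵀ * g.1.map σ := by
        rw [Matrix.map_mul, Matrix.transpose_mul, Matrix.map_map, ← Matrix.transpose_map,
          Matrix.transpose_map]
        congr 1 <;> ext i j <;> simp [sigma_invol hσ2]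
      rw [h1] at e1
      have := congrFun (congrFun e1 0) 0
      simpa using this
    obtain ⟨s, hs⟩ := Unitary.exists_norm_eq hF (c := ((a⁻¹ : Fˣ) : F))
      (by rw [← sigma_eq_pow hσ2 hF, hfix])
    have hs0 : s ≠ 0 := fun h => (a⁻¹).ne_zero (by rw [← hs, h, zero_pow (Nat.succ_ne_zero q)])
    refine ⟨Units.mk0 s hs0, ⟨scal (Units.mk0 s hs0)⁻¹ * g, ?_⟩, ?_⟩
    · rw [FieldAut.mem_GU_iff_matrix hF, ← hσc, Units.val_mul, FieldAut.scal_coe, smul_mul_assoc,
        one_mul, Matrix.transpose_smul]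
      have e : ((((Units.mk0 s hs0)⁻¹ : Fˣ) : F) • g.1).map σ = (s⁻¹) ^ q • g.1.map σ := by
        ext i j; simp [sigma_eq_pow hσ2 hF, mul_pow]
      rw [e, Matrix.smul_mul, Matrix.mul_smul, h1, smul_smul, smul_smul, Units.val_inv_eq_inv_val,
        Units.val_mk0, ← pow_succ', inv_pow, ← hs, inv_mul_cancel₀ (pow_ne_zero _ hs0), one_smul]
    · show g = scal (Units.mk0 s hs0) * (scal (Units.mk0 s hs0)⁻¹ * g)
      rw [← mul_assoc, ← map_mul, mul_inv_cancel, map_one, one_mul]
  refine ⟨?_, ?_⟩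
  · obtain ⟨E⟩ := centralizer_equiv (cj : G2 →* MulAut PG) (semi 1 σ * invT)
      (cj.comp (Cfsg.GU (m + 2) F q).subtype) (fun b => ⟨⟨_, rfl⟩, hmem b⟩) fun g hg => by
        obtain ⟨s, u, rfl⟩ := hsurj g hg
        exact ⟨u, by rw [map_mul, cj_scal, one_mul]; rfl⟩
    refine ⟨E.trans (QuotientGroup.quotientMulEquivOfEq ?_)⟩
    ext u
    rw [MonoidHom.mem_ker, MonoidHom.comp_apply, cj_eq_one_iff, Subgroup.mem_subgroupOf]
    exact ⟨fun ⟨a, ha⟩ => ⟨a, ha.symm⟩, fun ⟨a, ha⟩ => ⟨a, ha.symm⟩⟩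
  rw [split_eq_index cj _ _ detMod detMod_surjective inn_le_range' detMod_eq_one_iff]
  set P := (powMonoidHom (m + 2) : Fˣ →* Fˣ).range with hP
  set μ := (powMonoidHom (q + 1) : Fˣ →* Fˣ).ker with hμ
  have hrange := Unitary.detHom_range (n := m + 2) hF (by omega)
  have himg : ((Subgroup.centralizer {(semi 1 σ * invT : MulAut PG)}).comap cj).map detMod =
      (P ⊔ μ).map (QuotientGroup.mk' P) := by
    apply le_antisymm
    · rintro _ ⟨g, hg, rfl⟩
      obtain ⟨s, u, rfl⟩ := hsurj g (Subgroup.mem_centralizer_singleton_iff.1 hg)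
      refine ⟨_, mul_mem (Subgroup.mem_sup_left (⟨s, rfl⟩ : s ^ (m + 2) ∈ P))
        (Subgroup.mem_sup_right (hrange.le ⟨u, rfl⟩)), ?_⟩
      show QuotientGroup.mk (s ^ (m + 2) * Matrix.GeneralLinearGroup.det (u : G2)) = _
      rw [← det_scal, ← map_mul]; rfl
    · rw [Subgroup.map_sup, QuotientGroup.map_mk'_self, bot_sup_eq]
      rintro _ ⟨d, hd, rfl⟩
      obtain ⟨u, hu⟩ := hrange.ge hd
      exact ⟨(u : G2), Subgroup.mem_centralizer_singleton_iff.2 (hmem u).eq, congrArg QuotientGroup.mk hu⟩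
  rw [himg, Subgroup.index_map, QuotientGroup.ker_mk', sup_eq_left.2 le_sup_left,
    MonoidHom.range_eq_top.2 (QuotientGroup.mk'_surjective P), Subgroup.index_top, mul_one, hP,
    FieldAut.index_pow_sup, Nat.gcd_comm]
  congr 1
  have hμcard : Nat.card μ = q + 1 := by
    rw [hμ, IsCyclic.card_powMonoidHom_ker, Unitary.card_units hF,
      Nat.gcd_eq_right (Unitary.q_succ_dvd q)]
  have h := Subgroup.index_mul_card μ
  rw [hμcard, Unitary.card_units hF] at h
  refine Nat.eq_of_mul_eq_mul_right (Nat.succ_pos q) (h.trans ?_)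
  rw [Nat.succ_eq_add_one, mul_comm, ← Nat.sq_sub_sq, one_pow]

end Cfsg.Agent.AutPSL
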